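import Cfsg.Agent.H957.T5M

/-!
# Reduction of S2275 to the simple groups

`main`: if the middle row `MRow p S` (file `H957/T5M`) holds for all finite non-abelian simple
groups `S`, then a finite group `G` generated by the class of `c₀` and by the class of `d₀`, in
which all `c ^ i * d ^ j` are `p`-elements, is a cyclic `p`-group.
-/

set_option autoImplicit false

universe u

namespace Cfsg.Agent.H106.TwoRed

open Cfsg.Agent.H533.T5 Cfsg.Agent.H957.T5M

variable {G : Type*} [Group G]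

/-- All `x ^ i * y ^ j`, `x` conjugate to `c`, `y` conjugate to `d`, are `p`-elements. -/
def AllP (p : ℕ) (c d : G) : Prop :=
  ∀ g h : G, ∀ i j : ℤ, ∃ k : ℕ, ((g * c * g⁻¹) ^ i * (h * d * h⁻¹) ^ j) ^ p ^ k = 1

/-- The group is generated by the conjugates of `c`. -/
def Gen (c : G) : Prop := ∀ H : Subgroup G, (∀ g : G, g * c * g⁻¹ ∈ H) → H = ⊤

theorem Gen.map {G' : Type*} [Group G'] {c : G} (h : Gen c) (φ : G →* G')
    (hφ : Function.Surjective φ) : Gen (φ c) := by
  intro H hH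
  have h1 : H.comap φ = ⊤ := by
    refine h _ fun g => ?_
    rw [Subgroup.mem_comap, map_mul, map_mul, map_inv]
    exact hH _
  rw [eq_top_iff]
  intro y _
  obtain ⟨x, rfl⟩ := hφ y
  have : x ∈ H.comap φ := by rw [h1]; exact Subgroup.mem_top _
  exact this

theorem AllP.map {G' : Type*} [Group G'] {p : ℕ} {c d : G} (h : AllP p c d) (φ : G →* G')
    (hφ : Function.Surjective φ) : AllP p (φ c) (φ d) := by
  intro g' h' i j
  obtain ⟨g, rfl⟩ := hφ g'
  obtain ⟨k, rfl⟩ := hφ h'
  obtain ⟨m, hm⟩ := h g k i j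
  refine ⟨m, ?_⟩
  have := congrArg φ hm
  simpa using this

theorem Gen.zpowers_of_normal {c : G} (h : Gen c) (hn : (Subgroup.zpowers c).Normal) :
    Subgroup.zpowers c = ⊤ :=
  h _ fun g => hn.conj_mem _ (Subgroup.mem_zpowers c) g

/-- A finite `p`-group generated by one conjugacy class is cyclic. -/
theorem Gen.zpowers_of_pgroup [Finite G] {p : ℕ} [Fact p.Prime] {c : G} (h : Gen c)
    (hG : IsPGroup p G) : Subgroup.zpowers c = ⊤ := by
  by_contra hne
  have := hG.isNilpotent
  obtain ⟨M, hM, hle⟩ := (eq_top_or_exists_le_coatom (Subgroup.zpowers c)).resolve_left hne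
  have hMn : M.Normal := Subgroup.NormalizerCondition.normal_of_coatom M
    Group.normalizerCondition_of_isNilpotent hM
  exact hM.1 (h M fun g => hMn.conj_mem _ (hle (Subgroup.mem_zpowers c)) g)

section minimal

/-- `N` is a minimal normal subgroup. -/
structure MinNormal (N : Subgroup G) : Prop where
  normal : N.Normal
  ne_bot : N ≠ ⊥
  min : ∀ K : Subgroup G, K.Normal → K ≤ N → K ≠ ⊥ → K = N

theorem exists_minNormal [Finite G] [Nontrivial G] : ∃ N : Subgroup G, MinNormal N := by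
  have hfin : {K : Subgroup G | K.Normal ∧ K ≠ ⊥}.Finite := Set.toFinite _
  have hne : {K : Subgroup G | K.Normal ∧ K ≠ ⊥}.Nonempty :=
    ⟨⊤, inferInstance, top_ne_bot⟩
  obtain ⟨N, hN⟩ := hfin.exists_minimal hne
  refine ⟨N, hN.prop.1, hN.prop.2, fun K hK hKN hKb => ?_⟩
  exact le_antisymm hKN (hN.le_of_le ⟨hK, hKb⟩ hKN)

/-- `L` is a non-trivial subgroup of `N` normalised by `N`. -/
structure NormIn (N L : Subgroup G) : Prop where
  le : L ≤ N
  ne_bot : L ≠ ⊥
  conj : ∀ n ∈ N, ∀ l ∈ L, n * l * n⁻¹ ∈ L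

/-- `L` is minimal among the non-trivial subgroups of `N` normalised by `N`. -/
structure MinIn (N L : Subgroup G) : Prop extends NormIn N L where
  min : ∀ K : Subgroup G, NormIn N K → K ≤ L → K = L

theorem exists_minIn [Finite G] {N : Subgroup G} (hN : N ≠ ⊥) : ∃ L : Subgroup G, MinIn N L := by
  have hfin : {K : Subgroup G | NormIn N K}.Finite := Set.toFinite _
  have hne : {K : Subgroup G | NormIn N K}.Nonempty :=
    ⟨N, le_rfl, hN, fun n hn l hl => N.mul_mem (N.mul_mem hn hl) (N.inv_mem hn)⟩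
  obtain ⟨L, hL⟩ := hfin.exists_minimal hne
  refine ⟨L, hL.prop, fun K hK hKL => ?_⟩
  exact le_antisymm hKL (hL.le_of_le hK hKL)

/-- The conjugate `g L g⁻¹`. -/
def cj (g : G) (L : Subgroup G) : Subgroup G := L.map (MulAut.conj g).toMonoidHom

theorem mem_cj {g : G} {L : Subgroup G} {x : G} : x ∈ cj g L ↔ g⁻¹ * x * g ∈ L := by
  constructor
  · rintro ⟨l, hl, rfl⟩
    have : g⁻¹ * ((MulAut.conj g).toMonoidHom l) * g = l := by
      simp [MulAut.conj_apply, mul_assoc]
    rw [this]; exact hl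
  · intro h
    refine ⟨g⁻¹ * x * g, h, ?_⟩
    simp [MulAut.conj_apply, mul_assoc]

theorem cj_cj (g h : G) (L : Subgroup G) : cj g (cj h L) = cj (g * h) L := by
  ext x
  rw [mem_cj, mem_cj, mem_cj]
  have : h⁻¹ * (g⁻¹ * x * g) * h = (g * h)⁻¹ * x * (g * h) := by group
  rw [this]

theorem cj_one (L : Subgroup G) : cj 1 L = L := by
  ext x; rw [mem_cj]; simp

theorem MinIn.cj {N L : Subgroup G} (hN : N.Normal) (h : MinIn N L) (g : G) :
    MinIn N (cj g L) := by
  have key : ∀ (g : G) (K : Subgroup G), NormIn N K → NormIn N (TwoRed.cj g K) := by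
    intro g K hK
    refine ⟨?_, ?_, ?_⟩
    · intro x hx
      rw [mem_cj] at hx
      have h1 := hN.conj_mem _ (hK.le hx) g
      have : g * (g⁻¹ * x * g) * g⁻¹ = x := by group
      rwa [this] at h1
    · intro hb
      apply hK.ne_bot
      rw [eq_bot_iff]
      intro x hx
      have h1 : g * x * g⁻¹ ∈ TwoRed.cj g K := by
        rw [mem_cj]
        have : g⁻¹ * (g * x * g⁻¹) * g = x := by group
        rwa [this]
      rw [hb, Subgroup.mem_bot] at h1
      rw [Subgroup.mem_bot]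
      calc x = g⁻¹ * (g * x * g⁻¹) * g := by group
        _ = 1 := by rw [h1]; group
    · intro n hn l hl
      rw [mem_cj] at hl ⊢
      have h1 : g⁻¹ * n * g ∈ N := by
        have := hN.conj_mem _ hn g⁻¹
        simpa using this
      have h2 := hK.conj _ h1 _ hl
      have : g⁻¹ * n * g * (g⁻¹ * l * g) * (g⁻¹ * n * g)⁻¹ = g⁻¹ * (n * l * n⁻¹) * g := by group
      rwa [this] at h2
  refine ⟨key g L h.toNormIn, fun K hK hKL => ?_⟩
  have h1 : TwoRed.cj g⁻¹ K = L := by
    refine h.min _ (key _ _ hK) ?_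
    intro x hx
    rw [mem_cj] at hx
    have h2 := hKL hx
    rw [mem_cj] at h2
    have : g⁻¹ * (g⁻¹⁻¹ * x * g⁻¹) * g = x := by group
    rwa [this] at h2
  rw [← h1, cj_cj, mul_inv_cancel, cj_one]

/-- Two different minimal normal subgroups of `N` commute. -/
theorem MinIn.commute {N L M : Subgroup G} (hL : MinIn N L) (hM : MinIn N M) (hne : L ≠ M) :
    ∀ x ∈ L, ∀ y ∈ M, Commute x y := by
  have hdis : L ⊓ M = ⊥ := by
    by_contra hb
    have h1 : NormIn N (L ⊓ M) :=
      ⟨inf_le_left.trans hL.le, hb, fun n hn l hl => ⟨hL.conj n hn l hl.1, hM.conj n hn l hl.2⟩⟩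
    exact hne ((hL.min _ h1 inf_le_left).symm.trans (hM.min _ h1 inf_le_right))
  intro x hx y hy
  have h1 : x * y * x⁻¹ * y⁻¹ ∈ L ⊓ M := by
    refine ⟨?_, ?_⟩
    · have : x * y * x⁻¹ * y⁻¹ = x * (y * x⁻¹ * y⁻¹) := by group
      rw [this]
      exact L.mul_mem hx (hL.conj y (hM.le hy) _ (L.inv_mem hx))
    · exact M.mul_mem (hM.conj x (hL.le hx) y hy) (M.inv_mem hy)
  rw [hdis, Subgroup.mem_bot] at h1
  have h2 : x * y * x⁻¹ = y := by rwa [mul_inv_eq_one] at h1
  exact mul_inv_eq_iff_eq_mul.1 h2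

end minimal

section structure_min

variable {N L : Subgroup G}

/-- The elements of `N` centralising `L`. -/
def cen (N L : Subgroup G) : Subgroup G := N ⊓ Subgroup.centralizer (L : Set G)

theorem mem_cen {x : G} : x ∈ cen N L ↔ x ∈ N ∧ ∀ l ∈ L, Commute l x := by
  rw [cen, Subgroup.mem_inf, Subgroup.mem_centralizer_iff]
  exact Iff.rfl

theorem cen_conj (hL : MinIn N L) {n : G} (hn : n ∈ N) {x : G} (hx : x ∈ cen N L) :
    n * x * n⁻¹ ∈ cen N L := by
  rw [mem_cen] at hx ⊢
  refine ⟨mul_mem (mul_mem hn hx.1) (inv_mem hn), fun l hl => ?_⟩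
  have h1 := hx.2 _ (by simpa using hL.conj n⁻¹ (inv_mem hn) l hl)
  have h2 : Commute (n * (n⁻¹ * l * n) * n⁻¹) (n * x * n⁻¹) := by
    have := h1.map (MulAut.conj n)
    simpa [MulAut.conj_apply] using this
  have h3 : n * (n⁻¹ * l * n) * n⁻¹ = l := by group
  rwa [h3] at h2

/-- The subgroup `L C_N(L)`. -/
def prodSub (N L : Subgroup G) : Subgroup G where
  carrier := {x | ∃ l ∈ L, ∃ k ∈ cen N L, x = l * k}
  one_mem' := ⟨1, one_mem _, 1, one_mem _, by simp⟩
  mul_mem' := by
    rintro _ _ ⟨l, hl, k, hk, rfl⟩ ⟨l', hl', k', hk', rfl⟩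
    refine ⟨l * l', mul_mem hl hl', k * k', mul_mem hk hk', ?_⟩
    have := ((mem_cen.1 hk).2 l' hl').eq
    calc l * k * (l' * k') = l * (k * l') * k' := by group
      _ = l * (l' * k) * k' := by rw [this]
      _ = _ := by group
  inv_mem' := by
    rintro _ ⟨l, hl, k, hk, rfl⟩
    refine ⟨l⁻¹, inv_mem hl, k⁻¹, inv_mem hk, ?_⟩
    have := ((mem_cen.1 (inv_mem hk)).2 l⁻¹ (inv_mem hl)).eq
    rw [mul_inv_rev, this]

theorem le_prodSub (hN : MinNormal N) (hL : MinIn N L) :
    ∀ x ∈ N, ∃ l ∈ L, ∃ k ∈ cen N L, x = l * k := by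
  let K : Subgroup G := Subgroup.closure {x | ∃ g : G, ∃ l ∈ L, x = g * l * g⁻¹}
  have hKn : K.Normal := by
    constructor
    intro x hx g
    induction hx using Subgroup.closure_induction with
    | mem x hx =>
      obtain ⟨h, l, hl, rfl⟩ := hx
      exact Subgroup.subset_closure ⟨g * h, l, hl, by group⟩
    | one => simp
    | mul x y _ _ hx hy =>
      have : g * (x * y) * g⁻¹ = (g * x * g⁻¹) * (g * y * g⁻¹) := by group
      rw [this]; exact mul_mem hx hy
    | inv x _ hx =>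
      have : g * x⁻¹ * g⁻¹ = (g * x * g⁻¹)⁻¹ := by group
      rw [this]; exact inv_mem hx
  have hKN : K ≤ N := by
    rw [Subgroup.closure_le]
    rintro _ ⟨g, l, hl, rfl⟩
    exact hN.normal.conj_mem _ (hL.le hl) g
  have hLK : L ≤ K := fun l hl => Subgroup.subset_closure ⟨1, l, hl, by simp⟩
  have hKb : K ≠ ⊥ := by
    intro hb
    apply hL.ne_bot
    rw [eq_bot_iff, ← hb]
    exact hLK
  have hK := hN.min K hKn hKN hKb
  have hle : K ≤ prodSub N L := by
    rw [Subgroup.closure_le]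
    rintro _ ⟨g, l, hl, rfl⟩
    have hmem : g * l * g⁻¹ ∈ cj g L := by
      rw [mem_cj]
      have : g⁻¹ * (g * l * g⁻¹) * g = l := by group
      rwa [this]
    by_cases hg : L = cj g L
    · rw [← hg] at hmem
      exact ⟨_, hmem, 1, one_mem _, by simp⟩
    · refine ⟨1, one_mem _, g * l * g⁻¹, ?_, by simp⟩
      rw [mem_cen]
      refine ⟨(hL.cj hN.normal g).le hmem, fun l' hl' => ?_⟩
      exact hL.commute (hL.cj hN.normal g) hg l' hl' _ hmem
  intro x hx
  rw [← hK] at hx
  exact hle hx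

/-- If `L` is not abelian, it is simple. -/
theorem simple_of_minIn (hN : MinNormal N) (hL : MinIn N L) : IsSimpleGroup L := by
  have : Nontrivial L := by
    rw [Subgroup.nontrivial_iff_ne_bot]; exact hL.ne_bot
  refine ⟨fun K hK => ?_⟩
  by_cases hb : K = ⊥
  · exact Or.inl hb
  · right
    have h1 : NormIn N (K.map L.subtype) := by
      refine ⟨(Subgroup.map_subtype_le K).trans hL.le, ?_, ?_⟩
      · intro h2
        apply hb
        exact (Subgroup.map_eq_bot_iff_of_injective K L.subtype_injective).1 h2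
      · rintro n hn _ ⟨l, hl, rfl⟩
        obtain ⟨a, ha, k, hk, rfl⟩ := le_prodSub hN hL n hn
        have h3 : a * k * L.subtype l * (a * k)⁻¹ = a * L.subtype l * a⁻¹ := by
          have := ((mem_cen.1 hk).2 (L.subtype l) l.2).eq
          calc a * k * L.subtype l * (a * k)⁻¹
              = a * (k * L.subtype l) * k⁻¹ * a⁻¹ := by group
            _ = a * (L.subtype l * k) * k⁻¹ * a⁻¹ := by rw [this]
            _ = _ := by group
        rw [h3]
        exact ⟨(⟨a, ha⟩ : L) * l * (⟨a, ha⟩ : L)⁻¹, hK.conj_mem _ hl _, by simp⟩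
    have h2 := hL.min _ h1 (Subgroup.map_subtype_le K)
    rw [eq_top_iff]
    rintro ⟨x, hx⟩ _
    rw [← h2] at hx
    obtain ⟨y, hy, hyx⟩ := hx
    have : y = ⟨x, by rw [← h2]; exact ⟨y, hy, hyx⟩⟩ := Subtype.ext hyx
    rw [← this]; exact hy

end structure_min

section main

theorem isPGroup_of_quot {p : ℕ} [Fact p.Prime] {N : Subgroup G} [N.Normal] (h : IsPGroup p N)
    (h' : IsPGroup p (G ⧸ N)) : IsPGroup p G := by
  intro x
  obtain ⟨k, hk⟩ := h' (x : G ⧸ N)
  have h1 : x ^ p ^ k ∈ N := by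
    rw [← QuotientGroup.eq_one_iff]; exact hk
  obtain ⟨m, hm⟩ := h ⟨_, h1⟩
  refine ⟨k + m, ?_⟩
  rw [pow_add, pow_mul]
  exact congrArg Subtype.val hm

open Subgroup

theorem mem_top_quot {N : Subgroup G} [N.Normal] {c : G} (h : zpowers (c : G ⧸ N) = ⊤) (x : G) :
    ∃ i : ℤ, (c ^ i)⁻¹ * x ∈ N := by
  have h1 : (x : G ⧸ N) ∈ zpowers (c : G ⧸ N) := by rw [h]; exact mem_top _
  obtain ⟨i, hi⟩ := mem_zpowers_iff.1 h1
  refine ⟨i, ?_⟩
  rw [← QuotientGroup.eq]
  rw [← hi]; rfl

/-- A finite non-abelian simple group has a non-`p`-element. -/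
theorem exists_not_p {L : Type*} [Group L] [Finite L] {p : ℕ} [Fact p.Prime]
    (hL : IsSimpleGroup L) (hna : ¬ IsMulCommutative L) : ∃ y : L, ∀ k : ℕ, y ^ p ^ k ≠ 1 := by
  by_contra hcon
  push Not at hcon
  have hP : IsPGroup p L := fun y => hcon y
  have hc : Subgroup.center L ≠ ⊥ := by
    have := hP.center_nontrivial
    rwa [Subgroup.nontrivial_iff_ne_bot] at this
  have h1 := (inferInstance : (Subgroup.center L).Normal).eq_bot_or_eq_top.resolve_left hc
  apply hna
  refine ⟨⟨fun a b => ?_⟩⟩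
  have h2 : a ∈ Subgroup.center L := by rw [h1]; exact mem_top _
  exact (Subgroup.mem_center_iff.1 h2 b).symm

theorem isPGroup_of_zpowers {p : ℕ} [Fact p.Prime] {c : G} (h : zpowers c = ⊤) {k : ℕ}
    (hk : c ^ p ^ k = 1) : IsPGroup p G := by
  intro x
  have h1 : x ∈ zpowers c := by rw [h]; exact mem_top _
  obtain ⟨i, rfl⟩ := mem_zpowers_iff.1 h1
  exact ⟨k, by rw [← zpow_natCast, ← zpow_mul, mul_comm, zpow_mul, zpow_natCast, hk, one_zpow]⟩

/-- **The reduction.** -/
theorem main (p : ℕ) [Fact p.Prime]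
    (hM : ∀ (S : Type u) [Group S] [Finite S], IsSimpleGroup S → ¬ IsMulCommutative S →
      MRow p S) :
    ∀ (n : ℕ) (G : Type u) [Group G] [Finite G], Nat.card G = n → ∀ c d : G, Gen c → Gen d →
      AllP p c d → zpowers c = ⊤ ∧ IsPGroup p G := by
  intro n
  induction n using Nat.strong_induction_on with
  | _ n ih =>
  intro G _ _ hn c d hc hd hA
  by_cases hP : IsPGroup p G
  · exact ⟨hc.zpowers_of_pgroup hP, hP⟩
  exfalso
  have : Nontrivial G := by
    by_contra h
    rw [not_nontrivial_iff_subsingleton] at h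
    exact hP (fun x => ⟨0, Subsingleton.elim _ _⟩)
  obtain ⟨N, hN⟩ := exists_minNormal (G := G)
  have := hN.normal
  -- quotients are cyclic `p`-groups
  have hquot : ∀ (K : Subgroup G) [K.Normal], K ≠ ⊥ →
      zpowers (c : G ⧸ K) = ⊤ ∧ zpowers (d : G ⧸ K) = ⊤ ∧ IsPGroup p (G ⧸ K) := by
    intro K _ hK
    have hlt : Nat.card (G ⧸ K) < n := by
      rw [← hn, ← Subgroup.index_eq_card]
      have h1 := K.index_mul_card
      have h2 : 1 < Nat.card K := by
        rw [Finite.one_lt_card_iff_nontrivial, nontrivial_iff_ne_bot]; exact hK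
      have h3 : 0 < K.index := Nat.pos_of_ne_zero K.index_ne_zero_of_finite
      nlinarith
    have hs := QuotientGroup.mk'_surjective K
    have hA' := hA.map (QuotientGroup.mk' K) hs
    have h1 := ih _ hlt (G ⧸ K) rfl (c : G ⧸ K) (d : G ⧸ K) (hc.map _ hs) (hd.map _ hs) hA'
    refine ⟨h1.1, ?_, h1.2⟩
    exact (hd.map _ hs).zpowers_of_pgroup h1.2
  obtain ⟨hcN, hdN, hPN⟩ := hquot N hN.ne_bot
  have hcomm : ∀ a b : G, (a * b * a⁻¹ * b⁻¹) ∈ N := by
    intro a b
    obtain ⟨i, hi⟩ := mem_zpowers_iff.1 (show (a : G ⧸ N) ∈ zpowers (c : G ⧸ N) by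
      rw [hcN]; exact mem_top _)
    obtain ⟨j, hj⟩ := mem_zpowers_iff.1 (show (b : G ⧸ N) ∈ zpowers (c : G ⧸ N) by
      rw [hcN]; exact mem_top _)
    rw [← QuotientGroup.eq_one_iff]
    have h1 : ((a * b * a⁻¹ * b⁻¹ : G) : G ⧸ N) = (a : G ⧸ N) * b * (a : G ⧸ N)⁻¹ * (b : G ⧸ N)⁻¹ :=
      rfl
    rw [h1, ← hi, ← hj]
    group
  -- choose `i` with `x = c ^ i = d⁻¹` modulo `N`
  obtain ⟨i, hi⟩ := mem_top_quot hcN d⁻¹
  set x : G := c ^ i with hx
  have hxd : x * d ∈ N := by
    have h1 : d * x ∈ N := by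
      have := inv_mem hi
      rw [mul_inv_rev, inv_inv, inv_inv] at this
      exact this
    have h2 := hN.normal.conj_mem _ h1 x
    have : x * (d * x) * x⁻¹ = x * d := by group
    rwa [this] at h2
  have hPx : ∀ g : G, ∃ k : ℕ, (x * (g * d * g⁻¹)) ^ p ^ k = 1 := by
    intro g
    obtain ⟨k, hk⟩ := hA 1 g i 1
    refine ⟨k, ?_⟩
    simpa using hk
  have hmem : ∀ g : G, x * (g * d * g⁻¹) ∈ N := by
    intro g
    have h1 := mul_mem (hN.normal.conj_mem _ (hcomm g d) x) hxd
    have : x * (g * d * g⁻¹ * d⁻¹) * x⁻¹ * (x * d) = x * (g * d * g⁻¹) := by group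
    rwa [this] at h1
  -- `N` is not abelian
  have hNna : ¬ ∀ a ∈ N, ∀ b ∈ N, Commute a b := by
    intro hab
    -- elements of `p`-power order of `N`
    let K : Subgroup G :=
      { carrier := {y | y ∈ N ∧ ∃ k : ℕ, y ^ p ^ k = 1}
        one_mem' := ⟨one_mem _, 0, by simp⟩
        mul_mem' := by
          rintro a b ⟨ha, k, hk⟩ ⟨hb, m, hm⟩
          refine ⟨mul_mem ha hb, k + m, ?_⟩
          rw [(hab a ha b hb).mul_pow, pow_add, pow_mul, hk, one_pow, one_mul, mul_comm (p ^ k),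
            pow_mul, hm, one_pow]
        inv_mem' := by
          rintro a ⟨ha, k, hk⟩
          exact ⟨inv_mem ha, k, by rw [inv_pow, hk, inv_one]⟩ }
    have hKn : K.Normal := by
      constructor
      rintro y ⟨hy, k, hk⟩ g
      exact ⟨hN.normal.conj_mem _ hy g, k, by rw [conj_pow, hk]; group⟩
    by_cases hKb : K = ⊥
    · -- all `x d ^ g = 1`
      have h1 : ∀ g : G, x * (g * d * g⁻¹) = 1 := by
        intro g
        have h2 : x * (g * d * g⁻¹) ∈ K := ⟨hmem g, hPx g⟩
        rwa [hKb, mem_bot] at h2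
      have h2 : ∀ g : G, g * d * g⁻¹ = d := by
        intro g
        have h3 := h1 g
        have h4 := h1 1
        rw [one_mul, inv_one, mul_one] at h4
        exact mul_left_cancel (h3.trans h4.symm)
      have h3 : zpowers d = ⊤ := hd _ fun g => by rw [h2 g]; exact mem_zpowers d
      obtain ⟨k, hk⟩ := hA 1 1 0 1
      exact hP (isPGroup_of_zpowers h3 (k := k) (by simpa using hk))
    · have h1 := hN.min K hKn (fun y hy => hy.1) hKb
      apply hP
      have h2 : IsPGroup p N := by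
        rintro ⟨y, hy⟩
        rw [← h1] at hy
        obtain ⟨-, k, hk⟩ := hy
        exact ⟨k, Subtype.ext hk⟩
      exact isPGroup_of_quot h2 hPN
  obtain ⟨L, hL⟩ := exists_minIn hN.ne_bot
  -- `L` is not abelian
  have hLna : ¬ ∀ a ∈ L, ∀ b ∈ L, Commute a b := by
    intro hab
    let Z : Subgroup G := cen N N
    have hZn : Z.Normal := by
      constructor
      intro y hy g
      rw [mem_cen] at hy ⊢
      refine ⟨hN.normal.conj_mem _ hy.1 g, fun l hl => ?_⟩
      have h1 := hy.2 _ (by simpa using hN.normal.conj_mem _ hl g⁻¹)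
      have h2 : Commute (g * (g⁻¹ * l * g) * g⁻¹) (g * y * g⁻¹) := by
        have := h1.map (MulAut.conj g)
        simpa [MulAut.conj_apply] using this
      have h3 : g * (g⁻¹ * l * g) * g⁻¹ = l := by group
      rwa [h3] at h2
    have hLZ : L ≤ Z := by
      intro l hl
      rw [mem_cen]
      refine ⟨hL.le hl, fun m hm => ?_⟩
      obtain ⟨a, ha, k, hk, rfl⟩ := le_prodSub hN hL m hm
      exact (hab a ha l hl).mul_left ((mem_cen.1 hk).2 l hl).symm
    have hZb : Z ≠ ⊥ := by
      intro hb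
      apply hL.ne_bot
      rw [eq_bot_iff, ← hb]
      exact hLZ
    have hZ := hN.min Z hZn inf_le_left hZb
    apply hNna
    intro a ha b hb
    rw [← hZ] at hb
    exact (mem_cen.1 hb).2 a ha
  have hLs := simple_of_minIn hN hL
  have hLna' : ¬ IsMulCommutative L := by
    intro h
    apply hLna
    intro a ha b hb
    have h1 : (⟨a, ha⟩ : L) * ⟨b, hb⟩ = ⟨b, hb⟩ * ⟨a, ha⟩ := mul_comm' _ _
    exact congrArg Subtype.val h1
  have hxN : zpowers (x : G ⧸ N) = ⊤ := by
    have h1 : (x : G ⧸ N) = (d : G ⧸ N)⁻¹ := by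
      rw [eq_inv_iff_mul_eq_one]
      exact (QuotientGroup.eq_one_iff _).2 hxd
    rw [h1, zpowers_inv]; exact hdN
  -- the stabiliser of `L`
  let St : Subgroup G :=
    { carrier := {g | cj g L = L}
      one_mem' := cj_one L
      mul_mem' := by
        intro a b ha hb
        change cj (a * b) L = L
        rw [← cj_cj, show cj b L = L from hb, show cj a L = L from ha]
      inv_mem' := by
        intro a ha
        change cj a⁻¹ L = L
        have h1 : cj a⁻¹ (cj a L) = L := by rw [cj_cj, inv_mul_cancel, cj_one]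
        rwa [show cj a L = L from ha] at h1 }
  have hNSt : N ≤ St := by
    intro g hg
    change cj g L = L
    ext y
    rw [mem_cj]
    constructor
    · intro hy
      have := hL.conj g hg _ hy
      have h2 : g * (g⁻¹ * y * g) * g⁻¹ = y := by group
      rwa [h2] at this
    · intro hy
      have := hL.conj g⁻¹ (N.inv_mem hg) _ hy
      rwa [inv_inv] at this
  by_cases hLx : cj x L = L
  · -- `L` is normal in `G`
    have hStx : x ∈ St := hLx
    have hSt : ∀ g : G, g ∈ St := by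
      intro g
      obtain ⟨j, hj⟩ := mem_top_quot hxN g
      have h1 := St.mul_mem (St.zpow_mem hStx j) (hNSt hj)
      have : x ^ j * ((x ^ j)⁻¹ * g) = g := by group
      rwa [this] at h1
    have hLn : L.Normal := by
      constructor
      intro l hl g
      have h1 : cj g L = L := hSt g
      rw [← h1, mem_cj]
      have : g⁻¹ * (g * l * g⁻¹) * g = l := by group
      rwa [this]
    have hLN : L = N := hN.min L hLn hL.le hL.ne_bot
    subst hLN
    -- the centraliser is trivial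
    have hCn : (cen ⊤ L).Normal := by
      constructor
      intro y hy g
      rw [mem_cen] at hy ⊢
      refine ⟨mem_top _, fun l hl => ?_⟩
      have h1 := hy.2 _ (by simpa using hN.normal.conj_mem _ hl g⁻¹)
      have h2 : Commute (g * (g⁻¹ * l * g) * g⁻¹) (g * y * g⁻¹) := by
        have := h1.map (MulAut.conj g)
        simpa [MulAut.conj_apply] using this
      have h3 : g * (g⁻¹ * l * g) * g⁻¹ = l := by group
      rwa [h3] at h2
    have hCb : cen ⊤ L = ⊥ := by
      by_contra hb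
      obtain ⟨h1, -, -⟩ := hquot (cen ⊤ L) hb
      apply hLna
      -- `L` embeds in an abelian group
      have hinf : ∀ y ∈ L, y ∈ cen ⊤ L → y = 1 := by
        intro y hy hy'
        by_contra hne
        let Z : Subgroup G := cen L L
        have hZn : Z.Normal := by
          constructor
          intro y hy g
          rw [mem_cen] at hy ⊢
          refine ⟨hN.normal.conj_mem _ hy.1 g, fun l hl => ?_⟩
          have h1 := hy.2 _ (by simpa using hN.normal.conj_mem _ hl g⁻¹)
          have h2 : Commute (g * (g⁻¹ * l * g) * g⁻¹) (g * y * g⁻¹) := by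
            have := h1.map (MulAut.conj g)
            simpa [MulAut.conj_apply] using this
          have h3 : g * (g⁻¹ * l * g) * g⁻¹ = l := by group
          rwa [h3] at h2
        have hyZ : y ∈ Z := mem_cen.2 ⟨hy, (mem_cen.1 hy').2⟩
        have hZb : Z ≠ ⊥ := by
          intro hb
          rw [hb, mem_bot] at hyZ
          exact hne hyZ
        have hZ := hN.min Z hZn inf_le_left hZb
        apply hLna
        intro a ha b hb
        rw [← hZ] at hb
        exact (mem_cen.1 hb).2 a ha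
      intro a ha b hb
      have h2 : a * b * a⁻¹ * b⁻¹ ∈ cen ⊤ L := by
        obtain ⟨i, hi⟩ := mem_zpowers_iff.1 (show (a : G ⧸ cen ⊤ L) ∈ zpowers _ by
          rw [h1]; exact mem_top _)
        obtain ⟨j, hj⟩ := mem_zpowers_iff.1 (show (b : G ⧸ cen ⊤ L) ∈ zpowers _ by
          rw [h1]; exact mem_top _)
        rw [← QuotientGroup.eq_one_iff]
        have h1 : ((a * b * a⁻¹ * b⁻¹ : G) : G ⧸ cen ⊤ L)
            = (a : G ⧸ cen ⊤ L) * b * (a : G ⧸ cen ⊤ L)⁻¹ * (b : G ⧸ cen ⊤ L)⁻¹ := rfl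
        rw [h1, ← hi, ← hj]
        group
      have h3 : a * b * a⁻¹ * b⁻¹ ∈ L :=
        L.mul_mem (L.mul_mem (L.mul_mem ha hb) (L.inv_mem ha)) (L.inv_mem hb)
      have h4 := hinf _ h3 h2
      have h5 : a * b * a⁻¹ = b := by rwa [mul_inv_eq_one] at h4
      exact mul_inv_eq_iff_eq_mul.1 h5
    have hinj : Function.Injective (MulAut.conjNormal : G →* MulAut L) := by
      rw [injective_iff_map_eq_one]
      intro g hg
      have : g ∈ cen ⊤ L := by
        rw [mem_cen]
        refine ⟨mem_top _, fun l hl => ?_⟩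
        have h1 := congrArg (fun f : MulAut L => (f ⟨l, hl⟩ : G)) hg
        simp only [MulAut.conjNormal_apply, MulAut.one_apply] at h1
        exact (mul_inv_eq_iff_eq_mul.1 h1).symm
      rwa [hCb, mem_bot] at this
    -- elements of order `p`
    have hpow : ∀ y : G, Gen y → (∃ k : ℕ, y ^ p ^ k = 1) → ∃ m : ℕ, orderOf (y ^ m) = p := by
      intro y hy ⟨k, hk⟩
      have h1 : orderOf y ∣ p ^ k := orderOf_dvd_of_pow_eq_one hk
      obtain ⟨a, -, ha⟩ := (Nat.dvd_prime_pow Fact.out).1 h1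
      have ha0 : a ≠ 0 := by
        rintro rfl
        rw [pow_zero, orderOf_eq_one_iff] at ha
        have h2 : (⊥ : Subgroup G) = ⊤ := hy ⊥ fun g => by rw [ha]; simp
        exact bot_ne_top h2
      refine ⟨orderOf y / p, ?_⟩
      exact orderOf_pow_orderOf_div (orderOf_pos y).ne' (by rw [ha]; exact dvd_pow_self p ha0)
    obtain ⟨m, hm⟩ := hpow c hc (by
      obtain ⟨k, hk⟩ := hA 1 1 1 0
      exact ⟨k, by simpa using hk⟩)
    obtain ⟨m', hm'⟩ := hpow d hd (by
      obtain ⟨k, hk⟩ := hA 1 1 0 1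
      exact ⟨k, by simpa using hk⟩)
    obtain ⟨_, ⟨n', rfl⟩, i', j', hcon⟩ := hM L hLs hLna'
      (MulAut.conjNormal (c ^ m)) (MulAut.conjNormal (d ^ m'))
      (by rw [orderOf_injective _ hinj, hm]) (by rw [orderOf_injective _ hinj, hm'])
    obtain ⟨k, hk⟩ := hA 1 n' (m * i' : ℕ) (m' * j' : ℕ)
    apply hcon k
    have h1 : (MulAut.conj n' : MulAut L) = MulAut.conjNormal (n' : G) := by
      ext y; simp
    rw [h1, ← map_pow, ← map_mul, ← map_inv, ← map_mul, ← map_pow, ← map_mul, ← map_pow]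
    rw [← map_one (MulAut.conjNormal : G →* MulAut L)]
    congr 1
    rw [← hk]
    congr 1
    simp only [zpow_natCast, pow_mul, conj_pow, one_mul, inv_one, mul_one]
  · -- `x` moves `L`
    obtain ⟨⟨y, hyL⟩, hy⟩ := exists_not_p (p := p) hLs hLna'
    obtain ⟨l', hl', k', hk', he⟩ := le_prodSub hN hL _ hxd
    -- `n = x⁻¹ l x`
    have hne : L ≠ cj x⁻¹ L := by
      intro h
      apply hLx
      conv_lhs => rw [h]
      rw [cj_cj, mul_inv_cancel, cj_one]
    set l : G := y * l'⁻¹ with hl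
    have hlL : l ∈ L := L.mul_mem hyL (L.inv_mem hl')
    have hnmem : x⁻¹ * l * x ∈ cj x⁻¹ L := by
      rw [mem_cj]
      have : x⁻¹⁻¹ * (x⁻¹ * l * x) * x⁻¹ = l := by group
      rwa [this]
    have hncen : x⁻¹ * l * x ∈ cen N L := by
      rw [mem_cen]
      refine ⟨(hL.cj hN.normal x⁻¹).le hnmem, fun l' hl' => ?_⟩
      exact hL.commute (hL.cj hN.normal x⁻¹) hne l' hl' _ hnmem
    have hz : x * (x⁻¹ * l * x * d * (x⁻¹ * l * x)⁻¹) = y * (k' * (x⁻¹ * l * x)⁻¹) := by
      calc x * (x⁻¹ * l * x * d * (x⁻¹ * l * x)⁻¹) = l * (x * d) * (x⁻¹ * l * x)⁻¹ := by group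
        _ = y * (k' * (x⁻¹ * l * x)⁻¹) := by rw [he, hl]; group
    have hkc : k' * (x⁻¹ * l * x)⁻¹ ∈ cen N L := (cen N L).mul_mem hk' ((cen N L).inv_mem hncen)
    obtain ⟨k, hk⟩ := hPx (x⁻¹ * l * x)
    rw [hz, ((mem_cen.1 hkc).2 y hyL).mul_pow] at hk
    -- `y ^ p ^ k` is central in `L`
    have h1 : y ^ p ^ k ∈ cen N L := by
      have h2 : y ^ p ^ k = ((k' * (x⁻¹ * l * x)⁻¹) ^ p ^ k)⁻¹ := eq_inv_of_mul_eq_one_left hk
      rw [h2]
      exact (cen N L).inv_mem ((cen N L).pow_mem hkc _)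
    have h2 : (⟨y, hyL⟩ : L) ^ p ^ k ∈ Subgroup.center L := by
      rw [Subgroup.mem_center_iff]
      rintro ⟨a, ha⟩
      apply Subtype.ext
      exact (mem_cen.1 h1).2 a ha
    have h3 : Subgroup.center L = ⊥ := by
      refine (hLs.eq_bot_or_eq_top_of_normal _ inferInstance).resolve_right fun ht => hLna' ?_
      refine ⟨⟨fun a b => ?_⟩⟩
      have h2 : a ∈ Subgroup.center L := by rw [ht]; exact mem_top _
      exact (Subgroup.mem_center_iff.1 h2 b).symm
    rw [h3, mem_bot] at h2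
    exact hy k h2

end main


/-- The form of S2275. -/
theorem s2275_of (p : ℕ) (hp : p.Prime)
    (hM : ∀ (S : Type u) [Group S] [Finite S], IsSimpleGroup S → ¬ IsMulCommutative S →
      MRow p S) {G : Type u} [Group G] [Finite G] (c₀ d₀ : G)
    (hC : Subgroup.closure (ConjClasses.mk c₀).carrier = ⊤)
    (hD : Subgroup.closure (ConjClasses.mk d₀).carrier = ⊤)
    (h : ∀ c ∈ (ConjClasses.mk c₀).carrier, ∀ d ∈ (ConjClasses.mk d₀).carrier, ∀ i j : ℤ,
      ∃ k : ℕ, orderOf (c ^ i * d ^ j) = p ^ k) :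
    IsCyclic G ∧ IsPGroup p G := by
  have := Fact.mk hp
  have hgen : ∀ c : G, Subgroup.closure (ConjClasses.mk c).carrier = ⊤ → Gen c := by
    intro c hc H hH
    rw [eq_top_iff, ← hc, Subgroup.closure_le]
    intro x hx
    rw [ConjClasses.mem_carrier_iff_mk_eq, ConjClasses.mk_eq_mk_iff_isConj, isConj_comm,
      isConj_iff] at hx
    obtain ⟨g, rfl⟩ := hx
    exact hH g
  have hmem : ∀ c g : G, g * c * g⁻¹ ∈ (ConjClasses.mk c).carrier := by
    intro c g
    rw [ConjClasses.mem_carrier_iff_mk_eq, ConjClasses.mk_eq_mk_iff_isConj, isConj_comm,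
      isConj_iff]
    exact ⟨g, rfl⟩
  have hA : AllP p c₀ d₀ := by
    intro g h' i j
    obtain ⟨k, hk⟩ := h _ (hmem c₀ g) _ (hmem d₀ h') i j
    exact ⟨k, by rw [← hk, pow_orderOf_eq_one]⟩
  obtain ⟨h1, h2⟩ := main p hM (Nat.card G) G rfl c₀ d₀ (hgen _ hC) (hgen _ hD) hA
  refine ⟨⟨c₀, fun x => ?_⟩, h2⟩
  exact Subgroup.mem_zpowers_iff.1 (show x ∈ Subgroup.zpowers c₀ by
    rw [h1]; exact Subgroup.mem_top _)

end Cfsg.Agent.H106.TwoRed
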