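import Cfsg.Agent.H106.MTools2
import Cfsg.Agent.H106.TwoRed
import Cfsg.Agent.Lib.CoprimeHyperplane
import Cfsg.Agent.Lib.Cores
import Cfsg.Agent.Lib.SylowNormalInf

/-!
# Groups with an abelian Sylow `p`-subgroup and the condition `TT`

`TT p a b`: all `a ^ i * (g b g⁻¹) ^ j` are `p`-elements.

`exists_normal`: `P` an abelian Sylow `p`-subgroup of `K`, `V ≤ P` elementary abelian, `V = ⟨X⟩ = ⟨Y⟩`,
`TT p a b` for all `a ∈ X`, `b ∈ Y`, and `MRow p L` for the simple groups `L` of order less than `n`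
(`|K| < n`): then `V` lies in a normal `p`-subgroup of `K`.
-/

set_option autoImplicit false

universe u

namespace Cfsg.Agent.H106.AbSyl

open Cfsg.Agent.H533.T5 Cfsg.Agent.H957.T5M Cfsg.Agent.H106.MB Cfsg.Agent.H106.MT
open Cfsg.Agent.H106.TwoRed Subgroup

variable {G : Type*} [Group G] {p : ℕ}

/-- All `a ^ i * (g b g⁻¹) ^ j` are `p`-elements. -/
def TT (p : ℕ) (a b : G) : Prop :=
  ∀ g : G, ∀ i j : ℤ, ∃ k : ℕ, (a ^ i * (g * b * g⁻¹) ^ j) ^ p ^ k = 1

theorem TT.map {a b : G} (h : TT p a b) {G' : Type*} [Group G'] (φ : G →* G')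
    (hφ : Function.Surjective φ) : TT p (φ a) (φ b) := by
  intro g' i j
  obtain ⟨g, rfl⟩ := hφ g'
  obtain ⟨k, hk⟩ := h g i j
  refine ⟨k, ?_⟩
  have := congrArg φ hk
  simpa using this

theorem TT.sub {a b : G} (h : TT p a b) {H : Subgroup G} (ha : a ∈ H) (hb : b ∈ H) :
    TT p (⟨a, ha⟩ : H) ⟨b, hb⟩ := by
  intro g i j
  obtain ⟨k, hk⟩ := h g i j
  exact ⟨k, Subtype.ext (by simpa using hk)⟩

/-- **Coprime action**: `V` elementary abelian generated by `X` and by `Y`, `N` a `p'`-group
normalised by `V`, and `TT p a b`: then `V` centralises `N`. -/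
theorem commute_of_coprime [Finite G] [hp : Fact p.Prime] {V N : Subgroup G}
    (hVc : ∀ a ∈ V, ∀ b ∈ V, Commute a b) (hVp : ∀ v ∈ V, v ^ p = 1) (hN : ¬ p ∣ Nat.card N)
    (hVN : V ≤ normalizer (N : Set G)) {X Y : Set G} (hX : X ⊆ V) (hY : Y ⊆ V)
    (hXV : closure X = V) (hYV : closure Y = V) (hT : ∀ a ∈ X, ∀ b ∈ Y, TT p a b) :
    ∀ v ∈ V, ∀ n ∈ N, Commute v n := by
  have hpp : p.Prime := hp.out
  by_cases hV1 : V = ⊥
  · intro v hv n _
    rw [hV1, mem_bot] at hv
    rw [hv]; exact Commute.one_left n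
  have hE : Cfsg.IsElementaryAbelian p V := by
    refine ⟨⟨⟨fun a b => ?_⟩⟩, hVp⟩
    exact Subtype.ext (hVc a a.2 b b.2).eq
  have hgen := Cfsg.Agent.Lib.CoprimeHyperplane.iSup_centralizer_hyperplane hE hV1 hN hVN
  -- it suffices to treat `C_N(B)`
  have key : ∀ B : Subgroup G, B ≤ V → B.relIndex V = p →
      ∀ v ∈ V, ∀ n ∈ N ⊓ centralizer (B : Set G), Commute v n := by
    intro B hB hidx
    have hex : ∀ Z : Set G, Z ⊆ V → closure Z = V → ∃ z ∈ Z, z ∉ B := by
      intro Z hZ hZV
      by_contra hcon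
      push Not at hcon
      have h1 : V ≤ B := by
        rw [← hZV, closure_le]; exact hcon
      have h2 : B.relIndex V = 1 := relIndex_eq_one.2 h1
      rw [hidx] at h2
      exact hpp.one_lt.ne' h2
    obtain ⟨a, haX, haB⟩ := hex X hX hXV
    obtain ⟨b, hbY, hbB⟩ := hex Y hY hYV
    have haV := hX haX
    have hbV := hY hbY
    obtain ⟨j, hj⟩ := exists_zpow_mem hB hVc hidx (inv_mem haV) hbV hbB
    rw [inv_inv] at hj
    -- `a` centralises `C_N(B)`
    have ha : ∀ n ∈ N ⊓ centralizer (B : Set G), Commute a n := by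
      rintro u ⟨huN, huB⟩
      have huB' : ∀ z ∈ B, Commute z u := fun z hz => mem_centralizer_iff.1 huB z hz
      set z := a * b ^ j with hz
      have hbj : b ^ j ∈ V := zpow_mem hbV j
      -- `w = (b⁻ʲ u bʲ) u⁻¹`
      set w := (b ^ j)⁻¹ * u * b ^ j * u⁻¹ with hw
      have hwN : w ∈ N := by
        refine mul_mem ?_ (inv_mem huN)
        have := (mem_normalizer_iff.1 (hVN (inv_mem hbj)) u).1 huN
        simpa using this
      have hzw : Commute z w := by
        have h1 : Commute z u := huB' z hj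
        have h2 : Commute z (b ^ j) := hVc _ (hB hj) _ hbj
        exact ((h2.inv_right.mul_right h1).mul_right h2).mul_right h1.inv_right
      have heq : a ^ (1 : ℤ) * (u * b * u⁻¹) ^ j = z * w := by
        rw [zpow_one, conj_zpow, hz, hw]; group
      obtain ⟨k, hk⟩ := hT a haX b hbY u 1 j
      rw [heq, hzw.mul_pow] at hk
      have hzp : z ^ p ^ k * z ^ (p ^ k * (p - 1)) = 1 := by
        rw [← pow_add]
        have h3 : p ^ k + p ^ k * (p - 1) = p * p ^ k := by
          have := hpp.one_lt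
          obtain ⟨q, rfl⟩ : ∃ q, p = q + 1 := ⟨p - 1, by omega⟩
          simp; ring
        rw [h3, pow_mul, hVp z (hB hj), one_pow]
      have hwp : w ^ p ^ (k + 1) = 1 := by
        rw [pow_succ, pow_mul]
        have h4 : w ^ p ^ k = (z ^ p ^ k)⁻¹ := eq_inv_of_mul_eq_one_right hk
        rw [h4, inv_pow, ← pow_mul, mul_comm, pow_mul, hVp z (hB hj), one_pow, inv_one]
      have hw1 : w = 1 := by
        have h5 : orderOf w ∣ p ^ (k + 1) := orderOf_dvd_of_pow_eq_one hwp
        have h6 : orderOf w ∣ Nat.card N := by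
          have h7 := orderOf_dvd_natCard (⟨w, hwN⟩ : N)
          rwa [Subgroup.orderOf_mk] at h7
        have h7 : Nat.Coprime (p ^ (k + 1)) (Nat.card N) :=
          Nat.Coprime.pow_left _ ((Nat.Prime.coprime_iff_not_dvd hpp).2 hN)
        have h8 : orderOf w = 1 := Nat.eq_one_of_dvd_coprimes h7 h5 h6
        exact orderOf_eq_one_iff.1 h8
      have hbu : Commute (b ^ j) u := by
        rw [hw, mul_inv_eq_one] at hw1
        have : u * b ^ j = b ^ j * u := by
          calc u * b ^ j = b ^ j * ((b ^ j)⁻¹ * u * b ^ j) := by group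
            _ = _ := by rw [hw1]
        exact this.symm
      have h9 : a = z * (b ^ j)⁻¹ := by rw [hz]; group
      rw [h9]
      exact (huB' z hj).mul_left hbu.inv_left
    -- `V = B ⟨a⟩`
    intro v hv n hn
    obtain ⟨i, hi⟩ := exists_zpow_mem hB hVc hidx hv haV haB
    have h1 : v = a ^ i * (v⁻¹ * a ^ i)⁻¹ := by group
    rw [h1]
    refine ((ha n hn).zpow_left i).mul_left ?_
    exact (mem_centralizer_iff.1 hn.2 _ (inv_mem hi) : Commute _ n)
  intro v hv n hn
  rw [← hgen] at hn
  -- the centraliser of `v` contains all `C_N(B)`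
  have hle : (⨆ B : {B : Subgroup G // B ≤ V ∧ B.relIndex V = p},
      N ⊓ centralizer ((B : Subgroup G) : Set G)) ≤ centralizer ({v} : Set G) := by
    refine iSup_le ?_
    rintro ⟨B, hB, hidx⟩ n hn
    rw [mem_centralizer_singleton_iff]
    exact (key B hB hidx v hv n hn).symm
  exact (mem_centralizer_singleton_iff.1 (hle hn) : n * v = v * n).symm

theorem le_pCore_of_central [Finite G] [hp : Fact p.Prime] {N V : Subgroup G} [N.Normal]
    (hNc : N ≤ center G) (hV : IsPGroup p V)
    (h : V.map (QuotientGroup.mk' N) ≤ Cfsg.pCore p (G ⧸ N)) : V ≤ Cfsg.pCore p G := by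
  set W : Subgroup G := (Cfsg.pCore p (G ⧸ N)).comap (QuotientGroup.mk' N) with hW
  have hWn : W.Normal := by
    have := Lib.Cores.pCore_normal (G := G ⧸ N) p
    exact this.comap _
  have hVW : V ≤ W := by
    rw [hW, ← map_le_iff_le_comap]; exact h
  have hNW : N ≤ W := by
    intro x hx
    rw [hW, mem_comap, QuotientGroup.mk'_apply, (QuotientGroup.eq_one_iff x).2 hx]
    exact one_mem _
  -- `W` is nilpotent
  let f : W →* Cfsg.pCore p (G ⧸ N) :=
    ((QuotientGroup.mk' N).comp W.subtype).codRestrict (Cfsg.pCore p (G ⧸ N)) (fun w => w.2)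
  have hker : f.ker ≤ center W := by
    intro w hw
    rw [mem_center_iff]
    intro g
    have h1 : (w : G) ∈ N := by
      have h2 := congrArg Subtype.val (MonoidHom.mem_ker.1 hw)
      exact (QuotientGroup.eq_one_iff _).1 h2
    exact Subtype.ext (mem_center_iff.1 (hNc h1) g)
  have hnil : Group.IsNilpotent (Cfsg.pCore p (G ⧸ N)) :=
    (Lib.Cores.pCore_isPGroup (G := G ⧸ N) p).isNilpotent
  have hWnil : Group.IsNilpotent W := Subgroup.isNilpotent_of_ker_le_center f hker
  have hsyl := ((Group.isNilpotent_of_finite_tfae (G := W)).out 0 3).1 hWnil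
  have hVp : IsPGroup p (V.subgroupOf W) := hV.comap_subtype
  obtain ⟨Q, hQ⟩ := hVp.exists_le_sylow
  have hQn : (Q : Subgroup W).Normal := hsyl p hp Q
  have h1 : V.subgroupOf W ≤ Cfsg.pCore p W := hQ.trans (Lib.Cores.le_pCore hQn Q.isPGroup')
  have h2 := Lib.Cores.map_subtype_pCore p hWn
  intro v hv
  have h3 : v ∈ (Cfsg.pCore p W).map W.subtype := ⟨⟨v, hVW hv⟩, h1 hv, rfl⟩
  rw [h2] at h3
  exact h3.2

section components

variable {N L : Subgroup G}

theorem closure_conj_eq (hN : MinNormal N) (hL : MinIn N L) :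
    closure {x : G | ∃ g : G, ∃ l ∈ L, x = g * l * g⁻¹} = N := by
  set K : Subgroup G := closure {x | ∃ g : G, ∃ l ∈ L, x = g * l * g⁻¹} with hKdef
  have hKn : K.Normal := by
    constructor
    intro x hx g
    induction hx using Subgroup.closure_induction with
    | mem x hx =>
      obtain ⟨h, l, hl, rfl⟩ := hx
      exact Subgroup.subset_closure ⟨g * h, l, hl, by group⟩
    | one => simp
    | mul x y _ _ hx hy =>
      have : g * (x * y) * g⁻¹ = (g * x * g⁻¹) * (g * y * g⁻¹) := by group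
      rw [this]; exact mul_mem hx hy
    | inv x _ hx =>
      have : g * x⁻¹ * g⁻¹ = (g * x * g⁻¹)⁻¹ := by group
      rw [this]; exact inv_mem hx
  have hKN : K ≤ N := by
    rw [hKdef, Subgroup.closure_le]
    rintro _ ⟨g, l, hl, rfl⟩
    exact hN.normal.conj_mem _ (hL.le hl) g
  have hLK : L ≤ K := fun l hl => Subgroup.subset_closure ⟨1, l, hl, by simp⟩
  have hKb : K ≠ ⊥ := by
    intro hb
    apply hL.ne_bot
    rw [eq_bot_iff, ← hb]
    exact hLK
  exact hN.min K hKn hKN hKb

theorem cen_normal [hn : N.Normal] : (cen N N).Normal := by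
  constructor
  intro y hy g
  rw [mem_cen] at hy ⊢
  refine ⟨hn.conj_mem _ hy.1 g, fun l hl => ?_⟩
  have h1 := hy.2 _ (by simpa using hn.conj_mem _ hl g⁻¹)
  have h2 : Commute (g * (g⁻¹ * l * g) * g⁻¹) (g * y * g⁻¹) := by
    have := h1.map (MulAut.conj g)
    simpa [MulAut.conj_apply] using this
  have h3 : g * (g⁻¹ * l * g) * g⁻¹ = l := by group
  rwa [h3] at h2

theorem cen_eq_bot (hN : MinNormal N) (hNna : ¬ ∀ a ∈ N, ∀ b ∈ N, Commute a b) :
    cen N N = ⊥ := by
  by_contra hb
  have := hN.normal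
  have hZ := hN.min (cen N N) cen_normal inf_le_left hb
  apply hNna
  intro a ha b hb
  rw [← hZ] at hb
  exact (mem_cen.1 hb).2 a ha

theorem not_comm_of_minIn (hN : MinNormal N) (hL : MinIn N L)
    (hNna : ¬ ∀ a ∈ N, ∀ b ∈ N, Commute a b) : ¬ ∀ a ∈ L, ∀ b ∈ L, Commute a b := by
  intro hab
  have hLZ : L ≤ cen N N := by
    intro l hl
    rw [mem_cen]
    refine ⟨hL.le hl, fun m hm => ?_⟩
    obtain ⟨a, ha, k, hk, rfl⟩ := le_prodSub hN hL m hm
    exact (hab a ha l hl).mul_left ((mem_cen.1 hk).2 l hl).symm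
  apply hL.ne_bot
  rw [eq_bot_iff, ← cen_eq_bot hN hNna]
  exact hLZ

theorem center_minIn (hN : MinNormal N) (hL : MinIn N L)
    (hNna : ¬ ∀ a ∈ N, ∀ b ∈ N, Commute a b) {x : G} (hx : x ∈ L) (h : ∀ l ∈ L, Commute l x) :
    x = 1 := by
  have h1 : x ∈ cen N N := by
    rw [mem_cen]
    refine ⟨hL.le hx, fun m hm => ?_⟩
    obtain ⟨a, ha, k, hk, rfl⟩ := le_prodSub hN hL m hm
    exact (h a ha).mul_left ((mem_cen.1 hk).2 x hx).symm
  rwa [cen_eq_bot hN hNna, mem_bot] at h1

theorem dvd_card_minIn [Finite G] [hp : Fact p.Prime] (hN : MinNormal N) (hL : MinIn N L)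
    (hNna : ¬ ∀ a ∈ N, ∀ b ∈ N, Commute a b) (hpN : p ∣ Nat.card N) : p ∣ Nat.card L := by
  by_contra hcon
  obtain ⟨⟨z, hzN⟩, hz⟩ := exists_prime_orderOf_dvd_card' p hpN
  have hz' : orderOf z = p := by rwa [Subgroup.orderOf_mk] at hz
  -- `z` commutes with all conjugates of `L`
  have h1 : ∀ g : G, ∀ l ∈ cj g L, Commute l z := by
    intro g l hl
    have hLg := hL.cj hN.normal g
    obtain ⟨a, ha, c, hc, hac⟩ := le_prodSub hN hLg z hzN
    have hcomm : Commute a c := (mem_cen.1 hc).2 a ha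
    have h2 : a ^ p * c ^ p = 1 := by
      rw [← hcomm.mul_pow, ← hac, ← hz', pow_orderOf_eq_one]
    have h3 : a ^ p = 1 := by
      apply center_minIn hN hLg hNna (pow_mem ha p)
      intro l' hl'
      have h4 : a ^ p = (c ^ p)⁻¹ := eq_inv_of_mul_eq_one_left h2
      rw [h4]
      exact (((mem_cen.1 hc).2 l' hl').pow_right p).inv_right
    have h5 : a = 1 := by
      have h6 : orderOf a ∣ p := orderOf_dvd_of_pow_eq_one h3
      have h7 : orderOf a ∣ Nat.card L := by
        have h8 : orderOf (⟨a, ha⟩ : cj g L) ∣ Nat.card (cj g L) := orderOf_dvd_natCard _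
        rw [Subgroup.orderOf_mk] at h8
        have h9 : Nat.card (cj g L) = Nat.card L :=
          Subgroup.card_map_of_injective (MulAut.conj g).injective
        rwa [h9] at h8
      have h8 : Nat.Coprime p (Nat.card L) := (Nat.Prime.coprime_iff_not_dvd hp.out).2 hcon
      exact orderOf_eq_one_iff.1 (Nat.eq_one_of_dvd_coprimes h8 h6 h7)
    rw [hac, h5, one_mul]
    exact (mem_cen.1 hc).2 l hl
  have h2 : z ∈ cen N N := by
    rw [mem_cen]
    refine ⟨hzN, ?_⟩
    intro n hn
    rw [← closure_conj_eq hN hL] at hn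
    induction hn using Subgroup.closure_induction with
    | mem x hx =>
      obtain ⟨g, l, hl, rfl⟩ := hx
      apply h1 g
      rw [mem_cj]
      have : g⁻¹ * (g * l * g⁻¹) * g = l := by group
      rwa [this]
    | one => exact Commute.one_left z
    | mul x y _ _ hx hy => exact hx.mul_left hy
    | inv x _ hx => exact hx.inv_left
  rw [cen_eq_bot hN hNna, mem_bot] at h2
  rw [h2, orderOf_one] at hz'
  exact hp.out.one_lt.ne hz'

end components

section main

theorem closure_image_map {G' : Type*} [Group G'] (φ : G →* G') {X : Set G} {V : Subgroup G}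
    (h : closure X = V) : closure (φ '' X) = V.map φ := by
  rw [← h, MonoidHom.map_closure]

theorem closure_sub {X : Set G} {V C : Subgroup G} (hVC : V ≤ C) (h : closure X = V) :
    closure (((↑) : C → G) ⁻¹' X) = V.subgroupOf C := by
  have hX : X ⊆ C := by
    intro x hx
    exact hVC (by rw [← h]; exact subset_closure hx)
  apply Subgroup.map_injective C.subtype_injective
  rw [MonoidHom.map_closure, Subgroup.subgroupOf_map_subtype, inf_eq_left.2 hVC, ← h]
  congr 1
  ext x
  constructor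
  · rintro ⟨y, hy, rfl⟩; exact hy
  · intro hx; exact ⟨⟨x, hX hx⟩, hx, rfl⟩

/-- **`V` lies in a normal `p`-subgroup.** -/
theorem le_pCore_of_TT [hp : Fact p.Prime] (n : ℕ)
    (hM : ∀ (L : Type u) [Group L] [Finite L], IsSimpleGroup L → ¬ IsMulCommutative L →
      Nat.card L < n → MRow p L) :
    ∀ (m : ℕ), m < n → ∀ (K : Type u) [Group K] [Finite K], Nat.card K = m →
      ∀ (P : Sylow p K) (V : Subgroup K), (∀ a ∈ P, ∀ b ∈ P, Commute a b) →
      V ≤ (P : Subgroup K) → (∀ v ∈ V, v ^ p = 1) → ∀ X Y : Set K, closure X = V →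
      closure Y = V → (∀ a ∈ X, ∀ b ∈ Y, TT p a b) → V ≤ Cfsg.pCore p K := by
  intro m
  induction m using Nat.strong_induction_on with
  | _ m ih =>
  intro hmn K _ _ hm P V hPc hVP hVp X Y hX hY hT
  have hpp : p.Prime := hp.out
  by_cases hV1 : V = ⊥
  · rw [hV1]; exact bot_le
  have hK : Nontrivial K := by
    by_contra h
    rw [not_nontrivial_iff_subsingleton] at h
    exact hV1 (Subsingleton.elim _ _)
  have hVc : ∀ a ∈ V, ∀ b ∈ V, Commute a b := fun a ha b hb => hPc a (hVP ha) b (hVP hb)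
  have hXV : X ⊆ V := by rw [← hX]; exact subset_closure
  have hYV : Y ⊆ V := by rw [← hY]; exact subset_closure
  obtain ⟨N, hN⟩ := exists_minNormal (G := K)
  have hNn := hN.normal
  -- reduction to the centraliser of `N`
  have hcent : (∀ v ∈ V, ∀ x ∈ N, Commute v x) → centralizer (N : Set K) ≠ ⊤ →
      V ≤ Cfsg.pCore p K := by
    intro hVN hC
    set C : Subgroup K := centralizer (N : Set K) with hCdef
    have hCn : C.Normal := Subgroup.normal_centralizer
    have hVC : V ≤ C := by
      intro v hv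
      rw [hCdef, mem_centralizer_iff]
      intro x hx
      exact (hVN v hv x hx).symm.eq
    have hlt : Nat.card C < m := by
      rw [← hm]
      have h1 := C.card_mul_index
      have h2 : C.index ≠ 1 := by rwa [Ne, index_eq_one]
      have h3 : 0 < C.index := Nat.pos_of_ne_zero C.index_ne_zero_of_finite
      have h4 : 0 < Nat.card C := Nat.card_pos
      have h5 : 2 ≤ C.index := by omega
      have h6 : Nat.card C * 2 ≤ Nat.card C * C.index := Nat.mul_le_mul_left _ h5
      omega
    -- the Sylow subgroup of `C`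
    have hPC : IsPGroup p ((P : Subgroup K).subgroupOf C) := P.isPGroup'.comap_subtype
    have hidx : ¬ p ∣ ((P : Subgroup K).subgroupOf C).index :=
      Lib.SylowNormalInf.not_dvd_relIndex P C
    let P' : Sylow p C := hPC.toSylow hidx
    have h1 := ih (Nat.card C) hlt (hlt.trans hmn) C rfl P' (V.subgroupOf C)
      (fun a ha b hb => Subtype.ext (hPc a ha b hb).eq) (fun v hv => hVP hv)
      (fun v hv => Subtype.ext (hVp v hv)) _ _ (closure_sub hVC hX) (closure_sub hVC hY)
      (fun a ha b hb => (hT a ha b hb).sub a.2 b.2)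
    have h2 := Lib.Cores.map_subtype_pCore p hCn
    intro v hv
    have h3 : v ∈ (Cfsg.pCore p C).map C.subtype := ⟨⟨v, hVC hv⟩, h1 hv, rfl⟩
    rw [h2] at h3
    exact h3.2
  -- the quotient by `N`
  have hquot : V.map (QuotientGroup.mk' N) ≤ Cfsg.pCore p (K ⧸ N) := by
    have hs := QuotientGroup.mk'_surjective N
    have hlt : Nat.card (K ⧸ N) < m := by
      rw [← hm, ← Subgroup.index_eq_card]
      have h1 := N.card_mul_index
      have h2 : 1 < Nat.card N := by
        rw [Finite.one_lt_card_iff_nontrivial, nontrivial_iff_ne_bot]; exact hN.ne_bot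
      have h3 : 0 < N.index := Nat.pos_of_ne_zero N.index_ne_zero_of_finite
      nlinarith
    have hPm : IsPGroup p ((P : Subgroup K).map (QuotientGroup.mk' N)) := P.isPGroup'.map _
    have hidx : ¬ p ∣ ((P : Subgroup K).map (QuotientGroup.mk' N)).index := by
      intro h
      exact P.not_dvd_index (h.trans (Subgroup.index_map_dvd _ hs))
    let P' : Sylow p (K ⧸ N) := hPm.toSylow hidx
    refine ih (Nat.card (K ⧸ N)) hlt (hlt.trans hmn) (K ⧸ N) rfl P' _ ?_
      (Subgroup.map_mono hVP) ?_ _ _ (closure_image_map _ hX) (closure_image_map _ hY) ?_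
    · rintro _ ⟨a, ha, rfl⟩ _ ⟨b, hb, rfl⟩
      exact (hPc a ha b hb).map (QuotientGroup.mk' N)
    · rintro _ ⟨v, hv, rfl⟩
      rw [← map_pow, hVp v hv, map_one]
    · rintro _ ⟨a, ha, rfl⟩ _ ⟨b, hb, rfl⟩
      exact (hT a ha b hb).map _ hs
  by_cases hpN : p ∣ Nat.card N
  swap
  · -- `N` is a `p'`-group
    have hVN : ∀ v ∈ V, ∀ x ∈ N, Commute v x :=
      commute_of_coprime hVc hVp hpN (by rw [normalizer_eq_top]; exact le_top) hXV hYV hX hY hT
    by_cases hC : centralizer (N : Set K) = ⊤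
    · refine le_pCore_of_central (N := N) ?_ (P.isPGroup'.to_le hVP) hquot
      intro x hx
      rw [mem_center_iff]
      intro g
      have hg : g ∈ centralizer (N : Set K) := by rw [hC]; exact mem_top g
      exact (mem_centralizer_iff.1 hg x hx).symm
    · exact hcent hVN hC
  by_cases hNab : ∀ a ∈ N, ∀ b ∈ N, Commute a b
  · -- `N` is an elementary abelian `p`-group
    let E : Subgroup K :=
      { carrier := {y | y ∈ N ∧ ∃ k : ℕ, y ^ p ^ k = 1}
        one_mem' := ⟨one_mem _, 0, by simp⟩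
        mul_mem' := by
          rintro a b ⟨ha, k, hk⟩ ⟨hb, m, hm⟩
          refine ⟨mul_mem ha hb, k + m, ?_⟩
          rw [(hNab a ha b hb).mul_pow, pow_add, pow_mul, hk, one_pow, one_mul, mul_comm (p ^ k),
            pow_mul, hm, one_pow]
        inv_mem' := by
          rintro a ⟨ha, k, hk⟩
          exact ⟨inv_mem ha, k, by rw [inv_pow, hk, inv_one]⟩ }
    have hEn : E.Normal := by
      constructor
      rintro y ⟨hy, k, hk⟩ g
      exact ⟨hN.normal.conj_mem _ hy g, k, by rw [conj_pow, hk]; group⟩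
    have hEb : E ≠ ⊥ := by
      intro hb
      obtain ⟨⟨z, hzN⟩, hz⟩ := exists_prime_orderOf_dvd_card' p hpN
      have hz' : orderOf z = p := by rwa [Subgroup.orderOf_mk] at hz
      have h1 : z ∈ E := ⟨hzN, 1, by rw [pow_one, ← hz', pow_orderOf_eq_one]⟩
      rw [hb, mem_bot] at h1
      rw [h1, orderOf_one] at hz'
      exact hpp.one_lt.ne hz'
    have hE := hN.min E hEn (fun y hy => hy.1) hEb
    have hNp : IsPGroup p N := by
      rintro ⟨y, hy⟩
      rw [← hE] at hy
      obtain ⟨-, k, hk⟩ := hy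
      exact ⟨k, Subtype.ext hk⟩
    rw [← Lib.Cores.comap_mk_pCore p hNp, ← map_le_iff_le_comap]
    exact hquot
  -- `N` is not abelian
  by_cases hVN : ∀ v ∈ V, ∀ x ∈ N, Commute v x
  · refine hcent hVN ?_
    intro hC
    apply hNab
    intro a ha b hb
    have h1 : b ∈ centralizer (N : Set K) := by rw [hC]; exact mem_top b
    exact mem_centralizer_iff.1 h1 a ha
  exfalso
  obtain ⟨L0, hL0⟩ := exists_minIn hN.ne_bot
  -- a conjugate `L` of `L0` not centralised by `V`
  obtain ⟨g0, hg0⟩ : ∃ g : K, ¬ ∀ v ∈ V, ∀ x ∈ cj g L0, Commute v x := by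
    by_contra hcon
    push Not at hcon
    apply hVN
    intro v hv x hx
    rw [← closure_conj_eq hN hL0] at hx
    induction hx using Subgroup.closure_induction with
    | mem x hx =>
      obtain ⟨g, l, hl, rfl⟩ := hx
      apply hcon g v hv
      rw [mem_cj]
      have : g⁻¹ * (g * l * g⁻¹) * g = l := by group
      rwa [this]
    | one => exact Commute.one_right v
    | mul x y _ _ hx hy => exact hx.mul_right hy
    | inv x _ hx => exact hx.inv_right
  set L : Subgroup K := cj g0 L0 with hLdef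
  have hL : MinIn N L := hL0.cj hN.normal g0
  have hLs := simple_of_minIn hN hL
  have hLna := not_comm_of_minIn hN hL hNab
  have hLna' : ¬ IsMulCommutative L := by
    intro h
    apply hLna
    intro a ha b hb
    have h1 : (⟨a, ha⟩ : L) * ⟨b, hb⟩ = ⟨b, hb⟩ * ⟨a, ha⟩ := mul_comm' _ _
    exact congrArg Subtype.val h1
  -- an element of order `p` of `L` lies in `P`
  obtain ⟨x, hxL, hxP, hx1⟩ : ∃ x ∈ L, x ∈ P ∧ x ≠ 1 := by
    obtain ⟨⟨z, hzL⟩, hz⟩ := exists_prime_orderOf_dvd_card' p (dvd_card_minIn hN hL hNab hpN)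
    have hz' : orderOf z = p := by rwa [Subgroup.orderOf_mk] at hz
    have hPN : IsPGroup p ((P : Subgroup K).subgroupOf N) := P.isPGroup'.comap_subtype
    have hidx : ¬ p ∣ ((P : Subgroup K).subgroupOf N).index :=
      Lib.SylowNormalInf.not_dvd_relIndex P N
    let P' : Sylow p N := hPN.toSylow hidx
    obtain ⟨⟨k, hk⟩, hkz⟩ := exists_conj_mem_sylow P' (z := (⟨z, hL.le hzL⟩ : N))
      (by rw [Subgroup.orderOf_mk, hz'])
    have hkz' : k * z * k⁻¹ ∈ P := hkz
    refine ⟨k * z * k⁻¹, hL.conj k hk z hzL, hkz', ?_⟩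
    intro h1
    have h2 : orderOf (k * z * k⁻¹) = p := by rw [orderOf_cj, hz']
    rw [h1, orderOf_one] at h2
    exact hpp.one_lt.ne h2
  -- `V` normalises `L`
  have hVL : ∀ v ∈ V, cj v L = L := by
    intro v hv
    by_contra hne
    have hcom := hL.commute (hL.cj hN.normal v) (fun h => hne h.symm)
    apply hx1
    refine center_minIn hN hL hNab hxL fun l hl => ?_
    refine hcom l hl x ?_
    rw [mem_cj]
    have h1 : v⁻¹ * x * v = x := by
      have := (hPc v (hVP hv) x hxP).eq
      rw [mul_assoc, ← this]; group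
    rwa [h1]
  have hVnorm : ∀ v ∈ V, v ∈ normalizer (L : Set K) := by
    intro v hv
    rw [mem_normalizer_iff]
    intro y
    have h1 := hVL v hv
    constructor
    · intro hy
      have : v * y * v⁻¹ ∈ cj v L := by
        rw [mem_cj]
        have : v⁻¹ * (v * y * v⁻¹) * v = y := by group
        rwa [this]
      rwa [h1] at this
    · intro hy
      have hy' : v * y * v⁻¹ ∈ cj v L := by rw [h1]; exact hy
      rw [mem_cj] at hy'
      have : v⁻¹ * (v * y * v⁻¹) * v = y := by group
      rwa [this] at hy'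
  -- elements of `X` and `Y` which do not centralise `L`
  have hex : ∀ Z : Set K, closure Z = V → ∃ z ∈ Z, ∃ r ∈ L, ¬ Commute r z := by
    intro Z hZ
    by_contra hcon
    push Not at hcon
    apply hg0
    intro v hv y hy
    rw [← hZ] at hv
    induction hv using Subgroup.closure_induction with
    | mem z hz => exact (hcon z hz y hy).symm
    | one => exact Commute.one_left y
    | mul x y _ _ hx hy => exact hx.mul_left hy
    | inv x _ hx => exact hx.inv_left
  obtain ⟨a, haX, ha⟩ := hex X hX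
  obtain ⟨b, hbY, hb⟩ := hex Y hY
  have hord : ∀ v ∈ V, (∃ r ∈ L, ¬ Commute r v) → orderOf v = p := by
    intro v hv hne
    refine orderOf_eq_prime (hVp v hv) ?_
    rintro rfl
    obtain ⟨r, -, hr⟩ := hne
    exact hr (Commute.one_right r)
  have hcardL : Nat.card L < n := by
    refine lt_of_le_of_lt ?_ hmn
    rw [← hm]
    exact Subgroup.card_le_card_group L
  have hpair := mpair_of_simple hpp (S := ⊤) (L := L) le_top (hM L hLs hLna' hcardL)
    (hord a (hXV haX) ha) (hord b (hYV hbY) hb) (hVnorm a (hXV haX)) (hVnorm b (hYV hbY)) ha hb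
  obtain ⟨g, -, i, j, hcon⟩ := hpair
  obtain ⟨k, hk⟩ := hT a haX b hbY g i j
  exact hcon k (by simpa using hk)

end main

end Cfsg.Agent.H106.AbSyl
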