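import Cfsg.Agent.H106.AbSyl
import Cfsg.Agent.H818.StrP.Gen

/-!
# Simple groups with an abelian Sylow `p`-subgroup: pairs of elements of order `p`

`mpair_of_abelian`: `S` simple, `P` abelian, `N(P)` irreducible on `Ω₁(P)` (S5303), no strongly
`p`-embedded subgroup, `MRow p L` for the smaller simple groups: then `MPair` for all pairs of
elements of order `p` of `S`.
-/

set_option autoImplicit false

universe u

namespace Cfsg.Agent.H106.AbSyl

open Cfsg.Agent.H533.T5 Cfsg.Agent.H957.T5M Cfsg.Agent.H106.MB Cfsg.Agent.H106.MT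
open Cfsg.Agent.H106.TwoRed Subgroup
open Cfsg.Agent.H818.StrP (NoSP)

theorem TT.conj {G : Type*} [Group G] {p : ℕ} {a b : G} (h : TT p a b) (s t : G) :
    TT p (s * a * s⁻¹) (t * b * t⁻¹) := by
  intro g i j
  obtain ⟨k, hk⟩ := h (s⁻¹ * g * t) i j
  refine ⟨k, ?_⟩
  have h1 : (s * a * s⁻¹) ^ i * (g * (t * b * t⁻¹) * g⁻¹) ^ j =
      s * (a ^ i * (s⁻¹ * g * t * b * (s⁻¹ * g * t)⁻¹) ^ j) * s⁻¹ := by
    have h2 : g * (t * b * t⁻¹) * g⁻¹ = s * (s⁻¹ * g * t * b * (s⁻¹ * g * t)⁻¹) * s⁻¹ := by group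
    rw [h2, conj_zpow, conj_zpow]
    group
  rw [h1, conj_pow, hk]
  group

theorem mpair_of_abelian {S : Type u} [Group S] [Finite S] [hSs : IsSimpleGroup S] {p : ℕ}
    (hSna : ¬ IsMulCommutative S)
    [hp : Fact p.Prime] (P : Sylow p S) (hPab : ∀ a ∈ P, ∀ b ∈ P, Commute a b)
    {Ω : Subgroup S} (hΩ : ∀ x : S, x ∈ Ω ↔ x ∈ (P : Subgroup S) ∧ x ^ p = 1)
    (hirr : ∀ B : Subgroup S, B ≤ Ω →
      (∀ n ∈ normalizer ((P : Subgroup S) : Set S), ∀ b ∈ B, n * b * n⁻¹ ∈ B) → B = ⊥ ∨ B = Ω)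
    (hSE : NoSP p S)
    (hM : ∀ (L : Type u) [Group L] [Finite L], IsSimpleGroup L → ¬ IsMulCommutative L →
      Nat.card L < Nat.card S → MRow p L)
    {x y : S} (hx : orderOf x = p) (hy : orderOf y = p) : MPair p (⊤ : Subgroup S) x y := by
  have hpp : p.Prime := hp.out
  by_contra hcon
  rw [not_mpair_iff (isOfFinOrder_of_finite x) (isOfFinOrder_of_finite y)] at hcon
  have hTT : TT p x y := fun g => hcon g (mem_top g)
  have hΩP : Ω ≤ (P : Subgroup S) := fun z hz => ((hΩ z).1 hz).1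
  have hΩab : ∀ a ∈ Ω, ∀ b ∈ Ω, Commute a b := fun a ha b hb => hPab a (hΩP ha) b (hΩP hb)
  have hNΩ : ∀ n ∈ normalizer ((P : Subgroup S) : Set S), ∀ w ∈ Ω, n * w * n⁻¹ ∈ Ω := by
    intro n hn w hw
    rw [hΩ] at hw ⊢
    refine ⟨(mem_normalizer_iff.1 hn w).1 hw.1, ?_⟩
    rw [conj_pow, hw.2]; group
  -- conjugates of an element of order `p` in `Ω`
  have hcl : ∀ z : S, orderOf z = p →
      closure {w : S | w ∈ Ω ∧ ∃ g : S, w = g * z * g⁻¹} = Ω := by
    intro z hz
    set B : Subgroup S := closure {w : S | w ∈ Ω ∧ ∃ g : S, w = g * z * g⁻¹} with hB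
    have hBΩ : B ≤ Ω := by
      rw [hB, closure_le]; exact fun w hw => hw.1
    have hBn : ∀ n ∈ normalizer ((P : Subgroup S) : Set S), ∀ b ∈ B, n * b * n⁻¹ ∈ B := by
      intro n hn b hb
      rw [hB] at hb
      induction hb using closure_induction with
      | mem b hb =>
        obtain ⟨h1, g, rfl⟩ := hb
        exact subset_closure ⟨hNΩ n hn _ h1, n * g, by group⟩
      | one => simp
      | mul a b _ _ ha hb =>
        have : n * (a * b) * n⁻¹ = (n * a * n⁻¹) * (n * b * n⁻¹) := by group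
        rw [this]; exact mul_mem ha hb
      | inv a _ ha =>
        have : n * a⁻¹ * n⁻¹ = (n * a * n⁻¹)⁻¹ := by group
        rw [this]; exact inv_mem ha
    rcases hirr B hBΩ hBn with hb | hb
    · exfalso
      obtain ⟨g, hg⟩ := exists_conj_mem_sylow P hz
      have h2 : orderOf (g * z * g⁻¹) = p := by rw [orderOf_cj, hz]
      have hgΩ : g * z * g⁻¹ ∈ Ω := by
        rw [hΩ]
        exact ⟨hg, by rw [← h2]; exact pow_orderOf_eq_one _⟩
      have h1 : g * z * g⁻¹ ∈ B := subset_closure ⟨hgΩ, g, rfl⟩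
      rw [hb, mem_bot] at h1
      rw [h1, orderOf_one] at h2
      exact hpp.one_lt.ne h2
    · exact hb
  have hX := hcl x hx
  have hY := hcl y hy
  set X : Set S := {w : S | w ∈ Ω ∧ ∃ g : S, w = g * x * g⁻¹} with hXdef
  set Y : Set S := {w : S | w ∈ Ω ∧ ∃ g : S, w = g * y * g⁻¹} with hYdef
  have hT : ∀ a ∈ X, ∀ b ∈ Y, TT p a b := by
    rintro a ⟨-, s, rfl⟩ b ⟨-, t, rfl⟩
    exact hTT.conj s t
  have hΩb : Ω ≠ ⊥ := by
    intro hb
    obtain ⟨g, hg⟩ := exists_conj_mem_sylow P hx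
    have h2 : orderOf (g * x * g⁻¹) = p := by rw [orderOf_cj, hx]
    have h1 : g * x * g⁻¹ ∈ Ω := by
      rw [hΩ]
      exact ⟨hg, by rw [← h2]; exact pow_orderOf_eq_one _⟩
    rw [hb, mem_bot] at h1
    rw [h1, orderOf_one] at h2
    exact hpp.one_lt.ne h2
  -- `S` is not abelian
  have hcomm : ¬ ∀ a b : S, Commute a b := by
    intro h
    exact hSna ⟨⟨fun a b => h a b⟩⟩
  -- centralisers
  have hcent : ∀ h ∈ Ω, h ≠ 1 → ∀ c : S, Commute c h → ∀ v ∈ Ω, c * v * c⁻¹ ∈ Ω := by
    intro h hh h1 c hc v hv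
    set C : Subgroup S := centralizer ({h} : Set S) with hC
    have hCt : C ≠ ⊤ := by
      intro ht
      have h2 : h ∈ center S := by
        rw [mem_center_iff]
        intro g
        have h3 : g ∈ C := by rw [ht]; exact mem_top g
        exact (mem_centralizer_iff.1 h3 h rfl).symm
      rcases (inferInstance : (center S).Normal).eq_bot_or_eq_top with h4 | h4
      · rw [h4, mem_bot] at h2
        exact h1 h2
      · apply hcomm
        intro a b
        have h5 : b ∈ center S := by rw [h4]; exact mem_top b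
        exact mem_center_iff.1 h5 a
    have hlt : Nat.card C < Nat.card S := by
      have h2 := C.card_mul_index
      have h3 : C.index ≠ 1 := by rwa [Ne, index_eq_one]
      have h4 : 0 < C.index := Nat.pos_of_ne_zero C.index_ne_zero_of_finite
      have h5 : 0 < Nat.card C := Nat.card_pos
      have h6 : 2 ≤ C.index := by omega
      have h7 : Nat.card C * 2 ≤ Nat.card C * C.index := Nat.mul_le_mul_left _ h6
      omega
    have hPC : (P : Subgroup S) ≤ C := by
      intro z hz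
      rw [hC, mem_centralizer_iff]
      rintro _ rfl
      exact hPab _ (hΩP hh) z hz
    have hΩC : Ω ≤ C := hΩP.trans hPC
    let P' : Sylow p C := P.subtype hPC
    have hP' : ∀ z : C, z ∈ P' ↔ (z : S) ∈ P := fun z => Iff.rfl
    have h2 := le_pCore_of_TT (p := p) (Nat.card S) hM (Nat.card C) hlt C rfl P' (Ω.subgroupOf C)
      (fun a ha b hb => Subtype.ext (hPab a ha b hb).eq) (fun v hv => hΩP hv)
      (fun v hv => Subtype.ext ((hΩ _).1 hv).2) _ _ (closure_sub hΩC hX) (closure_sub hΩC hY)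
      (fun a ha b hb => (hT a ha b hb).sub a.2 b.2)
    have hcC : c ∈ C := by
      rw [hC, mem_centralizer_iff]
      rintro _ rfl
      exact hc.eq.symm
    have h3 : (⟨v, hΩC hv⟩ : C) ∈ Cfsg.pCore p C := h2 hv
    have h4 := (Lib.Cores.pCore_normal (G := C) p).conj_mem _ h3 ⟨c, hcC⟩
    have h5 := Lib.Cores.pCore_le_sylow P' h4
    rw [hΩ]
    refine ⟨h5, ?_⟩
    rw [conj_pow, ((hΩ v).1 hv).2]; group
  -- the normaliser of `Ω`
  set M : Subgroup S := normalizer (Ω : Set S) with hMdef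
  have hPM : (P : Subgroup S) ≤ M := by
    intro z hz
    rw [hMdef, mem_normalizer_iff]
    intro w
    constructor
    · intro hw
      have h1 := hPab z hz w (hΩP hw)
      rw [h1.eq, mul_inv_cancel_right]
      exact hw
    · intro hw
      have h1 := hPab z hz _ (hΩP hw)
      have h2 : w = z⁻¹ * (z * w * z⁻¹) * z := by group
      have h3 : z⁻¹ * (z * w * z⁻¹) * z = z * w * z⁻¹ := by
        rw [mul_assoc, ← h1.eq]; group
      rw [h2, h3]; exact hw
  have hMelt : ∀ z ∈ M, z ^ p = 1 → z ∈ Ω := by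
    intro z hz hzp
    by_cases hz1 : z = 1
    · rw [hz1]; exact one_mem _
    have hzo : orderOf z = p := orderOf_eq_prime hzp hz1
    let P' : Sylow p M := P.subtype hPM
    obtain ⟨k, hk⟩ := exists_conj_mem_sylow P' (z := (⟨z, hz⟩ : M)) (by rw [Subgroup.orderOf_mk, hzo])
    have h1 : (k : S) * z * (k : S)⁻¹ ∈ P := hk
    have h2 : (k : S) * z * (k : S)⁻¹ ∈ Ω := by
      rw [hΩ]
      exact ⟨h1, by rw [conj_pow, hzp]; group⟩
    exact (mem_normalizer_iff.1 k.2 z).2 h2
  apply hSE M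
  apply H818.StrP.of_normIn'
  · -- `p ∣ |M|`
    obtain ⟨g, hg⟩ := exists_conj_mem_sylow P hx
    have h2 : orderOf (g * x * g⁻¹) = p := by rw [orderOf_cj, hx]
    have h3 : g * x * g⁻¹ ∈ M := hPM hg
    rw [← h2, ← Subgroup.orderOf_mk _ h3]
    exact orderOf_dvd_natCard _
  · intro hMt
    have h1 : Ω.Normal := by
      rw [← normalizer_eq_top_iff]; exact hMt
    rcases h1.eq_bot_or_eq_top with h2 | h2
    · exact hΩb h2
    · apply hcomm
      intro a b
      exact hΩab a (by rw [h2]; exact mem_top a) b (by rw [h2]; exact mem_top b)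
  · intro Q hQ hQM hQ1
    -- an element of order `p` of `Q`
    obtain ⟨h, hhQ, hho⟩ : ∃ h ∈ Q, orderOf h = p := by
      have h1 : p ∣ Nat.card Q := by
        have hQn : Nontrivial Q := (nontrivial_iff_ne_bot Q).2 hQ1
        obtain ⟨n, hn⟩ := IsPGroup.iff_card.1 hQ
        have h2 : 1 < Nat.card Q := Finite.one_lt_card
        rw [hn] at h2 ⊢
        refine dvd_pow_self p ?_
        rintro rfl
        simp at h2
      obtain ⟨⟨z, hzQ⟩, hz⟩ := exists_prime_orderOf_dvd_card' p h1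
      exact ⟨z, hzQ, by rwa [Subgroup.orderOf_mk] at hz⟩
    have hone : ∀ g ∈ normalizer (Q : Set S), ∀ w ∈ Ω, g * w * g⁻¹ ∈ Ω := by
      intro g hg w hw
      have h0 : h ∈ Ω := hMelt h (hQM hhQ) (by rw [← hho]; exact pow_orderOf_eq_one _)
      have h1 : g * h * g⁻¹ ∈ Q := (mem_normalizer_iff.1 hg h).1 hhQ
      have h2 : orderOf (g * h * g⁻¹) = p := by rw [orderOf_cj, hho]
      have h3 : g * h * g⁻¹ ∈ Ω := hMelt _ (hQM h1) (by rw [← h2]; exact pow_orderOf_eq_one _)
      have h4 : g * h * g⁻¹ ≠ 1 := by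
        intro h5
        rw [h5, orderOf_one] at h2
        exact hpp.one_lt.ne h2
      have h5 : Commute (g * w * g⁻¹) (g * h * g⁻¹) := by
        have := (hΩab w hw h h0).map (MulAut.conj g).toMonoidHom
        simpa [MulAut.conj_apply] using this
      have h6 := hcent _ h3 h4 _ h5
      apply hMelt
      · rw [hMdef, mem_normalizer_iff]
        have h7 := hcent _ h3 h4 (g * w * g⁻¹)⁻¹ h5.inv_left
        intro v
        constructor
        · exact fun hv => h6 v hv
        · intro hv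
          have h8 := h7 _ hv
          have h9 : (g * w * g⁻¹)⁻¹ * (g * w * g⁻¹ * v * (g * w * g⁻¹)⁻¹) * (g * w * g⁻¹)⁻¹⁻¹ = v := by
            group
          rwa [h9] at h8
      · rw [conj_pow, ((hΩ w).1 hw).2]; group
    intro g hg
    rw [hMdef, mem_normalizer_iff]
    intro v
    constructor
    · exact fun hv => hone g hg v hv
    · intro hv
      have h8 := hone g⁻¹ (inv_mem hg) _ hv
      have h9 : g⁻¹ * (g * v * g⁻¹) * g⁻¹⁻¹ = v := by group
      rwa [h9] at h8

end Cfsg.Agent.H106.AbSyl
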