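import Cfsg.Agent.H106.RegPrim

set_option autoImplicit false

/-!
# Groups containing the full cycle of `ZMod (p ^ b)`
-/

namespace Cfsg.Agent.H106.CycPrim

open scoped Pointwise

theorem exists_nsmul {p b : ℕ} [hp : Fact p.Prime] {x : ZMod (p ^ b)} (hx : x ≠ 0) :
    ∃ n : ℕ, n • x = ((p ^ (b - 1) : ℕ) : ZMod (p ^ b)) := by
  have : NeZero (p ^ b) := ⟨(pow_pos hp.out.pos b).ne'⟩
  have hv0 : x.val ≠ 0 := by
    rw [Ne, ZMod.val_eq_zero]
    exact hx
  obtain ⟨i, y, hy, hiy⟩ := Nat.exists_eq_pow_mul_and_not_dvd hv0 p hp.out.ne_one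
  have hib : i < b := by
    by_contra h
    have h1 : p ^ b ≤ x.val := by
      rw [hiy]
      calc p ^ b ≤ p ^ i := Nat.pow_le_pow_right hp.out.pos (not_lt.1 h)
        _ ≤ p ^ i * y := Nat.le_mul_of_pos_right _ (Nat.pos_of_ne_zero (by
            rintro rfl
            exact hy (dvd_zero p)))
    exact absurd (ZMod.val_lt x) (not_lt.2 h1)
  have hcop : Nat.Coprime y (p ^ b) := by
    apply Nat.Coprime.pow_right
    rw [Nat.coprime_comm, Nat.Prime.coprime_iff_not_dvd hp.out]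
    exact hy
  refine ⟨((y : ZMod (p ^ b))⁻¹).val * p ^ (b - 1 - i), ?_⟩
  rw [nsmul_eq_mul]
  push_cast
  rw [ZMod.natCast_val, ZMod.cast_id', id_eq]
  have h1 : x = (p : ZMod (p ^ b)) ^ i * y := by
    conv_lhs => rw [← ZMod.natCast_zmod_val x, hiy]
    push_cast
    rfl
  rw [h1]
  have h2 : (y : ZMod (p ^ b)) * (y : ZMod (p ^ b))⁻¹ = 1 := ZMod.coe_mul_inv_eq_one y hcop
  have h3 : (p : ZMod (p ^ b)) ^ (b - 1) = p ^ (b - 1 - i) * p ^ i := by
    rw [← pow_add]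
    congr 1
    omega
  rw [h3]
  linear_combination ((p : ZMod (p ^ b)) ^ (b - 1 - i) * p ^ i) * h2

/-- A group containing the full cycle `x ↦ x + 1` and an element `u` with `u (x + p^(b-1)) = u x + 1` for
some `x` is primitive. -/
theorem isPreprimitive {p b : ℕ} [hp : Fact p.Prime] (G : Subgroup (Equiv.Perm (ZMod (p ^ b))))
    {c u : Equiv.Perm (ZMod (p ^ b))} (hc : ∀ x, c x = x + 1) (hcG : c ∈ G) (huG : u ∈ G)
    {x₀ : ZMod (p ^ b)} (hu : u (x₀ + ((p ^ (b - 1) : ℕ) : ZMod (p ^ b))) = u x₀ + 1) :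
    MulAction.IsPreprimitive G (ZMod (p ^ b)) := by
  have : NeZero (p ^ b) := ⟨(pow_pos hp.out.pos b).ne'⟩
  have hcpow : ∀ (n : ℕ) (x : ZMod (p ^ b)), (c ^ n) x = x + n := by
    intro n
    induction n with
    | zero => intro x; simp
    | succ n ih =>
      intro x
      rw [pow_succ, Equiv.Perm.mul_apply, ih, hc]
      push_cast
      ring
  -- translations
  let t : ZMod (p ^ b) → G := fun k => ⟨c ^ k.val, G.pow_mem hcG _⟩
  have ht : ∀ k x : ZMod (p ^ b), t k • x = x + k := by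
    intro k x
    change (c ^ k.val) x = x + k
    rw [hcpow, ZMod.natCast_val, ZMod.cast_id', id_eq]
  have htr : MulAction.IsPretransitive G (ZMod (p ^ b)) := by
    refine ⟨fun x y => ⟨t (y - x), ?_⟩⟩
    rw [ht]
    ring
  refine { isTrivialBlock_of_isBlock := ?_ }
  intro B hB
  by_cases hsub : B.Subsingleton
  · exact Or.inl hsub
  right
  rw [Set.not_subsingleton_iff] at hsub
  obtain ⟨a, ha, a', ha', haa⟩ := hsub
  -- the stabilizer of `B` in the translations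
  have hstab : ∀ k : ZMod (p ^ b), (∃ x ∈ B, x + k ∈ B) → t k • B = B := by
    rintro k ⟨x, hx, hxk⟩
    apply hB.smul_eq_of_nonempty
    refine ⟨x + k, ?_, hxk⟩
    rw [← ht k x]
    exact Set.smul_mem_smul_set hx
  have hmem : ∀ k : ZMod (p ^ b), t k • B = B → ∀ x ∈ B, x + k ∈ B := by
    intro k hk x hx
    rw [← hk, ← ht k x]
    exact Set.smul_mem_smul_set hx
  have hmul : ∀ k : ZMod (p ^ b), t k • B = B → ∀ n : ℕ, ∀ x ∈ B, x + n • k ∈ B := by
    intro k hk n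
    induction n with
    | zero => intro x hx; simpa using hx
    | succ n ih =>
      intro x hx
      have h1 := hmem k hk _ (ih x hx)
      rwa [add_assoc, ← succ_nsmul] at h1
  have hk0 : t (a' - a) • B = B := hstab _ ⟨a, ha, by simpa using ha'⟩
  obtain ⟨n, hn⟩ := exists_nsmul (sub_ne_zero.2 haa.symm)
  have hq : ∀ x ∈ B, x + ((p ^ (b - 1) : ℕ) : ZMod (p ^ b)) ∈ B := by
    intro x hx
    rw [← hn]
    exact hmul _ hk0 n x hx
  -- an element moving `a` to `x₀`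
  let g : G := (t (x₀ - a))⁻¹ * t (x₀ - u x₀) * ⟨u, huG⟩ * t (x₀ - a)
  have hg : ∀ y : ZMod (p ^ b), g • y = u (y + (x₀ - a)) + (a - u x₀) := by
    intro y
    change ((t (x₀ - a))⁻¹ * t (x₀ - u x₀) * ⟨u, huG⟩ * t (x₀ - a)) • y = _
    rw [mul_smul, mul_smul, mul_smul, inv_smul_eq_iff, ht, ht, ht]
    change u (y + (x₀ - a)) + (x₀ - u x₀) = u (y + (x₀ - a)) + (a - u x₀) + (x₀ - a)
    ring
  have hga : g • a = a := by
    rw [hg]
    have h1 : a + (x₀ - a) = x₀ := by ring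
    rw [h1]
    ring
  have hgB : g • B = B := by
    apply hB.smul_eq_of_nonempty
    refine ⟨a, ?_, ha⟩
    rw [← hga]
    exact Set.smul_mem_smul_set ha
  have h1 : g • (a + ((p ^ (b - 1) : ℕ) : ZMod (p ^ b))) ∈ B := by
    rw [← hgB]
    exact Set.smul_mem_smul_set (hq a ha)
  rw [hg] at h1
  have h2 : a + ((p ^ (b - 1) : ℕ) : ZMod (p ^ b)) + (x₀ - a) = x₀ + ((p ^ (b - 1) : ℕ) : ZMod (p ^ b)) := by
    ring
  rw [h2, hu] at h1
  have h3 : a + 1 ∈ B := by
    have : u x₀ + 1 + (a - u x₀) = a + 1 := by ring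
    rwa [this] at h1
  have h4 := hmul _ (hstab 1 ⟨a, ha, h3⟩)
  rw [Set.eq_univ_iff_forall]
  intro y
  have h5 := h4 (y - a).val a ha
  rw [nsmul_one, ZMod.natCast_val, ZMod.cast_id', id_eq] at h5
  simpa using h5

/-- ... and not solvable, if `p` is odd and `b ≥ 2`. -/
theorem not_isSolvable {p b : ℕ} [hp : Fact p.Prime] (hp2 : p ≠ 2) (hb : 2 ≤ b)
    (G : Subgroup (Equiv.Perm (ZMod (p ^ b))))
    {c u : Equiv.Perm (ZMod (p ^ b))} (hc : ∀ x, c x = x + 1) (hcG : c ∈ G) (huG : u ∈ G)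
    {x₀ : ZMod (p ^ b)} (hu : u (x₀ + ((p ^ (b - 1) : ℕ) : ZMod (p ^ b))) = u x₀ + 1) :
    ¬ Group.IsSolvable G := by
  intro hsol
  have : NeZero (p ^ b) := ⟨(pow_pos hp.out.pos b).ne'⟩
  have hprim := isPreprimitive G hc hcG huG hu
  refine Cfsg.Agent.H106.RegPrim.false_of_solvable hprim hp2 hb (Nat.card_zmod _) ⟨c, hcG⟩ ?_
  intro x y
  have hcpow : ∀ (n : ℕ) (x : ZMod (p ^ b)), (c ^ n) x = x + n := by
    intro n
    induction n with
    | zero => intro x; simp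
    | succ n ih =>
      intro x
      rw [pow_succ, Equiv.Perm.mul_apply, ih, hc]
      push_cast
      ring
  refine ⟨(y - x).val, ?_⟩
  change (c ^ (y - x).val) x = y
  rw [hcpow, ZMod.natCast_val, ZMod.cast_id', id_eq]
  ring

end Cfsg.Agent.H106.CycPrim
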