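import Mathlib

set_option autoImplicit false

/-!
# Fixed points and norms of commuting automorphisms of exponent `p` of an abelian `p'`-group
-/

namespace Cfsg.Agent.H106.FixNorm

open Finset

variable {V : Type*} [CommGroup V] {p : ℕ}

/-- the fixed points of an automorphism -/
def Fx (a : MulAut V) : Subgroup V where
  carrier := {v | a v = v}
  one_mem' := map_one a
  mul_mem' := by
    intro x y hx hy
    simp only [Set.mem_ofPred_eq] at hx hy ⊢
    rw [map_mul, hx, hy]
  inv_mem' := by
    intro x hx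
    simp only [Set.mem_ofPred_eq] at hx ⊢
    rw [map_inv, hx]

theorem mem_Fx {a : MulAut V} {v : V} : v ∈ Fx a ↔ a v = v := Iff.rfl

/-- the norm map -/
noncomputable def nm (p : ℕ) (a : MulAut V) : V →* V where
  toFun v := ∏ j ∈ range p, (a ^ j) v
  map_one' := by simp
  map_mul' x y := by simp [Finset.prod_mul_distrib]

theorem nm_apply (a : MulAut V) (v : V) : nm p a v = ∏ j ∈ range p, (a ^ j) v := rfl

theorem nm_fixed {a : MulAut V} (ha : a ^ p = 1) (v : V) : a (nm p a v) = nm p a v := by
  rw [nm_apply, map_prod]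
  have h1 : ∀ j, a ((a ^ j) v) = (a ^ (j + 1)) v := fun j => by rw [pow_succ', MulAut.mul_apply]
  simp only [h1]
  have h2 := Finset.prod_range_succ (fun j => (a ^ j) v) p
  have h3 := Finset.prod_range_succ' (fun j => (a ^ j) v) p
  rw [h2] at h3
  rw [ha, pow_zero] at h3
  exact (mul_right_cancel h3).symm

theorem pow_apply_of_fixed {a : MulAut V} {v : V} (h : a v = v) (j : ℕ) : (a ^ j) v = v := by
  induction j with
  | zero => simp
  | succ n ih => rw [pow_succ, MulAut.mul_apply, h, ih]

theorem nm_of_fixed {a : MulAut V} {v : V} (h : a v = v) : nm p a v = v ^ p := by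
  rw [nm_apply, Finset.prod_congr rfl (fun j _ => pow_apply_of_fixed h j)]
  simp

theorem nm_conj {a b c : MulAut V} (h : c * a = b * c) (v : V) : nm p b (c v) = c (nm p a v) := by
  rw [nm_apply, nm_apply, map_prod]
  refine Finset.prod_congr rfl fun j hj => ?_
  have h1 : c * a ^ j = b ^ j * c := by
    clear hj
    induction j with
    | zero => simp
    | succ n ih => rw [pow_succ, ← mul_assoc, ih, mul_assoc, h, ← mul_assoc, ← pow_succ]
  rw [← MulAut.mul_apply, ← MulAut.mul_apply, h1]

theorem eq_one_of_pow {x : V} [Finite V] (hcop : (Nat.card V).Coprime p) (h : x ^ p = 1) : x = 1 := by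
  have h1 : orderOf x ∣ p := orderOf_dvd_of_pow_eq_one h
  have h2 : orderOf x ∣ Nat.card V := orderOf_dvd_natCard x
  have h3 : orderOf x ∣ 1 := by
    rw [← hcop]
    exact Nat.dvd_gcd h2 h1
  exact orderOf_eq_one_iff.1 (Nat.dvd_one.1 h3)

/-- if a power `z ^ j` with `j` prime to the exponent `p` fixes `v` then so does `z` -/
theorem fixed_of_pow {z : MulAut V} (hz : z ^ p = 1) {j : ℕ} (hj : Nat.Coprime j p) {v : V}
    (h : (z ^ j) v = v) : z v = v := by
  obtain ⟨m, hm⟩ : ∃ m : ℕ, (z ^ j) ^ m = z := by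
    have h1 : (orderOf z).Coprime j := by
      exact (Nat.Coprime.coprime_dvd_left (orderOf_dvd_of_pow_eq_one hz) hj.symm)
    exact exists_pow_eq_self_of_coprime h1.symm
  rw [← hm]
  exact pow_apply_of_fixed h m

variable {e z : MulAut V}

theorem pow_mul_pow (hez : e * z = z * e) (i j : ℕ) : (e * z ^ i) ^ j = e ^ j * (z ^ j) ^ i := by
  have h : Commute e (z ^ i) := Commute.pow_right hez i
  rw [h.mul_pow, ← pow_mul, ← pow_mul, mul_comm]

theorem pow_eq_one (he : e ^ p = 1) (hz : z ^ p = 1) (hez : e * z = z * e) (i : ℕ) :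
    (e * z ^ i) ^ p = 1 := by
  rw [pow_mul_pow hez, he, hz, one_pow, one_mul]

/-- the product of the norms to the fixed points of the `e z ^ i` is the `p`-th power -/
theorem prod_nm [Finite V] [hp : Fact p.Prime] (hz : z ^ p = 1)
    (hez : e * z = z * e) (hzf : ∀ v, z v = v → v = 1) (v : V) :
    ∏ i ∈ range p, nm p (e * z ^ i) v = v ^ p := by
  simp only [nm_apply]
  rw [Finset.prod_comm]
  have h0 : ∀ j ∈ range p, j ≠ 0 → ∏ i ∈ range p, ((e * z ^ i) ^ j) v = 1 := by
    intro j hj hj0
    have hj' : j < p := Finset.mem_range.1 hj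
    have hcop : Nat.Coprime j p :=
      (Nat.coprime_of_lt_prime hj0 hj' hp.out).symm
    have h1 : ∀ i, ((e * z ^ i) ^ j) v = (e ^ j) (((z ^ j) ^ i) v) := fun i => by
      rw [pow_mul_pow hez, MulAut.mul_apply]
    simp only [h1]
    rw [← map_prod, ← nm_apply]
    have h2 : (z ^ j) (nm p (z ^ j) v) = nm p (z ^ j) v :=
      nm_fixed (by rw [← pow_mul, mul_comm, pow_mul, hz, one_pow]) v
    rw [hzf _ (fixed_of_pow hz hcop h2), map_one]
  rw [Finset.prod_eq_single_of_mem 0 (Finset.mem_range.2 hp.out.pos) h0]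
  simp

/-- the fixed points of different `e z ^ i` meet trivially -/
theorem eq_one_of_two [hp : Fact p.Prime] (hz : z ^ p = 1)
    (hzf : ∀ v, z v = v → v = 1) {i j : ℕ} (hi : i < j) (hj : j < p) {v : V}
    (h1 : (e * z ^ i) v = v) (h2 : (e * z ^ j) v = v) : v = 1 := by
  apply hzf
  have hcop : Nat.Coprime (j - i) p :=
    (Nat.coprime_of_lt_prime (by omega) (by omega) hp.out).symm
  apply fixed_of_pow hz hcop
  have h3 : e * z ^ j = (e * z ^ i) * z ^ (j - i) := by
    rw [mul_assoc, ← pow_add]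
    congr 2
    omega
  rw [h3, MulAut.mul_apply] at h2
  exact (e * z ^ i).injective (h2.trans h1.symm)

theorem nm_eq_one [hp : Fact p.Prime] (he : e ^ p = 1) (hz : z ^ p = 1) (hez : e * z = z * e)
    (hzf : ∀ v, z v = v → v = 1) {i j : ℕ} (hij : i ≠ j) (hi : i < p) (hj : j < p) {v : V}
    (h : (e * z ^ i) v = v) : nm p (e * z ^ j) v = 1 := by
  have hc : (e * z ^ i) * (e * z ^ j) = (e * z ^ j) * (e * z ^ i) := by
    have h1 : Commute e (z ^ i) := Commute.pow_right hez i
    have h2 : Commute e (z ^ j) := Commute.pow_right hez j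
    have h3 : Commute (z ^ i) (z ^ j) := (Commute.refl z).pow_pow i j
    exact ((Commute.refl e).mul_right h2).mul_left ((h1.symm).mul_right h3)
  have h1 : (e * z ^ j) (nm p (e * z ^ j) v) = nm p (e * z ^ j) v :=
    nm_fixed (pow_eq_one he hz hez j) v
  have h2 : (e * z ^ i) (nm p (e * z ^ j) v) = nm p (e * z ^ j) v := by
    rw [← nm_conj hc, h]
  rcases lt_or_gt_of_ne hij with hlt | hlt
  · exact eq_one_of_two hz hzf hlt hj h2 h1
  · exact eq_one_of_two hz hzf hlt hi h1 h2

/-- An automorphism that permutes the `e z ^ i` transitively has few fixed points. -/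
theorem card_Fx_le [Finite V] [hp : Fact p.Prime] (hcop : (Nat.card V).Coprime p)
    (he : e ^ p = 1) (hz : z ^ p = 1) (hez : e * z = z * e)
    (hzf : ∀ v, z v = v → v = 1) {c : MulAut V} (hcz : c * z = z * c) {k : ℕ} (hk : Nat.Coprime k p)
    (hce : c * e = e * z ^ k * c) (i : ℕ) : Nat.card (Fx c) ≤ Nat.card (Fx (e * z ^ i)) := by
  let f : Fx c → Fx (e * z ^ i) := fun v => ⟨nm p (e * z ^ i) v, nm_fixed (pow_eq_one he hz hez i) _⟩
  have hinj : Function.Injective f := by
    intro x y hxy
    have h1 : nm p (e * z ^ i) ((x : V) / y) = 1 := by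
      rw [map_div, div_eq_one]
      exact congrArg Subtype.val hxy
    have hv : c ((x : V) / y) = (x : V) / y := by
      rw [map_div]
      have hx : c (x : V) = x := x.2
      have hy : c (y : V) = y := y.2
      rw [hx, hy]
    suffices h2 : ∀ v : V, nm p (e * z ^ i) v = 1 → c v = v → v = 1 from
      Subtype.ext (div_eq_one.1 (h2 _ h1 hv))
    · clear h1 hv
      intro v h1 hv
      have hstep : ∀ m : ℕ, nm p (e * z ^ (i + m * k)) v = 1 := by
        intro m
        induction m with
        | zero => simpa using h1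
        | succ m ih =>
          have h3 : c * (e * z ^ (i + m * k)) = (e * z ^ (i + (m + 1) * k)) * c := by
            have h4 : c * z ^ (i + m * k) = z ^ (i + m * k) * c := by
              exact (Commute.pow_right hcz _)
            rw [← mul_assoc, hce, mul_assoc, h4, ← mul_assoc, mul_assoc e, ← pow_add]
            congr 3
            ring
          have h5 := nm_conj (p := p) h3 v
          rw [hv, ih, map_one] at h5
          exact h5
      have hall : ∀ j : ℕ, nm p (e * z ^ j) v = 1 := by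
        intro j
        obtain ⟨m, hm⟩ : ∃ m : ℕ, i + m * k ≡ j [MOD p] := by
          have hk' : Nat.Coprime p k := hk.symm
          have : NeZero p := ⟨hp.out.ne_zero⟩
          refine ⟨(((j : ZMod p) - i) * (k : ZMod p)⁻¹).val, ?_⟩
          rw [← ZMod.natCast_eq_natCast_iff]
          push_cast
          rw [ZMod.natCast_val, ZMod.cast_id', id_eq, mul_assoc, mul_comm (k : ZMod p)⁻¹,
            ZMod.coe_mul_inv_eq_one k hk, mul_one]
          ring
        have h6 : z ^ j = z ^ (i + m * k) := by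
          have h7 : i + m * k ≡ j [MOD orderOf z] :=
            hm.of_dvd (orderOf_dvd_of_pow_eq_one hz)
          exact (pow_eq_pow_iff_modEq.2 h7).symm
        rw [h6]
        exact hstep m
      have h8 := prod_nm (p := p) hz hez hzf v
      rw [Finset.prod_congr rfl (fun j _ => hall j)] at h8
      simp only [prod_const_one] at h8
      exact eq_one_of_pow hcop h8.symm
  exact Nat.card_le_card_of_injective f hinj

/-- Three of the fixed point groups are independent. -/
theorem card_three [Finite V] [hp : Fact p.Prime] (hp3 : 3 ≤ p) (hcop : (Nat.card V).Coprime p)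
    (he : e ^ p = 1) (hz : z ^ p = 1) (hez : e * z = z * e)
    (hzf : ∀ v, z v = v → v = 1) :
    Nat.card (Fx (e * z ^ 0)) * Nat.card (Fx (e * z ^ 1)) * Nat.card (Fx (e * z ^ 2)) ≤
      Nat.card V := by
  rw [← Nat.card_prod, ← Nat.card_prod]
  let f : (Fx (e * z ^ 0) × Fx (e * z ^ 1)) × Fx (e * z ^ 2) → V :=
    fun x => (x.1.1 : V) * x.1.2 * x.2
  refine Nat.card_le_card_of_injective f ?_
  rintro ⟨⟨x0, x1⟩, x2⟩ ⟨⟨y0, y1⟩, y2⟩ hxy
  have hxy' : (x0 : V) * x1 * x2 = y0 * y1 * y2 := hxy
  have key : ∀ i, i < 3 → ∀ j, j < 3 → i ≠ j → ∀ v : V, (e * z ^ i) v = v → nm p (e * z ^ j) v = 1 :=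
    fun i hi j hj hij v hv => nm_eq_one he hz hez hzf hij (by omega) (by omega) hv
  have hself : ∀ i, ∀ x y : Fx (e * z ^ i), nm p (e * z ^ i) (x : V) = nm p (e * z ^ i) (y : V) →
      x = y := by
    intro i x y h
    rw [nm_of_fixed x.2, nm_of_fixed y.2] at h
    have h1 : ((x : V) / y) ^ p = 1 := by rw [div_pow, h, div_self']
    exact Subtype.ext (div_eq_one.1 (eq_one_of_pow hcop h1))
  have h0 : x0 = y0 := by
    apply hself
    have h := congrArg (nm p (e * z ^ 0)) hxy'
    rw [map_mul, map_mul, map_mul, map_mul, key 1 (by omega) 0 (by omega) (by omega) _ x1.2,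
      key 2 (by omega) 0 (by omega) (by omega) _ x2.2,
      key 1 (by omega) 0 (by omega) (by omega) _ y1.2,
      key 2 (by omega) 0 (by omega) (by omega) _ y2.2, mul_one, mul_one, mul_one, mul_one] at h
    exact h
  have h1 : x1 = y1 := by
    apply hself
    have h := congrArg (nm p (e * z ^ 1)) hxy'
    rw [map_mul, map_mul, map_mul, map_mul, key 0 (by omega) 1 (by omega) (by omega) _ x0.2,
      key 2 (by omega) 1 (by omega) (by omega) _ x2.2,
      key 0 (by omega) 1 (by omega) (by omega) _ y0.2,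
      key 2 (by omega) 1 (by omega) (by omega) _ y2.2, mul_one, mul_one, one_mul, one_mul] at h
    exact h
  have h2 : x2 = y2 := by
    apply hself
    have h := congrArg (nm p (e * z ^ 2)) hxy'
    rw [map_mul, map_mul, map_mul, map_mul, key 0 (by omega) 2 (by omega) (by omega) _ x0.2,
      key 1 (by omega) 2 (by omega) (by omega) _ x1.2,
      key 0 (by omega) 2 (by omega) (by omega) _ y0.2,
      key 1 (by omega) 2 (by omega) (by omega) _ y1.2] at h
    simp only [one_mul] at h
    exact h
  rw [h0, h1, h2]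

/-- The final contradiction. -/
theorem subsingleton [Finite V] [hp : Fact p.Prime] (hp3 : 3 ≤ p) (hcop : (Nat.card V).Coprime p)
    (he : e ^ p = 1) (hz : z ^ p = 1) (hez : e * z = z * e)
    (hzf : ∀ v, z v = v → v = 1) {c d : MulAut V} (hcz : c * z = z * c) (hdz : d * z = z * d)
    {k l : ℕ} (hk : Nat.Coprime k p) (hl : Nat.Coprime l p)
    (hce : c * e = e * z ^ k * c) (hde : d * e = e * z ^ l * d)
    (hf : ∀ v : V, ∃ x y : V, c x = x ∧ d y = y ∧ v = x * y) (v : V) : v = 1 := by
  have hle : Nat.card V ≤ Nat.card (Fx c) * Nat.card (Fx d) := by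
    rw [← Nat.card_prod]
    refine Nat.card_le_card_of_surjective (fun x : Fx c × Fx d => (x.1 : V) * x.2) ?_
    intro v
    obtain ⟨x, y, hx, hy, hv⟩ := hf v
    exact ⟨(⟨x, hx⟩, ⟨y, hy⟩), hv.symm⟩
  have hc : ∀ i, Nat.card (Fx c) ≤ Nat.card (Fx (e * z ^ i)) :=
    card_Fx_le hcop he hz hez hzf hcz hk hce
  have hd : ∀ i, Nat.card (Fx d) ≤ Nat.card (Fx (e * z ^ i)) :=
    card_Fx_le hcop he hz hez hzf hdz hl hde
  have h3 := card_three hp3 hcop he hz hez hzf
  have hV0 : 0 < Nat.card V := Nat.card_pos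
  have h2 : Nat.card (Fx (e * z ^ 2)) ≤ 1 := by
    by_contra hcon
    push Not at hcon
    have h4 : Nat.card V * 2 ≤ Nat.card V := by
      calc Nat.card V * 2 ≤ (Nat.card (Fx c) * Nat.card (Fx d)) * Nat.card (Fx (e * z ^ 2)) :=
            Nat.mul_le_mul hle hcon
        _ ≤ (Nat.card (Fx (e * z ^ 0)) * Nat.card (Fx (e * z ^ 1))) * Nat.card (Fx (e * z ^ 2)) :=
            Nat.mul_le_mul_right _ (Nat.mul_le_mul (hc 0) (hd 1))
        _ ≤ Nat.card V := h3
    omega
  have h5 : Nat.card V ≤ 1 * 1 := hle.trans (Nat.mul_le_mul ((hc 2).trans h2) ((hd 2).trans h2))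
  have h6 : Nat.card V = 1 := by omega
  exact (Nat.card_eq_one_iff_unique.1 h6).1.elim _ _

end Cfsg.Agent.H106.FixNorm
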