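import Cfsg.Agent.H106.AbSylR
import Cfsg.Agent.GH.AltOut
import Cfsg.Agent.H818.StrP.Row
import Cfsg.Prelude.Def_Classification2

/-!
# Inner pairs when the Sylow `p`-subgroups are abelian

`IrrHyp` : S5303 (first part); `SEHyp` : S2120 for simple groups.
`inner_of_abelian` : all pairs of elements of order `p` of a simple group with abelian Sylow
`p`-subgroups, from these and the rows of the smaller simple groups.
-/

set_option autoImplicit false

universe u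

namespace Cfsg.Agent.H106.InnerAb

open Cfsg.Agent.H533.T5 Cfsg.Agent.H957.T5M Cfsg.Agent.H106.MB Cfsg.Agent.H106.MT
open Cfsg.Agent.H106.AbSyl Subgroup
open Cfsg.Agent.H818.StrP (NoSP)

/-- The first part of S5303. -/
def IrrHyp (p : ℕ) : Prop :=
  ∀ (G : Type u) [Group G] [Finite G] [IsSimpleGroup G], ¬ IsMulCommutative G → ∀ (P : Sylow p G),
    (P : Subgroup G) ≠ ⊥ → IsMulCommutative (P : Subgroup G) → ∀ Ω : Subgroup G,
    (∀ x : G, x ∈ Ω ↔ x ∈ (P : Subgroup G) ∧ x ^ p = 1) → ∀ B : Subgroup G, B ≤ Ω →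
    (∀ n ∈ normalizer ((P : Subgroup G) : Set G), ∀ b ∈ B, n * b * n⁻¹ ∈ B) → B = ⊥ ∨ B = Ω

/-- The exceptions of S2120, `p ≥ 5`, noncyclic Sylow subgroups. -/
def Exc (p : ℕ) (Y : Type u) [Group Y] : Prop :=
  (∃ (F : Type) (_ : Field F) (_ : Fintype F), CharP F p ∧
    Nonempty (Y ≃* Matrix.ProjectiveSpecialLinearGroup (Fin 2) F)) ∨
  (∃ (F : Type) (_ : Field F) (_ : Fintype F) (n : ℕ), 1 ≤ n ∧ Fintype.card F = p ^ (2 * n) ∧
    Nonempty (Y ≃* Cfsg.PSU 3 F (p ^ n))) ∨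
  (∃ (K : Type) (_ : Field K) (_ : Fintype K) (m : ℕ), 1 ≤ m ∧ Fintype.card K = 3 ^ (2 * m + 1) ∧
    Nonempty (Y ≃* ↥(Cfsg.Lie.twistedG2 K (3 ^ m)))) ∨
  Nonempty (Y ≃* ↥(alternatingGroup (Fin (2 * p)))) ∨
  (p = 5 ∧ (Cfsg.Lie.IsoTits Y ∨
    (∃ (F : Type) (_ : Field F) (_ : Fintype F), Fintype.card F = 32 ∧
      Nonempty (Y ≃* ↥(Cfsg.Lie.Sz F 8))) ∨ Cfsg.Spor.IsoMcL Y ∨ Cfsg.Spor.IsoFi22 Y)) ∨
  (p = 11 ∧ Cfsg.Spor.IsoJ4 Y)

/-- S2120 for simple groups, `p ≥ 5`. -/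
def SEHyp (p : ℕ) : Prop :=
  ∀ (G : Type u) [Group G] [Finite G] [IsSimpleGroup G], ¬ IsMulCommutative G →
    (¬ ∀ P : Sylow p G, IsCyclic ↥(P : Subgroup G)) → ¬ Exc p G → NoSP p G

/-- **Inner pairs, abelian Sylow subgroups.** -/
theorem inner_of_abelian {p : ℕ} [hp : Fact p.Prime] (hAA : AAHyp.{u} p) (hIrr : IrrHyp.{u} p)
    (hSE : SEHyp.{u} p) {S : Type u} [Group S] [Finite S] [IsSimpleGroup S]
    (hSna : ¬ IsMulCommutative S) (hex : ¬ Exc p S)
    (P : Sylow p S) (hP : ∀ a ∈ P, ∀ b ∈ P, Commute a b)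
    (hM : ∀ (L : Type u) [Group L] [Finite L], IsSimpleGroup L → ¬ IsMulCommutative L →
      Nat.card L < Nat.card S → MRow p L) :
    ∀ x y : S, orderOf x = p → orderOf y = p → MPair p (⊤ : Subgroup S) x y := by
  intro x y hx hy
  by_cases hc : IsCyclic ↥(P : Subgroup S)
  · exact mpair_of_cyclic hAA hSna P hc hx hy
  · have hPab : IsMulCommutative (P : Subgroup S) :=
      ⟨⟨fun a b => Subtype.ext (hP a a.2 b b.2).eq⟩⟩
    have hPb : (P : Subgroup S) ≠ ⊥ := by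
      intro h
      apply hc
      have : Subsingleton ↥(P : Subgroup S) := by
        rw [h]; infer_instance
      exact isCyclic_of_subsingleton
    -- the subgroup of the elements of order dividing `p`
    let Ω : Subgroup S :=
      { carrier := {z | z ∈ P ∧ z ^ p = 1}
        one_mem' := ⟨one_mem _, one_pow _⟩
        mul_mem' := by
          rintro a b ⟨ha, ha'⟩ ⟨hb, hb'⟩
          exact ⟨mul_mem ha hb, by rw [(hP a ha b hb).mul_pow, ha', hb', one_mul]⟩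
        inv_mem' := by
          rintro a ⟨ha, ha'⟩
          exact ⟨inv_mem ha, by rw [inv_pow, ha', inv_one]⟩ }
    have hΩ : ∀ z : S, z ∈ Ω ↔ z ∈ (P : Subgroup S) ∧ z ^ p = 1 := fun z => Iff.rfl
    exact mpair_of_abelian hSna P hP hΩ (hIrr S hSna P hPb hPab Ω hΩ)
      (hSE S hSna (fun h => hc (h P)) hex) hM hx hy

/-- The same from the row of S2120. -/
theorem inner_of_row {p : ℕ} [hp : Fact p.Prime] (hAA : AAHyp.{u} p) (hIrr : IrrHyp.{u} p)
    {S : Type u} [Group S] [Finite S] [IsSimpleGroup S] (hSna : ¬ IsMulCommutative S)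
    (hrow : Cfsg.Agent.H818.StrP.Row p S) (hP : ∀ P : Sylow p S, IsMulCommutative (P : Subgroup S))
    (hM : ∀ (L : Type u) [Group L] [Finite L], IsSimpleGroup L → ¬ IsMulCommutative L →
      Nat.card L < Nat.card S → MRow p L) :
    ∀ x y : S, orderOf x = p → orderOf y = p → MPair p (⊤ : Subgroup S) x y := by
  intro x y hx hy
  obtain ⟨P⟩ : Nonempty (Sylow p S) := inferInstance
  have hP' : ∀ a ∈ P, ∀ b ∈ P, Commute a b := fun a ha b hb =>
    congrArg Subtype.val ((hP P).is_comm.comm (⟨a, ha⟩ : ↥(P : Subgroup S)) ⟨b, hb⟩)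
  by_cases hc : IsCyclic ↥(P : Subgroup S)
  · exact mpair_of_cyclic hAA hSna P hc hx hy
  have hSE : NoSP p S := hrow.resolve_left (fun h => hc (h P))
  have hPb : (P : Subgroup S) ≠ ⊥ := by
    intro h
    apply hc
    have : Subsingleton ↥(P : Subgroup S) := by
      rw [h]; infer_instance
    exact isCyclic_of_subsingleton
  let Ω : Subgroup S :=
    { carrier := {z | z ∈ P ∧ z ^ p = 1}
      one_mem' := ⟨one_mem _, one_pow _⟩
      mul_mem' := by
        rintro a b ⟨ha, ha'⟩ ⟨hb, hb'⟩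
        exact ⟨mul_mem ha hb, by rw [(hP' a ha b hb).mul_pow, ha', hb', one_mul]⟩
      inv_mem' := by
        rintro a ⟨ha, ha'⟩
        exact ⟨inv_mem ha, by rw [inv_pow, ha', inv_one]⟩ }
  have hΩ : ∀ z : S, z ∈ Ω ↔ z ∈ (P : Subgroup S) ∧ z ^ p = 1 := fun z => Iff.rfl
  exact mpair_of_abelian hSna P hP' hΩ (hIrr S hSna P hPb (hP P) Ω hΩ) hSE hM hx hy

end Cfsg.Agent.H106.InnerAb
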