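import Mathlib

set_option autoImplicit false

/-!
# Invariant subsets of prescribed `p`-power size for a permutation of `p`-power order
-/

namespace Cfsg.Agent.H106.InvSub

open Equiv Equiv.Perm

variable {Ω : Type*} [DecidableEq Ω] {p : ℕ}

theorem pow_fix_of_le (u : Perm Ω) {x : Ω} {a b : ℕ} (hab : a ≤ b) (h : (u ^ (p ^ a)) x = x) :
    (u ^ (p ^ b)) x = x := by
  obtain ⟨c, rfl⟩ := Nat.exists_eq_add_of_le hab
  rw [pow_add, pow_mul]
  have h1 : ∀ n : ℕ, ((u ^ (p ^ a)) ^ n) x = x := by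
    intro n
    induction n with
    | zero => simp
    | succ n ih => rw [pow_succ, mul_apply, h, ih]
  exact h1 _

theorem exists_maximal (u : Perm Ω) (X : Finset Ω) (hX : X.Nonempty) (m : ℕ)
    (hm : ∀ x ∈ X, (u ^ (p ^ m)) x = x) :
    ∃ x0 ∈ X, ∀ k, (u ^ (p ^ k)) x0 = x0 → ∀ y ∈ X, (u ^ (p ^ k)) y = y := by
  classical
  let f : Ω → ℕ := fun x => if h : ∃ k, (u ^ (p ^ k)) x = x then Nat.find h else 0
  have hf : ∀ x ∈ X, (u ^ (p ^ (f x))) x = x ∧ ∀ k, (u ^ (p ^ k)) x = x → f x ≤ k := by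
    intro x hx
    have h : ∃ k, (u ^ (p ^ k)) x = x := ⟨m, hm x hx⟩
    have h1 : f x = Nat.find h := dif_pos h
    rw [h1]
    exact ⟨Nat.find_spec h, fun k hk => Nat.find_min' h hk⟩
  obtain ⟨x0, hx0, hmax⟩ := Finset.exists_max_image X f hX
  refine ⟨x0, hx0, ?_⟩
  intro k hk y hy
  exact pow_fix_of_le u ((hmax y hy).trans ((hf x0 hx0).2 k hk)) (hf y hy).1

theorem exists_orbit (hp : p.Prime) (u : Perm Ω) (X : Finset Ω) (hX : ∀ x, u x ∈ X ↔ x ∈ X) (x0 : Ω) (hx0 : x0 ∈ X)
    (m : ℕ) (h1 : (u ^ (p ^ (m + 1))) x0 = x0) (h2 : (u ^ (p ^ m)) x0 ≠ x0) :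
    ∃ S ⊆ X, (∀ x, u x ∈ S ↔ x ∈ S) ∧ x0 ∈ S ∧ S.card = p ^ (m + 1) := by
  have hper : Function.minimalPeriod u x0 = p ^ (m + 1) := by
    have h3 : Function.minimalPeriod u x0 ∣ p ^ (m + 1) := by
      apply Function.IsPeriodicPt.minimalPeriod_dvd
      change u^[p ^ (m + 1)] x0 = x0
      rw [iterate_eq_pow]
      exact h1
    obtain ⟨k, hk, hk'⟩ := (Nat.dvd_prime_pow hp).1 h3
    rcases Nat.lt_or_ge k (m + 1) with h4 | h4
    · exfalso
      apply h2
      apply pow_fix_of_le u (Nat.lt_succ_iff.1 h4)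
      rw [← hk', ← iterate_eq_pow]
      exact Function.isPeriodicPt_minimalPeriod u x0
    · rw [hk', le_antisymm hk h4]
  have hinj : Set.InjOn (fun i : ℕ => (u ^ i) x0) (Finset.range (p ^ (m + 1)) : Set ℕ) := by
    intro a ha b hb hab
    have h3 := Function.iterate_injOn_Iio_minimalPeriod (f := u) (x := x0)
    rw [hper] at h3
    apply h3
    · simpa using ha
    · simpa using hb
    · simp only [iterate_eq_pow]
      exact hab
  have hmem : ∀ i : ℕ, (u ^ i) x0 ∈ X := by
    intro i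
    induction i with
    | zero => simpa using hx0
    | succ i ih =>
      rw [pow_succ', mul_apply, hX]
      exact ih
  have hpos : 0 < p ^ (m + 1) := pow_pos hp.pos _
  have hmod : ∀ i : ℕ, (u ^ (i % p ^ (m + 1))) x0 = (u ^ i) x0 := by
    intro i
    have h3 := Function.iterate_mod_minimalPeriod_eq (f := u) (x := x0) (n := i)
    rw [hper, iterate_eq_pow, iterate_eq_pow] at h3
    exact h3
  have hS : ∀ y, y ∈ (Finset.range (p ^ (m + 1))).image (fun i : ℕ => (u ^ i) x0) ↔ ∃ i : ℕ, (u ^ i) x0 = y := by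
    intro y
    rw [Finset.mem_image]
    constructor
    · rintro ⟨i, -, hi⟩
      exact ⟨i, hi⟩
    · rintro ⟨i, hi⟩
      exact ⟨i % p ^ (m + 1), Finset.mem_range.2 (Nat.mod_lt _ hpos), by rw [hmod, hi]⟩
  refine ⟨(Finset.range (p ^ (m + 1))).image (fun i : ℕ => (u ^ i) x0), ?_, ?_, ?_, ?_⟩
  · intro y hy
    obtain ⟨i, rfl⟩ := (hS y).1 hy
    exact hmem i
  · intro x
    rw [hS, hS]
    constructor
    · rintro ⟨i, hi⟩
      refine ⟨i + (p ^ (m + 1) - 1), ?_⟩
      apply u.injective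
      rw [← hi, ← mul_apply, ← pow_succ', add_assoc, Nat.sub_add_cancel hpos, pow_add, mul_apply, h1]
    · rintro ⟨i, rfl⟩
      exact ⟨i + 1, by rw [pow_succ', mul_apply]⟩
  · rw [hS]
    exact ⟨0, by simp⟩
  · rw [Finset.card_image_of_injOn hinj, Finset.card_range]

theorem exists_invariant (hp : p.Prime) (u : Perm Ω) : ∀ (m : ℕ) (X : Finset Ω), (∀ x, u x ∈ X ↔ x ∈ X) →
    (∀ x ∈ X, (u ^ (p ^ m)) x = x) → p ^ m ≤ X.card → ∀ x0 ∈ X,
    (∀ k, (u ^ (p ^ k)) x0 = x0 → ∀ y ∈ X, (u ^ (p ^ k)) y = y) →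
    ∃ S ⊆ X, (∀ x, u x ∈ S ↔ x ∈ S) ∧ x0 ∈ S ∧ S.card = p ^ m := by
  intro m
  induction m with
  | zero =>
    intro X hX hu hc x0 hx0 hmax
    refine ⟨{x0}, by simpa using hx0, ?_, by simp, by simp⟩
    have h1 : ∀ x ∈ X, u x = x := by
      intro x hx
      simpa using hu x hx
    intro x
    rw [Finset.mem_singleton, Finset.mem_singleton]
    constructor
    · intro h
      apply u.injective
      rw [h, h1 x0 hx0]
    · rintro rfl
      exact h1 _ hx0
  | succ m ih =>
    intro X hX hu hc x0 hx0 hmax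
    by_cases h : (u ^ (p ^ m)) x0 = x0
    · have hu' := hmax m h
      have hstep : ∀ j : ℕ, 1 ≤ j → j ≤ p → ∃ S ⊆ X, (∀ x, u x ∈ S ↔ x ∈ S) ∧ x0 ∈ S ∧ S.card = j * p ^ m := by
        intro j hj
        induction j, hj using Nat.le_induction with
        | base =>
          intro _
          rw [one_mul]
          refine ih X hX hu' ?_ x0 hx0 hmax
          exact (Nat.pow_le_pow_right hp.pos (Nat.le_succ m)).trans hc
        | succ j hj ihj =>
          intro hjp
          obtain ⟨S, hSX, hS, hxS, hcS⟩ := ihj (by omega)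
          have hcard : p ^ m ≤ (X \ S).card := by
            rw [Finset.card_sdiff_of_subset hSX, hcS]
            have h1 : (j + 1) * p ^ m ≤ p ^ (m + 1) := by
              rw [pow_succ, mul_comm (p ^ m) p]
              exact Nat.mul_le_mul_right _ hjp
            rw [add_mul, one_mul] at h1
            omega
          have hne : (X \ S).Nonempty := by
            rw [← Finset.card_pos]
            exact lt_of_lt_of_le (pow_pos hp.pos m) hcard
          have hX' : ∀ x, u x ∈ X \ S ↔ x ∈ X \ S := by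
            intro x
            rw [Finset.mem_sdiff, Finset.mem_sdiff, hX, hS]
          have hu'' : ∀ x ∈ X \ S, (u ^ (p ^ m)) x = x := fun x hx => hu' x (Finset.mem_sdiff.1 hx).1
          obtain ⟨x1, hx1, hmax1⟩ := exists_maximal u (X \ S) hne m hu''
          obtain ⟨S', hS'X, hS', hxS', hcS'⟩ := ih (X \ S) hX' hu'' hcard x1 hx1 hmax1
          refine ⟨S ∪ S', ?_, ?_, Finset.mem_union_left _ hxS, ?_⟩
          · exact Finset.union_subset hSX (hS'X.trans Finset.sdiff_subset)
          · intro x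
            rw [Finset.mem_union, Finset.mem_union, hS, hS']
          · rw [Finset.card_union_of_disjoint, hcS, hcS']
            · ring
            · exact Finset.disjoint_of_subset_right hS'X Finset.disjoint_sdiff
      obtain ⟨S, hSX, hS, hxS, hcS⟩ := hstep p hp.one_lt.le le_rfl
      exact ⟨S, hSX, hS, hxS, by rw [hcS, pow_succ, mul_comm]⟩
    · exact exists_orbit hp u X hX x0 hx0 m (hu x0 hx0) h

/-- the form used: an injection from a type of size `p ^ m` -/
theorem exists_injection [Fintype Ω] (hp : p.Prime) (u : Perm Ω) (hu1 : u ≠ 1) (m : ℕ) (hu : u ^ (p ^ m) = 1)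
    (hm : p ^ m ≤ Fintype.card Ω) (T : Type*) [Fintype T] (hT : Fintype.card T = p ^ m) :
    ∃ (i : T → Ω) (u0 : Perm T), Function.Injective i ∧ (∀ x, u (i x) = i (u0 x)) ∧ u0 ≠ 1 ∧ u0 ^ (p ^ m) = 1 := by
  obtain ⟨x1, hx1⟩ : ∃ x, u x ≠ x := by
    by_contra h
    push Not at h
    exact hu1 (Equiv.ext h)
  obtain ⟨x0, -, hmax⟩ := exists_maximal u Finset.univ ⟨x1, Finset.mem_univ _⟩ m (fun x _ => by rw [hu]; rfl)
  have hx0 : u x0 ≠ x0 := by
    intro h
    apply hx1
    have h1 := hmax 0 (by simpa using h) x1 (Finset.mem_univ _)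
    simpa using h1
  obtain ⟨S, -, hS, hxS, hcS⟩ := exists_invariant hp u m Finset.univ (by simp) (fun x _ => by rw [hu]; rfl)
    (by rwa [Finset.card_univ]) x0 (Finset.mem_univ _) hmax
  have e : T ≃ S := Fintype.equivOfCardEq (by rw [hT, Fintype.card_coe, hcS])
  let v : Perm S := u.subtypePerm (fun x => hS x)
  have hv : ∀ x : S, ((v x : S) : Ω) = u x := fun x => rfl
  refine ⟨fun x => (e x : Ω), (e.trans v).trans e.symm, ?_, ?_, ?_, ?_⟩
  · intro a b hab
    exact e.injective (Subtype.ext hab)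
  · intro x
    simp only [Equiv.trans_apply, Equiv.apply_symm_apply]
    rfl
  · intro h
    apply hx0
    have h1 := congrFun (congrArg DFunLike.coe h) (e.symm ⟨x0, hxS⟩)
    simp only [Equiv.trans_apply, Equiv.apply_symm_apply, one_apply] at h1
    rw [e.symm.injective.eq_iff] at h1
    exact congrArg Subtype.val h1
  · have h1 : ∀ n : ℕ, ∀ x : T, (e ((((e.trans v).trans e.symm) ^ n) x) : Ω) = (u ^ n) (e x) := by
      intro n
      induction n with
      | zero => intro x; simp
      | succ n ihn =>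
        intro x
        rw [pow_succ', pow_succ', mul_apply, mul_apply, ← ihn]
        simp only [Equiv.trans_apply, Equiv.apply_symm_apply]
        rfl
    ext x
    apply e.injective
    apply Subtype.ext
    rw [h1, hu]
    rfl

end Cfsg.Agent.H106.InvSub
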