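import Cfsg.Agent.H106.LocPair

set_option autoImplicit false
set_option maxRecDepth 20000

/-!
# Pairs of permutations: small base cases for `p = 3`
-/

namespace Cfsg.Agent.H106.LocPair

open Equiv Equiv.Perm
open scoped commutatorElement

theorem good_of_data {G : Type*} [Group G] (m : ℕ) (hm : ¬ 3 ∣ m) (v w y z : G)
    (hy : y ∈ Subgroup.closure ({v, w} : Set G)) (hz : z ∈ Subgroup.closure ({v, w} : Set G))
    (hv1 : v ≠ 1) (key : v = z * ⁅v, y * v * y⁻¹⁆ * z⁻¹) (hpow : (v * w) ^ m = 1) (hvw1 : v * w ≠ 1) :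
    Good 3 v w := by
  refine ⟨?_, not_isSolvable_of_key _ (Subgroup.subset_closure (by simp)) hy hz hv1 key⟩
  rintro ⟨k, hk⟩
  have h1 := orderOf_dvd_of_pow_eq_one hpow
  rw [hk] at h1
  rcases Nat.eq_zero_or_pos k with rfl | hk0
  · rw [pow_zero, orderOf_eq_one_iff] at hk
    exact hvw1 hk
  · exact hm ((dvd_pow_self 3 hk0.ne').trans h1)

def tA1 : Perm (Fin 5) := ⟨![0, 3, 4, 1, 2], ![0, 3, 4, 1, 2], by decide, by decide⟩
def tA2 : Perm (Fin 5) := ⟨![0, 3, 4, 2, 1], ![0, 4, 3, 1, 2], by decide, by decide⟩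
def uA : Perm (Fin 5) := ⟨![1, 2, 0, 3, 4], ![2, 0, 1, 3, 4], by decide, by decide⟩
def wA : Perm (Fin 5) := ⟨![1, 2, 0, 3, 4], ![2, 0, 1, 3, 4], by decide, by decide⟩

theorem goodA1 : Good 3 (tA1 * uA * tA1⁻¹) wA := by
  have h0 : (tA1 * uA * tA1⁻¹) ∈ Subgroup.closure ({(tA1 * uA * tA1⁻¹), wA} : Set (Perm (Fin 5))) := Subgroup.subset_closure (by simp)
  have h1 : wA ∈ Subgroup.closure ({(tA1 * uA * tA1⁻¹), wA} : Set (Perm (Fin 5))) := Subgroup.subset_closure (by simp)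
  refine good_of_data 5 (by norm_num) (tA1 * uA * tA1⁻¹) wA (wA * (tA1 * uA * tA1⁻¹) * wA) (wA * wA * (tA1 * uA * tA1⁻¹) * (tA1 * uA * tA1⁻¹)) ?_ ?_ (by decide) (by decide) ?_ (by decide)
  · exact (mul_mem (mul_mem h1 h0) h1)
  · exact (mul_mem (mul_mem (mul_mem h1 h1) h0) h0)
  · rw [pow_succ, pow_succ, pow_succ, pow_succ, pow_one]; decide

theorem goodA2 : Good 3 (tA2 * uA * tA2⁻¹) wA := by
  have h0 : (tA2 * uA * tA2⁻¹) ∈ Subgroup.closure ({(tA2 * uA * tA2⁻¹), wA} : Set (Perm (Fin 5))) := Subgroup.subset_closure (by simp)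
  have h1 : wA ∈ Subgroup.closure ({(tA2 * uA * tA2⁻¹), wA} : Set (Perm (Fin 5))) := Subgroup.subset_closure (by simp)
  refine good_of_data 5 (by norm_num) (tA2 * uA * tA2⁻¹) wA (wA * (tA2 * uA * tA2⁻¹) * wA) (wA * wA * (tA2 * uA * tA2⁻¹) * (tA2 * uA * tA2⁻¹)) ?_ ?_ (by decide) (by decide) ?_ (by decide)
  · exact (mul_mem (mul_mem h1 h0) h1)
  · exact (mul_mem (mul_mem (mul_mem h1 h1) h0) h0)
  · rw [pow_succ, pow_succ, pow_succ, pow_succ, pow_one]; decide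

def tC1 : Perm (Fin 6) := ⟨![0, 1, 3, 2, 5, 4], ![0, 1, 3, 2, 5, 4], by decide, by decide⟩
def tC2 : Perm (Fin 6) := ⟨![0, 1, 3, 2, 4, 5], ![0, 1, 3, 2, 4, 5], by decide, by decide⟩
def uC : Perm (Fin 6) := ⟨![1, 2, 0, 4, 5, 3], ![2, 0, 1, 5, 3, 4], by decide, by decide⟩
def wC : Perm (Fin 6) := ⟨![1, 2, 0, 3, 4, 5], ![2, 0, 1, 3, 4, 5], by decide, by decide⟩

theorem goodC1 : Good 3 (tC1 * uC * tC1⁻¹) wC := by
  have h0 : (tC1 * uC * tC1⁻¹) ∈ Subgroup.closure ({(tC1 * uC * tC1⁻¹), wC} : Set (Perm (Fin 6))) := Subgroup.subset_closure (by simp)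
  have h1 : wC ∈ Subgroup.closure ({(tC1 * uC * tC1⁻¹), wC} : Set (Perm (Fin 6))) := Subgroup.subset_closure (by simp)
  refine good_of_data 4 (by norm_num) (tC1 * uC * tC1⁻¹) wC (wC) (wC * wC * (tC1 * uC * tC1⁻¹) * wC) ?_ ?_ (by decide) (by decide) ?_ (by decide)
  · exact h1
  · exact (mul_mem (mul_mem (mul_mem h1 h1) h0) h1)
  · rw [pow_succ, pow_succ, pow_succ, pow_one]; decide

theorem goodC2 : Good 3 (tC2 * uC * tC2⁻¹) wC := by
  have h0 : (tC2 * uC * tC2⁻¹) ∈ Subgroup.closure ({(tC2 * uC * tC2⁻¹), wC} : Set (Perm (Fin 6))) := Subgroup.subset_closure (by simp)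
  have h1 : wC ∈ Subgroup.closure ({(tC2 * uC * tC2⁻¹), wC} : Set (Perm (Fin 6))) := Subgroup.subset_closure (by simp)
  refine good_of_data 4 (by norm_num) (tC2 * uC * tC2⁻¹) wC (wC) (wC * wC * (tC2 * uC * tC2⁻¹) * wC) ?_ ?_ (by decide) (by decide) ?_ (by decide)
  · exact h1
  · exact (mul_mem (mul_mem (mul_mem h1 h1) h0) h1)
  · rw [pow_succ, pow_succ, pow_succ, pow_one]; decide

def tB1 : Perm (Fin 6) := ⟨![0, 1, 3, 2, 5, 4], ![0, 1, 3, 2, 5, 4], by decide, by decide⟩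
def tB2 : Perm (Fin 6) := ⟨![0, 3, 4, 1, 5, 2], ![0, 3, 5, 1, 2, 4], by decide, by decide⟩
def uB : Perm (Fin 6) := ⟨![1, 2, 0, 4, 5, 3], ![2, 0, 1, 5, 3, 4], by decide, by decide⟩
def wB : Perm (Fin 6) := ⟨![1, 2, 0, 4, 5, 3], ![2, 0, 1, 5, 3, 4], by decide, by decide⟩

theorem goodB1 : Good 3 (tB1 * uB * tB1⁻¹) wB := by
  have h0 : (tB1 * uB * tB1⁻¹) ∈ Subgroup.closure ({(tB1 * uB * tB1⁻¹), wB} : Set (Perm (Fin 6))) := Subgroup.subset_closure (by simp)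
  have h1 : wB ∈ Subgroup.closure ({(tB1 * uB * tB1⁻¹), wB} : Set (Perm (Fin 6))) := Subgroup.subset_closure (by simp)
  refine good_of_data 5 (by norm_num) (tB1 * uB * tB1⁻¹) wB (wB * (tB1 * uB * tB1⁻¹) * wB) (wB * wB * (tB1 * uB * tB1⁻¹) * (tB1 * uB * tB1⁻¹)) ?_ ?_ (by decide) (by decide) ?_ (by decide)
  · exact (mul_mem (mul_mem h1 h0) h1)
  · exact (mul_mem (mul_mem (mul_mem h1 h1) h0) h0)
  · rw [pow_succ, pow_succ, pow_succ, pow_succ, pow_one]; decide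

theorem goodB2 : Good 3 (tB2 * uB * tB2⁻¹) wB := by
  have h0 : (tB2 * uB * tB2⁻¹) ∈ Subgroup.closure ({(tB2 * uB * tB2⁻¹), wB} : Set (Perm (Fin 6))) := Subgroup.subset_closure (by simp)
  have h1 : wB ∈ Subgroup.closure ({(tB2 * uB * tB2⁻¹), wB} : Set (Perm (Fin 6))) := Subgroup.subset_closure (by simp)
  refine good_of_data 5 (by norm_num) (tB2 * uB * tB2⁻¹) wB (wB * (tB2 * uB * tB2⁻¹) * wB) (wB * wB * (tB2 * uB * tB2⁻¹) * (tB2 * uB * tB2⁻¹)) ?_ ?_ (by decide) (by decide) ?_ (by decide)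
  · exact (mul_mem (mul_mem h1 h0) h1)
  · exact (mul_mem (mul_mem (mul_mem h1 h1) h0) h0)
  · rw [pow_succ, pow_succ, pow_succ, pow_succ, pow_one]; decide

end Cfsg.Agent.H106.LocPair
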