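import Cfsg.Agent.H106.LocPair
import Mathlib.GroupTheory.SpecificGroups.Alternating.MaximalSubgroups

set_option autoImplicit false

/-!
# Pairs of permutations: order `p` (`p ≥ 5`), and the small base cases for `p = 3`
-/

namespace Cfsg.Agent.H106.LocPair

open Equiv Equiv.Perm Cfsg.Agent.H106.CycPrim
open scoped commutatorElement

/-- Local pairs for `b = 1`, `p ≥ 5`. -/
theorem loc_one {p : ℕ} [hp : Fact p.Prime] (hp5 : 5 ≤ p) :
    ∃ t1 t2 : Perm (ZMod (p ^ 1)), (∀ [Fintype (ZMod (p ^ 1))], sign t1 ≠ sign t2) ∧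
      Good p (t1 * cyc (p ^ 1) * t1⁻¹) (cyc (p ^ 1)) ∧ Good p (t2 * cyc (p ^ 1) * t2⁻¹) (cyc (p ^ 1)) := by
  classical
  have hN0 : NeZero (p ^ 1) := ⟨(pow_pos hp.out.pos 1).ne'⟩
  have hcard : Fintype.card (ZMod (p ^ 1)) = p := by rw [ZMod.card, pow_one]
  have hN5 : 5 ≤ p ^ 1 := by rw [pow_one]; exact hp5
  have hneg1 : (-1 : ZMod (p ^ 1)) = ((p ^ 1 - 1 : ℕ) : ZMod (p ^ 1)) := by
    rw [Nat.cast_sub (by omega), ZMod.natCast_self]
    simp
  have c0 : ((0 : ℕ) : ZMod (p ^ 1)) = 0 := Nat.cast_zero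
  have c1 : ((1 : ℕ) : ZMod (p ^ 1)) = 1 := Nat.cast_one
  have c2 : ((2 : ℕ) : ZMod (p ^ 1)) = 2 := by norm_num
  have k1 := natCast_ne (N := p ^ 1) (a := 0) (c := 1) (by omega) (by omega) (by omega)
  have k2 := natCast_ne (N := p ^ 1) (a := 0) (c := p ^ 1 - 1) (by omega) (by omega) (by omega)
  have k3 := natCast_ne (N := p ^ 1) (a := 0) (c := 2) (by omega) (by omega) (by omega)
  have k4 := natCast_ne (N := p ^ 1) (a := 1) (c := p ^ 1 - 1) (by omega) (by omega) (by omega)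
  have k5 := natCast_ne (N := p ^ 1) (a := 1) (c := 2) (by omega) (by omega) (by omega)
  have k6 := natCast_ne (N := p ^ 1) (a := 2) (c := p ^ 1 - 1) (by omega) (by omega) (by omega)
  rw [← hneg1] at k2 k4 k6
  rw [c0] at k1 k2 k3
  rw [c1] at k1 k4 k5
  rw [c2] at k3 k5 k6
  set c : Perm (ZMod (p ^ 1)) := cyc (p ^ 1) with hc
  have hcinv : ∀ x, c⁻¹ x = x - 1 := by
    intro x
    rw [Perm.inv_eq_iff_eq, hc, cyc_apply]
    ring
  let ρ : Perm (ZMod (p ^ 1)) := Equiv.neg _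
  have hρ : ρ * c * ρ⁻¹ = c⁻¹ := by
    ext x
    rw [hcinv]
    change ρ (c (ρ⁻¹ x)) = x - 1
    have h1 : ρ⁻¹ x = -x := by
      rw [Perm.inv_eq_iff_eq]
      simp [ρ]
    rw [h1, hc, cyc_apply]
    simp only [ρ, Equiv.neg_apply]
    ring
  -- the general criterion
  have hcrit : ∀ v : Perm (ZMod (p ^ 1)), IsThreeCycle (v * c) → Good p v c := by
    intro v hv
    constructor
    · rintro ⟨k, hk⟩
      rw [hv.orderOf] at hk
      rcases Nat.eq_zero_or_pos k with rfl | hk0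
      · rw [pow_zero] at hk
        omega
      · have h1 : p ∣ 3 := by
          rw [hk]
          exact dvd_pow_self p (by omega)
        have := Nat.le_of_dvd (by norm_num) h1
        omega
    · intro hsol
      set H := Subgroup.closure ({v, c} : Set (Perm (ZMod (p ^ 1)))) with hH
      have hvH : v ∈ H := Subgroup.subset_closure (by simp)
      have hcH : c ∈ H := Subgroup.subset_closure (by simp)
      have hprim := isPreprimitive (p := p) (b := 1) H (c := c) (u := c) (fun x => cyc_apply x) hcH hcH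
        (x₀ := 0) (by
          rw [hc, cyc_apply, cyc_apply]
          simp)
      have h1 := alternatingGroup_le_of_isPreprimitive_of_isThreeCycle_mem hprim hv (H.mul_mem hvH hcH)
      apply not_isSolvable_alternating (T := ZMod (p ^ 1)) (by rw [hcard]; exact hp5)
      exact Group.isSolvable_of_isSolvable_injective (f := Subgroup.inclusion h1)
        (Subgroup.inclusion_injective h1)
  have hsw : ∀ a b : ZMod (p ^ 1), c⁻¹ * swap a b * c = swap (a - 1) (b - 1) := by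
    intro a b
    have h1 := Equiv.swap_apply_apply c⁻¹ a b
    rw [hcinv, hcinv] at h1
    rw [h1]
    group
  have key1 : swap 0 1 * ρ * c * (swap 0 1 * ρ)⁻¹ * c = swap 0 1 * swap 0 (-1) := by
    have h1 : swap 0 1 * ρ * c * (swap 0 1 * ρ)⁻¹ * c = swap 0 1 * (ρ * c * ρ⁻¹) * (swap 0 1)⁻¹ * c := by
      group
    rw [h1, hρ, swap_inv, mul_assoc, mul_assoc, ← mul_assoc c⁻¹, hsw]
    rw [sub_self, zero_sub, swap_comm (-1) 0]
  have key2 : swap 0 1 * swap 1 2 * ρ * c * (swap 0 1 * swap 1 2 * ρ)⁻¹ * c = swap 0 2 * swap 0 (-1) := by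
    have h1 : swap 0 1 * swap 1 2 * ρ * c * (swap 0 1 * swap 1 2 * ρ)⁻¹ * c =
        swap 0 1 * swap 1 2 * (ρ * c * ρ⁻¹) * (swap 1 2)⁻¹ * (swap 0 1)⁻¹ * c := by
      group
    rw [h1, hρ, swap_inv, swap_inv]
    have h2 : swap 0 1 * swap 1 2 * c⁻¹ * swap 1 2 * swap 0 1 * c =
        swap 0 1 * swap 1 2 * (c⁻¹ * swap 1 2 * c) * (c⁻¹ * swap 0 1 * c) := by group
    rw [h2, hsw, hsw]
    rw [sub_self, zero_sub, swap_comm (-1) 0]
    have h3 : (2 : ZMod (p ^ 1)) - 1 = 1 := by ring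
    rw [h3]
    congr 1
    rw [swap_comm 0 1, swap_comm (1 : ZMod (p ^ 1)) 2]
    exact swap_mul_swap_mul_swap k5.symm k3.symm
  refine ⟨swap 0 1 * ρ, swap 0 1 * swap 1 2 * ρ, ?_, ?_, ?_⟩
  · intro inst h
    rw [Perm.sign_mul, Perm.sign_mul, Perm.sign_mul, sign_swap k1, sign_swap k5] at h
    rcases Int.units_eq_one_or (sign ρ) with h2 | h2 <;> rw [h2] at h <;> exact absurd h (by decide)
  · apply hcrit
    rw [key1]
    exact isThreeCycle_swap_mul_swap_same k1 k2 k4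
  · apply hcrit
    rw [key2]
    exact isThreeCycle_swap_mul_swap_same k3 k2 k6

end Cfsg.Agent.H106.LocPair
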