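import Cfsg.Agent.H106.CycPrim

set_option autoImplicit false

/-!
# Pairs of permutations generating a non-solvable group, with product of order not a power of `p`
-/

namespace Cfsg.Agent.H106.LocPair

open Equiv Equiv.Perm Cfsg.Agent.H106.CycPrim
open scoped commutatorElement

/-- the property to be achieved -/
def Good {G : Type*} [Group G] (p : ℕ) (u v : G) : Prop :=
  (¬ ∃ k : ℕ, orderOf (u * v) = p ^ k) ∧ ¬ Group.IsSolvable (Subgroup.closure ({u, v} : Set G))

theorem Good.symm {G : Type*} [Group G] {p : ℕ} {u v : G} (h : Good p u v) : Good p v u := by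
  obtain ⟨h1, h2⟩ := h
  refine ⟨?_, ?_⟩
  · rintro ⟨k, hk⟩
    apply h1
    refine ⟨k, ?_⟩
    rw [← hk]
    have h3 : u * v = v⁻¹ * (v * u) * v := by group
    have h4 : u * v = MulAut.conj v⁻¹ (v * u) := by
      rw [MulAut.conj_apply, inv_inv, h3]
    rw [h4]
    exact (MulAut.conj v⁻¹ : G ≃* G).orderOf_eq (v * u)
  · rwa [Set.pair_comm]

theorem Good.conj {G : Type*} [Group G] {p : ℕ} {u v : G} (h : Good p u v) (g : G) :
    Good p (g * u * g⁻¹) (g * v * g⁻¹) := by
  obtain ⟨h1, h2⟩ := h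
  refine ⟨?_, ?_⟩
  · rintro ⟨k, hk⟩
    apply h1
    refine ⟨k, ?_⟩
    rw [← hk]
    have h4 : g * u * g⁻¹ * (g * v * g⁻¹) = MulAut.conj g (u * v) := by
      rw [MulAut.conj_apply]
      group
    rw [h4]
    exact ((MulAut.conj g : G ≃* G).orderOf_eq (u * v)).symm
  · intro hs
    apply h2
    have h5 : (Subgroup.closure ({u, v} : Set G)).map (MulAut.conj g : G ≃* G).toMonoidHom =
        Subgroup.closure ({g * u * g⁻¹, g * v * g⁻¹} : Set G) := by
      rw [MonoidHom.map_closure, Set.image_pair]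
      rfl
    rw [← h5] at hs
    let e := (Subgroup.closure ({u, v} : Set G)).equivMapOfInjective
      (MulAut.conj g : G ≃* G).toMonoidHom (MulAut.conj g).injective
    exact Group.isSolvable_of_surjective (f := e.symm.toMonoidHom) e.symm.surjective

/-- criterion for non-solvability -/
theorem not_isSolvable_of_key {G : Type*} [Group G] (H : Subgroup G) {x y z : G} (hx : x ∈ H) (hy : y ∈ H)
    (hz : z ∈ H) (hx1 : x ≠ 1) (key : x = z * ⁅x, y * x * y⁻¹⁆ * z⁻¹) : ¬ Group.IsSolvable H := by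
  refine _root_.not_isSolvable_of_mem_derivedSeries (g := (⟨x, hx⟩ : H)) (fun h => hx1 (congrArg Subtype.val h)) fun n => ?_
  have key' : (⟨x, hx⟩ : H) = ⟨z, hz⟩ * ⁅(⟨x, hx⟩ : H), ⟨y, hy⟩ * ⟨x, hx⟩ * (⟨y, hy⟩ : H)⁻¹⁆ * (⟨z, hz⟩ : H)⁻¹ :=
    Subtype.ext key
  induction n with
  | zero => exact Subgroup.mem_top _
  | succ n ih =>
    rw [key', (derivedSeries_normal _ _).mem_comm_iff, inv_mul_cancel_left]
    exact Subgroup.commutator_mem_commutator ih ((derivedSeries_normal _ _).conj_mem _ ih _)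

/-- an element with a point of period 2 does not have odd prime power order -/
theorem not_orderOf_of_period_two {T : Type*} (f : Perm T) {p : ℕ} (hp : Odd p) {x : T}
    (h1 : f (f x) = x) (h2 : f x ≠ x) : ¬ ∃ k : ℕ, orderOf f = p ^ k := by
  rintro ⟨k, hk⟩
  have h3 : f ^ (p ^ k) = 1 := by rw [← hk, pow_orderOf_eq_one]
  obtain ⟨m, hm⟩ := hp.pow (n := k)
  rw [hm, pow_succ, pow_mul] at h3
  have h4 : ∀ n : ℕ, ((f ^ 2) ^ n) (f x) = f x := by
    intro n
    induction n with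
    | zero => simp
    | succ n ih =>
      have h5 : (f ^ 2) (f x) = f x := by
        rw [pow_two, mul_apply, h1]
      rw [pow_succ, mul_apply, h5, ih]
  apply h2
  have h6 := congrFun (congrArg DFunLike.coe h3) x
  rw [mul_apply, h4] at h6
  exact h6

theorem not_isSolvable_alternating {T : Type*} [Fintype T] [DecidableEq T] (hT : 5 ≤ Fintype.card T) :
    ¬ Group.IsSolvable (alternatingGroup T) := by
  intro h
  have h1 : Group.IsSolvable (Perm T) := by
    refine Group.isSolvable_of_ker_le_range (alternatingGroup T).subtype (sign : Perm T →* ℤˣ) ?_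
    rw [Subgroup.range_subtype]
    intro x hx
    exact hx
  refine Equiv.Perm.not_isSolvable T ?_ h1
  rw [Cardinal.mk_fintype]
  exact_mod_cast hT

/-- extension of a partial injection to permutations of both signs -/
theorem exists_ext {T : Type*} [Fintype T] [DecidableEq T] {k : ℕ} (hk : k + 2 ≤ Fintype.card T)
    (x y : Fin k → T) (hx : Function.Injective x) (hy : Function.Injective y) :
    ∃ t1 t2 : Perm T, sign t1 ≠ sign t2 ∧ (∀ i, t1 (x i) = y i) ∧ ∀ i, t2 (x i) = y i := by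
  classical
  let e : {z // z ∈ Set.range x} ≃ {z // z ∈ Set.range y} :=
    (Equiv.ofInjective x hx).symm.trans (Equiv.ofInjective y hy)
  have h1 : ∀ i, e.extendSubtype (x i) = y i := by
    intro i
    rw [Equiv.extendSubtype_apply_of_mem e (x i) ⟨i, rfl⟩]
    have h2 : (Equiv.ofInjective x hx).symm ⟨x i, ⟨i, rfl⟩⟩ = i := by
      rw [Equiv.symm_apply_eq]
      rfl
    change ((Equiv.ofInjective y hy) ((Equiv.ofInjective x hx).symm ⟨x i, ⟨i, rfl⟩⟩) : T) = y i
    rw [h2]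
    rfl
  obtain ⟨a, ha, b, hb, hab⟩ : ∃ a ∈ (Finset.univ.image y)ᶜ, ∃ b ∈ (Finset.univ.image y)ᶜ, a ≠ b := by
    apply Finset.one_lt_card.1
    rw [Finset.card_compl, Finset.card_image_of_injective _ hy, Finset.card_univ, Fintype.card_fin]
    omega
  have hnot : ∀ c ∈ (Finset.univ.image y)ᶜ, ∀ i, y i ≠ c := by
    intro c hc i h
    rw [Finset.mem_compl] at hc
    exact hc (h ▸ Finset.mem_image_of_mem y (Finset.mem_univ i))
  refine ⟨e.extendSubtype, swap a b * e.extendSubtype, ?_, h1, ?_⟩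
  · rw [Perm.sign_mul, sign_swap hab]
    intro h
    rcases Int.units_eq_one_or (sign e.extendSubtype) with h2 | h2 <;> rw [h2] at h <;> exact absurd h (by decide)
  · intro i
    rw [mul_apply, h1, swap_apply_of_ne_of_ne (hnot a ha i) (hnot b hb i)]

section GeTwo

variable {p b : ℕ} [hp : Fact p.Prime]

/-- the full cycle -/
def cyc (N : ℕ) : Perm (ZMod N) := Equiv.addRight 1

theorem cyc_apply {N : ℕ} (x : ZMod N) : cyc N x = x + 1 := rfl

theorem good_of_constraints (hp2 : p ≠ 2) (hb : 2 ≤ b) (v : Perm (ZMod (p ^ b)))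
    (h : (v 0 = 0 ∧ v ((p ^ (b - 1) : ℕ) : ZMod (p ^ b)) = 1 ∧ v 1 = -1) ∨
      (v ((p ^ (b - 1) : ℕ) : ZMod (p ^ b)) = 2 ∧ v 2 = -1 ∧ v 0 = 1)) : Good p v (cyc (p ^ b)) := by
  have hodd : Odd p := hp.out.odd_of_ne_two hp2
  have hne : (-1 : ZMod (p ^ b)) ≠ 0 := by
    have h1 : Fact (1 < p ^ b) := ⟨Nat.one_lt_pow (by omega) hp.out.one_lt⟩
    exact neg_ne_zero.2 one_ne_zero
  have hne' : (-1 : ZMod (p ^ b)) ≠ 1 := by
    intro h1
    have h2 : ((2 : ℕ) : ZMod (p ^ b)) = 0 := by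
      push_cast
      linear_combination -h1
    rw [ZMod.natCast_eq_zero_iff] at h2
    have h3 : p ∣ 2 := (dvd_pow_self p (by omega)).trans h2
    exact hp2 ((Nat.prime_dvd_prime_iff_eq hp.out Nat.prime_two).1 h3)
  constructor
  · rcases h with ⟨h0, hq, h1⟩ | ⟨hq, h2, h0⟩
    · refine not_orderOf_of_period_two _ hodd (x := -1) ?_ ?_
      · simp only [mul_apply, cyc_apply, neg_add_cancel, h0, zero_add, h1]
      · simp only [mul_apply, cyc_apply, neg_add_cancel, h0]
        exact hne.symm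
    · refine not_orderOf_of_period_two _ hodd (x := -1) ?_ ?_
      · simp only [mul_apply, cyc_apply, neg_add_cancel, h0]
        rw [one_add_one_eq_two, h2]
      · simp only [mul_apply, cyc_apply, neg_add_cancel, h0]
        exact hne'.symm
  · refine not_isSolvable hp2 hb _ (c := cyc (p ^ b)) (u := v) cyc_apply
      (Subgroup.subset_closure (by simp)) (Subgroup.subset_closure (by simp)) (x₀ := 0) ?_
    rw [zero_add]
    rcases h with ⟨h0, hq, h1⟩ | ⟨hq, h2, h0⟩
    · rw [h0, hq, zero_add]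
    · rw [h0, hq, one_add_one_eq_two]

theorem natCast_ne {N a c : ℕ} (ha : a < N) (hc : c < N) (hac : a ≠ c) : (a : ZMod N) ≠ (c : ZMod N) := by
  intro h
  rw [ZMod.natCast_eq_natCast_iff'] at h
  rw [Nat.mod_eq_of_lt ha, Nat.mod_eq_of_lt hc] at h
  exact hac h

/-- the constraints on the conjugate of `u` -/
def Constr {N : ℕ} (q : ℕ) (v : Perm (ZMod N)) : Prop :=
  (v 0 = 0 ∧ v (q : ZMod N) = 1 ∧ v 1 = -1) ∨ (v (q : ZMod N) = 2 ∧ v 2 = -1 ∧ v 0 = 1)

theorem inj_four {N : ℕ} {a b c d : ZMod N} (h1 : a ≠ b) (h2 : a ≠ c) (h3 : a ≠ d) (h4 : b ≠ c)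
    (h5 : b ≠ d) (h6 : c ≠ d) : Function.Injective ![a, b, c, d] := by
  intro i j hij
  fin_cases i <;> fin_cases j <;> simp at hij ⊢ <;>
    first
      | exact h1 hij | exact h2 hij | exact h3 hij | exact h4 hij | exact h5 hij | exact h6 hij
      | exact h1 hij.symm | exact h2 hij.symm | exact h3 hij.symm | exact h4 hij.symm
      | exact h5 hij.symm | exact h6 hij.symm

theorem inj_five {N : ℕ} {a b c d e : ZMod N} (h1 : a ≠ b) (h2 : a ≠ c) (h3 : a ≠ d) (h4 : a ≠ e)
    (h5 : b ≠ c) (h6 : b ≠ d) (h7 : b ≠ e) (h8 : c ≠ d) (h9 : c ≠ e) (h10 : d ≠ e) :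
    Function.Injective ![a, b, c, d, e] := by
  intro i j hij
  fin_cases i <;> fin_cases j <;> simp at hij ⊢ <;>
    first
      | exact h1 hij | exact h2 hij | exact h3 hij | exact h4 hij | exact h5 hij | exact h6 hij
      | exact h7 hij | exact h8 hij | exact h9 hij | exact h10 hij
      | exact h1 hij.symm | exact h2 hij.symm | exact h3 hij.symm | exact h4 hij.symm
      | exact h5 hij.symm | exact h6 hij.symm
      | exact h7 hij.symm | exact h8 hij.symm | exact h9 hij.symm | exact h10 hij.symm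

theorem exists_placement (N q : ℕ) (hN9 : 9 ≤ N) (hq3 : 3 ≤ q) (hqN : q * 3 ≤ N)
    (u : Perm (ZMod N)) (hu1 : u ≠ 1) (htwo : ∀ x, u (u x) = x → u x = x) :
    ∃ t1 t2 : Perm (ZMod N), (∀ [Fintype (ZMod N)], sign t1 ≠ sign t2) ∧
      Constr q (t1 * u * t1⁻¹) ∧ Constr q (t2 * u * t2⁻¹) := by
  classical
  have hN0 : NeZero N := ⟨by omega⟩
  have hcard : Fintype.card (ZMod N) = N := ZMod.card N
  have hneg1 : (-1 : ZMod N) = ((N - 1 : ℕ) : ZMod N) := by
    rw [Nat.cast_sub (by omega)]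
    simp
  have hinv : ∀ x, u (u⁻¹ x) = x := fun x => by rw [← mul_apply, mul_inv_cancel, one_apply]
  have hinv' : ∀ x, u⁻¹ (u x) = x := fun x => by rw [← mul_apply, inv_mul_cancel, one_apply]
  have hconj : ∀ (t : Perm (ZMod N)) (x a c : ZMod N), t x = a → t (u x) = c → (t * u * t⁻¹) a = c := by
    intro t x a c h1 h2
    rw [mul_apply, mul_apply, ← h1, ← h2]
    congr 2
    rw [← mul_apply, inv_mul_cancel, one_apply]
  have c0 : ((0 : ℕ) : ZMod N) = 0 := Nat.cast_zero
  have c1 : ((1 : ℕ) : ZMod N) = 1 := Nat.cast_one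
  have c2 : ((2 : ℕ) : ZMod N) = 2 := by norm_num
  have k1 := natCast_ne (N := N) (a := 0) (c := 1) (by omega) (by omega) (by omega)
  have k2 := natCast_ne (N := N) (a := 0) (c := N - 1) (by omega) (by omega) (by omega)
  have k3 := natCast_ne (N := N) (a := 0) (c := q) (by omega) (by omega) (by omega)
  have k4 := natCast_ne (N := N) (a := 1) (c := N - 1) (by omega) (by omega) (by omega)
  have k5 := natCast_ne (N := N) (a := 1) (c := q) (by omega) (by omega) (by omega)
  have k6 := natCast_ne (N := N) (a := N - 1) (c := q) (by omega) (by omega) (by omega)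
  have k7 := natCast_ne (N := N) (a := 2) (c := 0) (by omega) (by omega) (by omega)
  have k8 := natCast_ne (N := N) (a := 2) (c := 1) (by omega) (by omega) (by omega)
  have k9 := natCast_ne (N := N) (a := 2) (c := N - 1) (by omega) (by omega) (by omega)
  have k10 := natCast_ne (N := N) (a := 2) (c := q) (by omega) (by omega) (by omega)
  rw [← hneg1] at k2 k4 k6 k9
  rw [c0] at k1 k2 k3 k7
  rw [c1] at k1 k4 k5 k8
  rw [c2] at k7 k8 k9 k10
  by_cases hfix : ∃ f, u f = f
  · obtain ⟨f, hf⟩ := hfix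
    obtain ⟨x, hx⟩ : ∃ x, u x ≠ x := by
      by_contra hcon
      push Not at hcon
      exact hu1 (Equiv.ext hcon)
    have h1 : f ≠ x := by
      rintro rfl
      exact hx hf
    have h2 : f ≠ u x := by
      intro h
      apply h1
      apply u.injective
      rw [← h, hf]
    have h3 : f ≠ u⁻¹ x := by
      intro h
      apply h1
      rw [← hinv x, ← h, hf]
    have h4 : x ≠ u⁻¹ x := by
      intro h
      apply hx
      conv_lhs => rw [h]
      exact hinv x
    have h5 : u x ≠ u⁻¹ x := by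
      intro h
      apply hx
      apply htwo
      rw [h]
      exact hinv x
    obtain ⟨t1, t2, hs, ht1, ht2⟩ := exists_ext (k := 4) (by rw [hcard]; omega) ![f, x, u x, u⁻¹ x]
      ![0, 1, -1, (q : ZMod N)] (inj_four h1 h2 h3 (Ne.symm hx) h4 h5)
      (inj_four k1 k2 k3 k4 k5 k6)
    refine ⟨t1, t2, ?_, ?_, ?_⟩
    · intro inst
      convert hs
    · left
      have e0 : t1 f = 0 := ht1 0
      have e1 : t1 x = 1 := ht1 1
      have e2 : t1 (u x) = -1 := ht1 2
      have e3 : t1 (u⁻¹ x) = q := ht1 3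
      exact ⟨hconj t1 f 0 0 e0 (by rw [hf]; exact e0), hconj t1 _ _ _ e3 (by rw [hinv]; exact e1),
        hconj t1 x _ _ e1 e2⟩
    · left
      have e0 : t2 f = 0 := ht2 0
      have e1 : t2 x = 1 := ht2 1
      have e2 : t2 (u x) = -1 := ht2 2
      have e3 : t2 (u⁻¹ x) = q := ht2 3
      exact ⟨hconj t2 f 0 0 e0 (by rw [hf]; exact e0), hconj t2 _ _ _ e3 (by rw [hinv]; exact e1),
        hconj t2 x _ _ e1 e2⟩
  · push Not at hfix
    obtain ⟨y, hy⟩ : ∃ y : ZMod N, y ∉ ({u⁻¹ (u⁻¹ 0), u⁻¹ 0, 0, u 0} : Finset (ZMod N)) := by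
      by_contra hcon
      push Not at hcon
      have h1 : (Finset.univ : Finset (ZMod N)) ⊆ {u⁻¹ (u⁻¹ 0), u⁻¹ 0, 0, u 0} := fun z _ => hcon z
      have h2 := Finset.card_le_card h1
      rw [Finset.card_univ, hcard] at h2
      have h3 : ({u⁻¹ (u⁻¹ 0), u⁻¹ 0, 0, u 0} : Finset (ZMod N)).card ≤ 4 := Finset.card_le_four
      omega
    obtain ⟨x, hx0⟩ : ∃ x : ZMod N, x = 0 := ⟨0, rfl⟩
    rw [← hx0] at hy
    simp only [Finset.mem_insert, Finset.mem_singleton, not_or] at hy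
    obtain ⟨y1, y2, y3, y4⟩ := hy
    have h1 : x ≠ u x := Ne.symm (hfix x)
    have h2 : x ≠ u y := by
      intro h
      apply y2
      rw [h, hinv']
    have h3 : x ≠ u⁻¹ x := by
      intro h
      apply hfix x
      conv_lhs => rw [h]
      exact hinv x
    have h4 : u x ≠ u y := fun h => y3 (u.injective h).symm
    have h5 : u x ≠ u⁻¹ x := by
      intro h
      apply hfix x
      apply htwo
      rw [h]
      exact hinv x
    have h6 : u y ≠ u⁻¹ x := by
      intro h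
      apply y1
      rw [← h, hinv']
    obtain ⟨t1, t2, hs, ht1, ht2⟩ := exists_ext (k := 5) (by rw [hcard]; omega) ![x, u x, y, u y, u⁻¹ x]
      ![2, -1, 0, 1, (q : ZMod N)]
      (inj_five h1 (Ne.symm y3) h2 h3 (Ne.symm y4) h4 h5 (Ne.symm (hfix y)) y2 h6)
      (inj_five k9 k7 k8 k10 (Ne.symm k2) (Ne.symm k4) k6 k1 k3 k5)
    refine ⟨t1, t2, ?_, ?_, ?_⟩
    · intro inst
      convert hs
    · right
      have e0 : t1 x = 2 := ht1 0
      have e1 : t1 (u x) = -1 := ht1 1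
      have e2 : t1 y = 0 := ht1 2
      have e3 : t1 (u y) = 1 := ht1 3
      have e4 : t1 (u⁻¹ x) = q := ht1 4
      exact ⟨hconj t1 _ _ _ e4 (by rw [hinv]; exact e0), hconj t1 x _ _ e0 e1, hconj t1 y _ _ e2 e3⟩
    · right
      have e0 : t2 x = 2 := ht2 0
      have e1 : t2 (u x) = -1 := ht2 1
      have e2 : t2 y = 0 := ht2 2
      have e3 : t2 (u y) = 1 := ht2 3
      have e4 : t2 (u⁻¹ x) = q := ht2 4
      exact ⟨hconj t2 _ _ _ e4 (by rw [hinv]; exact e0), hconj t2 x _ _ e0 e1, hconj t2 y _ _ e2 e3⟩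

/-- Local pairs for `b ≥ 2`. -/
theorem loc_ge_two (hp2 : p ≠ 2) (hb : 2 ≤ b) (u : Perm (ZMod (p ^ b))) (hu : ∃ m : ℕ, u ^ (p ^ m) = 1)
    (hu1 : u ≠ 1) : ∃ t1 t2 : Perm (ZMod (p ^ b)), (∀ [Fintype (ZMod (p ^ b))], sign t1 ≠ sign t2) ∧
      Good p (t1 * u * t1⁻¹) (cyc (p ^ b)) ∧ Good p (t2 * u * t2⁻¹) (cyc (p ^ b)) := by
  classical
  have hodd : Odd p := hp.out.odd_of_ne_two hp2
  have hp3 : 3 ≤ p := by
    have := hp.out.two_le
    omega
  have hN9 : 9 ≤ p ^ b := by
    calc 9 = 3 ^ 2 := by norm_num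
      _ ≤ p ^ 2 := Nat.pow_le_pow_left hp3 2
      _ ≤ p ^ b := Nat.pow_le_pow_right (by omega) hb
  have hq3 : 3 ≤ p ^ (b - 1) := by
    calc 3 = 3 ^ 1 := by norm_num
      _ ≤ p ^ 1 := Nat.pow_le_pow_left hp3 1
      _ ≤ p ^ (b - 1) := Nat.pow_le_pow_right (by omega) (by omega)
  have hqN : p ^ (b - 1) * 3 ≤ p ^ b := by
    calc p ^ (b - 1) * 3 ≤ p ^ (b - 1) * p := Nat.mul_le_mul_left _ hp3
      _ = p ^ b := by rw [← pow_succ]; congr 1; omega
  obtain ⟨m, hm⟩ := hu
  have htwo : ∀ x, u (u x) = x → u x = x := by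
    intro x hx
    by_contra hne
    have h1 := not_orderOf_of_period_two u hodd hx hne
    apply h1
    obtain ⟨k, -, hk⟩ := (Nat.dvd_prime_pow hp.out).1 (orderOf_dvd_of_pow_eq_one hm)
    exact ⟨k, hk⟩
  obtain ⟨t1, t2, hs, h1, h2⟩ := exists_placement (p ^ b) (p ^ (b - 1)) hN9 hq3 hqN u hu1 htwo
  exact ⟨t1, t2, hs, good_of_constraints hp2 hb _ h1, good_of_constraints hp2 hb _ h2⟩

end GeTwo

end Cfsg.Agent.H106.LocPair
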