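import Cfsg.Agent.H106.LocOne
import Cfsg.Agent.H106.LocBase

set_option autoImplicit false

/-!
# Transfer of local pairs of permutations to a larger set
-/

namespace Cfsg.Agent.H106.LocPair

open Equiv Equiv.Perm

theorem good_of_local {Ω T : Type*} {p : ℕ} (hp : p.Prime) (u w : Perm Ω) (v0 w0 : Perm T) (i : T → Ω)
    (hi : Function.Injective i) (hu : ∀ x, u (i x) = i (v0 x)) (hw : ∀ x, w (i x) = i (w0 x))
    (h : Good p v0 w0) : Good p u w := by
  obtain ⟨h1, h2⟩ := h
  -- the group of pairs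
  set K : Subgroup (Perm Ω × Perm T) := Subgroup.closure {(u, v0), (w, w0)} with hK
  have hcomp : ∀ k ∈ K, ∀ x, k.1 (i x) = i (k.2 x) := by
    intro k hk
    rw [hK] at hk
    refine Subgroup.closure_induction (p := fun k _ => ∀ x, k.1 (i x) = i (k.2 x)) ?_ ?_ ?_ ?_ hk
    · intro y hy x
      rcases hy with rfl | rfl
      · exact hu x
      · exact hw x
    · intro x
      rfl
    · intro y z _ _ hy hz x
      rw [Prod.fst_mul, Prod.snd_mul, mul_apply, mul_apply, hz, hy]
    · intro y _ hy x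
      rw [Prod.fst_inv, Prod.snd_inv, Perm.inv_eq_iff_eq, hy]
      rw [← mul_apply, mul_inv_cancel, one_apply]
  have hm1 : (u, v0) ∈ K := Subgroup.subset_closure (by simp)
  have hm2 : (w, w0) ∈ K := Subgroup.subset_closure (by simp)
  refine ⟨?_, ?_⟩
  · rintro ⟨k, hk⟩
    apply h1
    have h3 : (u * w) ^ (p ^ k) = 1 := by rw [← hk, pow_orderOf_eq_one]
    have h4 : (v0 * w0) ^ (p ^ k) = 1 := by
      have h5 : ((u, v0) * (w, w0)) ^ (p ^ k) ∈ K := K.pow_mem (K.mul_mem hm1 hm2) _
      have h6 := hcomp _ h5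
      rw [Prod.pow_fst, Prod.pow_snd, Prod.fst_mul, Prod.snd_mul] at h6
      ext x
      apply hi
      have h7 := h6 x
      simp only at h7
      rw [← h7, h3]
      rfl
    obtain ⟨j, -, hj⟩ := (Nat.dvd_prime_pow hp).1 (orderOf_dvd_of_pow_eq_one h4)
    exact ⟨j, hj⟩
  · intro hs
    apply h2
    -- first projection
    have hfst : K.map (MonoidHom.fst (Perm Ω) (Perm T)) = Subgroup.closure ({u, w} : Set (Perm Ω)) := by
      rw [hK, MonoidHom.map_closure, Set.image_pair]
      rfl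
    have hsnd : K.map (MonoidHom.snd (Perm Ω) (Perm T)) = Subgroup.closure ({v0, w0} : Set (Perm T)) := by
      rw [hK, MonoidHom.map_closure, Set.image_pair]
      rfl
    have hKs : Group.IsSolvable K := by
      rw [← hfst] at hs
      refine Group.isSolvable_of_isSolvable_injective
        (f := (MonoidHom.fst (Perm Ω) (Perm T)).subgroupMap K) ?_
      intro a b hab
      have h3 : (a : Perm Ω × Perm T).1 = (b : Perm Ω × Perm T).1 := congrArg Subtype.val hab
      apply Subtype.ext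
      apply Prod.ext h3
      ext x
      apply hi
      rw [← hcomp _ a.2, ← hcomp _ b.2, h3]
    rw [← hsnd]
    exact Group.isSolvable_of_surjective (f := (MonoidHom.snd (Perm Ω) (Perm T)).subgroupMap K)
      (MonoidHom.subgroupMap_surjective _ _)

theorem transfer {Ω T : Type*} [Fintype Ω] [DecidableEq Ω] [Fintype T] [DecidableEq T] {p : ℕ} (hp : p.Prime)
    (u w : Perm Ω) (i j : T → Ω) (hi : Function.Injective i) (hj : Function.Injective j) (u0 w0 : Perm T)
    (hu : ∀ x, u (i x) = i (u0 x)) (hw : ∀ x, w (j x) = j (w0 x)) (t1 t2 : Perm T)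
    (hs : sign t1 ≠ sign t2) (h1 : Good p (t1 * u0 * t1⁻¹) w0) (h2 : Good p (t2 * u0 * t2⁻¹) w0) :
    ∃ g : Perm Ω, sign g = 1 ∧ Good p u (g * w * g⁻¹) := by
  -- the general statement
  have hgen : ∀ (t : Perm T) (g : Perm Ω), Good p (t * u0 * t⁻¹) w0 → (∀ x, g (j x) = i (t⁻¹ x)) →
      Good p u (g * w * g⁻¹) := by
    intro t g ht hg
    refine good_of_local hp u (g * w * g⁻¹) (t * u0 * t⁻¹) w0 (fun x => i (t⁻¹ x))
      (hi.comp (t⁻¹ : Perm T).injective) ?_ ?_ ht
    · intro x
      rw [hu, mul_apply, mul_apply]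
      have h3 : t⁻¹ (t (u0 (t⁻¹ x))) = u0 (t⁻¹ x) := by
        rw [← mul_apply t⁻¹ t, inv_mul_cancel, one_apply]
      rw [h3]
    · intro x
      rw [← hg, mul_apply, mul_apply]
      have h3 : g⁻¹ (g (j x)) = j x := by rw [← mul_apply, inv_mul_cancel, one_apply]
      rw [h3, hw, hg]
  let e : {z // z ∈ Set.range j} ≃ {z // z ∈ Set.range i} :=
    (Equiv.ofInjective j hj).symm.trans (t1⁻¹.trans (Equiv.ofInjective i hi))
  have he : ∀ x, e.extendSubtype (j x) = i (t1⁻¹ x) := by
    intro x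
    rw [Equiv.extendSubtype_apply_of_mem e (j x) ⟨x, rfl⟩]
    have h3 : (Equiv.ofInjective j hj).symm ⟨j x, ⟨x, rfl⟩⟩ = x := by
      rw [Equiv.symm_apply_eq]
      rfl
    change ((Equiv.ofInjective i hi) (t1⁻¹ ((Equiv.ofInjective j hj).symm ⟨j x, ⟨x, rfl⟩⟩)) : Ω) = _
    rw [h3]
    rfl
  let s : Perm Ω := (t2⁻¹ * t1).extendDomain (Equiv.ofInjective i hi)
  have hss : sign s = -1 := by
    rw [Perm.sign_extendDomain, Perm.sign_mul, Perm.sign_inv]
    rcases Int.units_eq_one_or (sign t1) with h | h <;> rcases Int.units_eq_one_or (sign t2) with h' | h' <;>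
      rw [h, h'] at hs ⊢ <;> first | rfl | exact absurd rfl hs
  have hse : ∀ x, s (i x) = i (t2⁻¹ (t1 x)) := by
    intro x
    exact Perm.extendDomain_apply_image (t2⁻¹ * t1) (Equiv.ofInjective i hi) x
  rcases Int.units_eq_one_or (sign e.extendSubtype) with h | h
  · exact ⟨e.extendSubtype, h, hgen t1 _ h1 he⟩
  · refine ⟨s * e.extendSubtype, ?_, hgen t2 _ h2 ?_⟩
    · rw [Perm.sign_mul, hss, h]
      rfl
    · intro x
      rw [mul_apply, he, hse]
      congr 2
      rw [← mul_apply, mul_inv_cancel, one_apply]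

end Cfsg.Agent.H106.LocPair
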