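import Cfsg.Agent.UGT.U2.FOne.PSULin
import Cfsg.Agent.H957.T5M
import Cfsg.Agent.H957.T5Semi
import Cfsg.Agent.KFacts.Unit.Extend
import Cfsg.Agent.H106.MBase

/-!
# The row `PSU_n(q)`, `n ≥ 3`, `p ≥ 5` the characteristic: all automorphisms of order `p`

For isotropic `e`, `u` with `(T e, e) ≠ 0`, `(u, S u) ≠ 0` some `g ∈ SU` maps `u` to `β T e` and `S u` to
`t e`; then `β T e` is an eigenvector of `T g S g⁻¹` with an eigenvalue whose norm is not that of a
`p`-element modulo scalars, for `t = 1` or `t` of norm `2`.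
-/

set_option autoImplicit false

universe u

namespace Cfsg.Agent.H106.MOwnU

open Cfsg Cfsg.Agent.LieClassical.HermBasic Cfsg.Agent.LieClassical.HermSiegel
  Cfsg.Agent.LieClassical.HermGen Cfsg.Agent.LieClassical.SUBasic Matrix
  Cfsg.Agent.ClassicalGeometry.PSUAutBasic Finset
open Cfsg.Agent.UGT.U2.FOne.PSU (Rep exists_rep field_eq_one)
open Cfsg.Agent.H957.T5M Cfsg.Agent.H957.T5Two Cfsg.Agent.H957.T5Semi
open Cfsg.Agent.KFacts.Unit (Hyp exists_hyp prN prN_e prN_f eq_prN)

variable {F : Type*} [Field F] {q n : ℕ}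

/-- inner automorphisms -/
theorem rep_conj (g : SU n F q) : Rep (MulAut.conj (pr n F q g)) (act g) (1 : F ≃+* F) where
  add := act_add g
  smul := act_smul g
  herm u v := herm_act g u v
  sur v := ⟨act g⁻¹ v, act_act_inv g v⟩
  lift g' := ⟨g * g' * g⁻¹, by rw [MulAut.conj_apply, map_mul, map_mul, map_inv], fun v => by
    rw [act_mul, act_mul, act_inv_act]⟩

theorem iter_eigen {X : (Fin n → F) → (Fin n → F)} {ρ : F ≃+* F}
    (hs : ∀ (c : F) v, X (c • v) = ρ c • X v) {v : Fin n → F} {α : F} (hv : X v = α • v) (m : ℕ) :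
    X^[m] v = nm ρ α m • v := by
  induction m with
  | zero => simp [nm]
  | succ m ih =>
    rw [Function.iterate_succ_apply', ih, hs, hv, smul_smul]
    congr 1
    rw [nm, nm, prod_range_succ', map_prod]
    congr 1
    refine prod_congr rfl fun i _ => ?_
    rw [pow_succ']
    rfl

theorem nm_norm (ρ : F ≃+* F) (α : F) (m : ℕ) :
    nm ρ α m * nm ρ α m ^ q = nm ρ (α * α ^ q) m := by
  rw [nm_mul]
  congr 1
  rw [nm, nm, ← prod_pow]
  exact prod_congr rfl fun i _ => (map_pow _ _ _).symm

theorem nm_natCast (ρ : F ≃+* F) (a m : ℕ) : nm ρ (a : F) m = (a : F) ^ m := by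
  rw [nm, prod_congr rfl (fun i _ => map_natCast (ρ ^ i) a), prod_const, card_range]

section Fin

variable [Fintype F]

theorem bpair_rep (hF : Fintype.card F = q ^ 2) (hn : 3 ≤ n) {p : ℕ} [hp : Fact p.Prime]
    [CharP F p] (hp5 : 5 ≤ p) {c d : MulAut (PSU n F q)} {T S : (Fin n → F) → (Fin n → F)}
    {σ τ : F ≃+* F} (hc : Rep c T σ) (hd : Rep d S τ) {e u : Fin n → F}
    (he : hermForm n F q e e = 0) (hu : hermForm n F q u u = 0)
    (heT : hermForm n F q (T e) e ≠ 0) (huS : hermForm n F q u (S u) ≠ 0) :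
    ∃ g ∈ (MulAut.conj : PSU n F q →* MulAut (PSU n F q)).range, ∀ k : ℕ,
      (c * (g * d * g⁻¹)) ^ p ^ k ≠ 1 := by
  by_contra hcon
  set κ0 := hermForm n F q u (S u) with hκ0
  set κ1 := hermForm n F q (T e) e with hκ1
  set C : F := (κ1 * κ1 ^ q) * (κ0 * κ0 ^ q)⁻¹ with hC
  have key : ∀ t : F, t ≠ 0 → ∃ k : ℕ, ∀ m, k ≤ m →
      nm (σ * τ) (σ (t * t ^ q) * (t * t ^ q) * C) (p ^ m) = 1 := by
    intro t ht
    have htq : t ^ q ≠ 0 := pow_ne_zero _ ht
    set β : F := κ0 * (t ^ q * κ1)⁻¹ with hβ
    have hβ0 : β ≠ 0 := mul_ne_zero huS (inv_ne_zero (mul_ne_zero htq heT))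
    set e' : Fin n → F := β • T e with he'
    set w : Fin n → F := t • e with hw
    have hew : hermForm n F q e' w = κ0 := by
      rw [he', hw, herm_smul_left, herm_smul_right, ← hκ1, hβ]
      field_simp
    have hee' : hermForm n F q e' e' = 0 := by
      rw [he', herm_smul_left, herm_smul_right, hc.herm, he, map_zero, mul_zero, mul_zero]
    have hww : hermForm n F q w w = 0 := by
      rw [hw, herm_smul_left, herm_smul_right, he, mul_zero, mul_zero]
    have hSS : hermForm n F q (S u) (S u) = 0 := by rw [hd.herm, hu, map_zero]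
    set a : F := (κ0 ^ q)⁻¹ with ha
    have haq : a ^ q * κ0 = 1 := by
      rw [ha, inv_pow, pow_q_pow_q hF, inv_mul_cancel₀ huS]
    have ha0 : a ≠ 0 := inv_ne_zero (pow_ne_zero _ huS)
    obtain ⟨g, -, hgu, hgS⟩ := exists_map_hyp hF hn le_rfl (mem_coordSub_top u)
      (mem_coordSub_top (a • S u)) (mem_coordSub_top e') (mem_coordSub_top (a • w)) hu
      (by rw [herm_smul_left, herm_smul_right, hSS, mul_zero, mul_zero])
      (by rw [herm_smul_right, ← hκ0, haq]) hee'
      (by rw [herm_smul_left, herm_smul_right, hww, mul_zero, mul_zero])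
      (by rw [herm_smul_right, hew, haq])
    have hgS' : act g (S u) = w := by
      rw [act_smul] at hgS
      exact smul_right_injective _ ha0 hgS
    -- the product
    have hR := hc.mul (((rep_conj g).mul hd).mul (rep_conj g⁻¹))
    set x : MulAut (PSU n F q) := c * (MulAut.conj (pr n F q g) * d * MulAut.conj (pr n F q g⁻¹))
      with hx
    set X : (Fin n → F) → (Fin n → F) := fun v => T (act g (S (act g⁻¹ v))) with hX
    have hR' : Rep x X (σ * τ) := by
      have : σ * (1 * τ * 1) = σ * τ := by group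
      rw [← this]; exact hR
    have hXe : X e' = (σ t * β⁻¹) • e' := by
      have h1 : act g⁻¹ e' = u := by rw [← hgu, act_inv_act]
      rw [hX]
      change T (act g (S (act g⁻¹ e'))) = _
      rw [h1, hgS', hw, hc.smul, he', smul_smul, mul_assoc, inv_mul_cancel₀ hβ0, mul_one]
    -- not an `MPair`
    obtain ⟨k, hk⟩ : ∃ k : ℕ, x ^ p ^ k = 1 := by
      by_contra hne
      push Not at hne
      apply hcon
      refine ⟨MulAut.conj (pr n F q g), ⟨pr n F q g, rfl⟩, fun k hk => hne k ?_⟩
      rw [← hk, hx, map_inv, map_inv]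
    refine ⟨k, fun m hm => ?_⟩
    have hkm : x ^ p ^ m = 1 := by
      obtain ⟨j, rfl⟩ := Nat.exists_eq_add_of_le hm
      rw [pow_add, pow_mul, hk, one_pow]
    have h1 := hR'.pow (p ^ m)
    rw [hkm] at h1
    obtain ⟨-, l, hl, hl'⟩ := Rep.of_one hF hn h1
    have h2 := iter_eigen hR'.smul hXe (p ^ m)
    rw [hl'] at h2
    have he0 : e' ≠ 0 := by
      rintro h0
      rw [h0, herm_zero_left] at hew
      exact huS hew.symm
    have h3 : l = nm (σ * τ) (σ t * β⁻¹) (p ^ m) := smul_left_injective F he0 h2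
    rw [h3, nm_norm] at hl
    rw [← hl]
    congr 1
    rw [hβ, hC, map_mul, map_pow]
    have h4 : (κ0 * (t ^ q * κ1)⁻¹) ^ q = κ0 ^ q * (t * κ1 ^ q)⁻¹ := by
      rw [mul_pow, inv_pow, mul_pow, pow_q_pow_q hF]
    rw [mul_pow, inv_pow, h4]
    field_simp
  obtain ⟨t, ht⟩ := exists_norm_eq hF (c := (2 : F)) (by
    have h1 : (2 : F) = 1 + 1 := by norm_num
    rw [h1, add_pow_q hF, one_pow])
  have h2 : (2 : F) ≠ 0 := by
    intro h
    have h1 : ((2 : ℕ) : F) = 0 := by exact_mod_cast h
    rw [CharP.cast_eq_zero_iff F p] at h1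
    have := Nat.le_of_dvd (by omega) h1
    omega
  have h3 : (3 : F) ≠ 0 := by
    intro h
    have h1 : ((3 : ℕ) : F) = 0 := by exact_mod_cast h
    rw [CharP.cast_eq_zero_iff F p] at h1
    have := Nat.le_of_dvd (by omega) h1
    omega
  have ht0 : t ≠ 0 := by
    rintro rfl
    rw [zero_mul] at ht
    exact h2 ht.symm
  obtain ⟨k1, hk1⟩ := key 1 one_ne_zero
  obtain ⟨k2, hk2⟩ := key t ht0
  have e1 := hk1 (max k1 k2) (le_max_left _ _)
  have e2 := hk2 (max k1 k2) (le_max_right _ _)
  rw [one_pow, mul_one, map_one, mul_one, one_mul] at e1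
  have e3 : σ (t * t ^ q) * (t * t ^ q) = ((4 : ℕ) : F) := by
    rw [ht]
    have : σ (2 : F) = 2 := by exact_mod_cast map_natCast σ 2
    rw [this]
    norm_num
  rw [e3, nm_mul, e1, mul_one, nm_natCast] at e2
  have e4 : ((4 : ℕ) : F) ^ p ^ max k1 k2 = ((4 : ℕ) : F) := by
    have := map_natCast (iterateFrobenius F p (max k1 k2)) 4
    rwa [iterateFrobenius_def] at this
  rw [e4] at e2
  apply h3
  have e5 : ((4 : ℕ) : F) = 4 := by norm_num
  rw [e5] at e2
  linear_combination e2

/-- the isotropic vector `f + z + c e` -/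
theorem exists_hyp_add (hF : Fintype.card F = q ^ 2) {e f z : Fin n → F} (H : Hyp q e f)
    (hze : hermForm n F q z e = 0) (hzf : hermForm n F q z f = 0) :
    ∃ c : F, Hyp q e (f + z + c • e) := by
  obtain ⟨c, hc⟩ := exists_trace_eq hF (c := -(hermForm n F q z z)) (by
    rw [neg_pow_q hF, herm_self_pow hF])
  refine ⟨c, H.ee, ?_, ?_⟩
  · simp only [herm_add_left, herm_add_right hF, herm_smul_left, herm_smul_right, H.ee, H.ff, H.ef,
      H.fe hF, hze, hzf, herm_eq_zero_swap hF hze, herm_eq_zero_swap hF hzf]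
    linear_combination hc
  · simp only [herm_add_right hF, herm_smul_right, H.ee, H.ef, herm_eq_zero_swap hF hze]
    ring

/-- A nontrivial semi-isometry of odd order modulo scalars moves some isotropic vector to a
non-orthogonal one. -/
theorem exists_iso_ne (hF : Fintype.card F = q ^ 2) (hn : 3 ≤ n) {c : MulAut (PSU n F q)}
    {T : (Fin n → F) → (Fin n → F)} {σ : F ≃+* F} (hc : Rep c T σ) {p : ℕ} (hp : Odd p)
    (hcp : c ^ p = 1) (hc1 : c ≠ 1) :
    ∃ e : Fin n → F, hermForm n F q e e = 0 ∧ hermForm n F q (T e) e ≠ 0 := by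
  by_contra hcon
  push Not at hcon
  have hT0 : T 0 = 0 := hc.zero
  have hTe0 : ∀ v, T v = 0 → v = 0 := fun v hv => hc.inj hF (by rw [hv, hT0])
  obtain ⟨s0, hs0, hs0'⟩ := exists_trace_zero_ne hF
  have rel : ∀ {e f : Fin n → F}, Hyp q e f → ∀ s : F, s + s ^ q = 0 →
      σ s * hermForm n F q (T f) e = s * hermForm n F q (T e) f := by
    intro e f H s hs
    have h1 := hcon (e + s • f) (by
      simp only [herm_add_left, herm_add_right hF, herm_smul_left, herm_smul_right, H.ee, H.ff,
        H.ef, H.fe hF]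
      linear_combination hs)
    have h2 := hcon e H.ee
    have h3 := hcon f H.ff
    simp only [hc.add, hc.smul, herm_add_left, herm_add_right hF, herm_smul_left,
      herm_smul_right, h2, h3] at h1
    have h4 : s ^ q = -s := by linear_combination hs
    rw [h4] at h1
    linear_combination h1
  obtain ⟨e, f, H⟩ : ∃ e f : Fin n → F, Hyp q e f := by
    obtain ⟨e, f, _, _, -, -, -, h1, h2, h3⟩ := exists_hyp_pair hF (i := (⟨0, by omega⟩ : Fin n))
      (j := ⟨1, by omega⟩) (by simp)
    exact ⟨e, f, h1, h2, h3⟩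
  have hσp : σ ^ p = 1 := by
    have h1 := hc.pow p
    rw [hcp] at h1
    exact (Rep.of_one hF hn h1).1
  by_cases hσ : σ = 1
  · -- linear case
    subst hσ
    have relA : ∀ {e f : Fin n → F}, Hyp q e f → hermForm n F q (T e) f = hermForm n F q (T f) e := by
      intro e f H
      have h1 := rel H s0 hs0'
      exact (mul_left_cancel₀ hs0 h1).symm
    obtain ⟨l, hl⟩ := exists_not_fixed hF
    have hz : ∀ {e f z : Fin n → F}, Hyp q e f → hermForm n F q z e = 0 →
        hermForm n F q z f = 0 → hermForm n F q (T e) z = 0 := by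
      intro e f z H hze hzf
      have key : ∀ z : Fin n → F, hermForm n F q z e = 0 → hermForm n F q z f = 0 →
          hermForm n F q (T e) z = hermForm n F q (T z) e := by
        intro z hze hzf
        obtain ⟨a, H'⟩ := exists_hyp_add hF H hze hzf
        have h1 := relA H'
        simp only [hc.add, hc.smul, herm_add_left, herm_add_right hF, herm_smul_left,
          herm_smul_right, hcon e H.ee] at h1
        linear_combination h1 - relA H
      have h1 := key z hze hzf
      have h2 := key (l • z) (by rw [herm_smul_left, hze, mul_zero])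
        (by rw [herm_smul_left, hzf, mul_zero])
      rw [herm_smul_right, hc.smul, herm_smul_left, ← h1] at h2
      have h3 : (l ^ q - l) * hermForm n F q (T e) z = 0 := by
        have : (1 : F ≃+* F) l = l := rfl
        rw [this] at h2
        linear_combination h2
      rcases mul_eq_zero.1 h3 with h4 | h4
      · exact absurd (sub_eq_zero.1 h4) hl
      · exact h4
    have hline : ∀ {e f : Fin n → F}, Hyp q e f → T e = hermForm n F q (T e) f • e := by
      intro e f H
      have h1 : prN q e f (T e) = 0 := by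
        refine herm_nondeg hF fun v => ?_
        conv_lhs => rw [eq_prN (q := q) e f v]
        rw [herm_add_right hF, herm_add_right hF, herm_smul_right, herm_smul_right, prN_e hF H,
          prN_f H, mul_zero, mul_zero, zero_add, zero_add]
        have h2 := hz H (prN_e hF H v) (prN_f H v)
        have h3 : hermForm n F q (prN q e f (T e)) (prN q e f v) =
            hermForm n F q (T e) (prN q e f v) := by
          conv_rhs => rw [eq_prN (q := q) e f (T e)]
          rw [herm_add_left, herm_add_left, herm_smul_left, herm_smul_left,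
            herm_eq_zero_swap hF (prN_e hF H v), herm_eq_zero_swap hF (prN_f H v)]
          ring
        rw [h3, h2]
      have h2 := eq_prN (q := q) e f (T e)
      rw [h1, hcon e H.ee, zero_smul, add_zero, add_zero] at h2
      exact h2
    set l0 := hermForm n F q (T e) f with hl0
    have hTe : T e = l0 • e := hline H
    have hTf : ∀ {f : Fin n → F}, Hyp q e f → T f = l0 • f := by
      intro f' H'
      have h1 := hline (H'.symm hF)
      have h2 := relA H'
      have h3 : hermForm n F q (T e) f' = l0 := by rw [hTe, herm_smul_left, H'.ef, mul_one]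
      rw [h3] at h2
      rwa [← h2] at h1
    have hTz : ∀ z : Fin n → F, hermForm n F q z e = 0 → hermForm n F q z f = 0 → T z = l0 • z := by
      intro z hze hzf
      obtain ⟨a, H'⟩ := exists_hyp_add hF H hze hzf
      have h1 := hTf H'
      rw [hc.add, hc.add, hc.smul, hTf H, hTe] at h1
      have h2 : (1 : F ≃+* F) a = a := rfl
      rw [h2] at h1
      have h3 : T z = l0 • (f + z + a • e) - l0 • f - a • l0 • e := by
        rw [← h1]; abel
      rw [h3]
      module
    have hTv : ∀ v, T v = l0 • v := by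
      intro v
      have h1 := eq_prN (q := q) e f v
      set v1 := prN q e f v with hv1
      have h2 := hTz v1 (prN_e hF H v) (prN_f H v)
      rw [h1, hc.add, hc.add, hc.smul, hc.smul, hTf H, hTe, h2]
      have h3 : ∀ a : F, (1 : F ≃+* F) a = a := fun _ => rfl
      rw [h3, h3]
      module
    refine hc1 (hc.eq_one (c := l0) ?_ hTv)
    intro h0
    apply H.ne_zero
    apply hTe0
    rw [hTe, h0, zero_smul]
  · -- semilinear case
    obtain ⟨r, hr, hr'⟩ : ∃ r : F, r ^ q = r ∧ σ r ≠ r := by
      by_contra hne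
      push Not at hne
      exact hσ (field_eq_one hF hne hp hσp)
    have relB : ∀ {e f : Fin n → F}, Hyp q e f → hermForm n F q (T e) f = 0 := by
      intro e f H
      have h1 := rel H s0 hs0'
      have h2 := rel H (r * s0) (by rw [mul_pow, hr]; linear_combination r * hs0')
      rw [map_mul] at h2
      have h3 : (σ r - r) * (σ s0 * hermForm n F q (T f) e) = 0 := by
        linear_combination h2 - r * h1
      have h4 : σ s0 * hermForm n F q (T f) e = 0 :=
        (mul_eq_zero.1 h3).resolve_left (sub_ne_zero.2 hr')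
      rw [h4] at h1
      exact (mul_eq_zero.1 h1.symm).resolve_left hs0
    apply H.ne_zero
    apply hTe0
    refine herm_nondeg hF fun v => ?_
    have h1 := eq_prN (q := q) e f v
    set z := prN q e f v with hz
    have hze : hermForm n F q z e = 0 := prN_e hF H v
    have hzf : hermForm n F q z f = 0 := prN_f H v
    obtain ⟨a, H'⟩ := exists_hyp_add hF H hze hzf
    have h2 := relB H'
    rw [herm_add_right hF, herm_add_right hF, herm_smul_right, relB H, hcon e H.ee, mul_zero,
      add_zero, zero_add] at h2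
    rw [h1, herm_add_right hF, herm_add_right hF, herm_smul_right, herm_smul_right, relB H,
      hcon e H.ee, h2]
    ring

theorem bpair (hF : Fintype.card F = q ^ 2) (hn : 3 ≤ n) {p : ℕ} [hp : Fact p.Prime] [CharP F p]
    (hp5 : 5 ≤ p) {c d : MulAut (PSU n F q)} (hc : orderOf c = p) (hd : orderOf d = p) :
    ∃ g ∈ (MulAut.conj : PSU n F q →* MulAut (PSU n F q)).range, ∀ k : ℕ,
      (c * (g * d * g⁻¹)) ^ p ^ k ≠ 1 := by
  have hpp : p.Prime := hp.out
  have hodd : Odd p := hpp.odd_of_ne_two (by omega)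
  have hcp : c ^ p = 1 := by rw [← hc, pow_orderOf_eq_one]
  have hdp : d ^ p = 1 := by rw [← hd, pow_orderOf_eq_one]
  have hne1 : ∀ x : MulAut (PSU n F q), orderOf x = p → x ≠ 1 := by
    rintro x hx rfl
    rw [orderOf_one] at hx
    exact hpp.one_lt.ne hx
  have h32 : ¬ (n = 3 ∧ q = 2) := by
    rintro ⟨-, rfl⟩
    have h1 : p ∣ Fintype.card F := by
      obtain ⟨m, -, hm⟩ := FiniteField.card F p
      rw [hm]
      exact dvd_pow_self _ m.ne_zero
    rw [hF] at h1
    have := Nat.le_of_dvd (by norm_num) (hpp.dvd_of_dvd_pow h1)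
    omega
  obtain ⟨T, σ, hT⟩ := exists_rep hF hn h32 c
  obtain ⟨S, τ, hS⟩ := exists_rep hF hn h32 d
  obtain ⟨e, he, heT⟩ := exists_iso_ne hF hn hT hodd hcp (hne1 c hc)
  obtain ⟨u, hu, huS⟩ := exists_iso_ne hF hn hS hodd hdp (hne1 d hd)
  exact bpair_rep hF hn hp5 hT hS he hu heT (fun h => huS (herm_eq_zero_swap hF h))

/-- **The row `PSU_n(q)` in own characteristic.** -/
theorem mrow_psu_own (hF : Fintype.card F = q ^ 2) (hn : 3 ≤ n) {p : ℕ} [hp : Fact p.Prime]
    [CharP F p] (hp5 : 5 ≤ p) {S : Type*} [Group S] (e : S ≃* PSU n F q) : MRow p S := by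
  refine MRow.congr e fun c d hc hd => ?_
  obtain ⟨g, hg, h⟩ := bpair hF hn hp5 hc hd
  exact ⟨g, hg, 1, 1, fun k hk => h k (by rwa [pow_one, pow_one] at hk)⟩

end Fin

end Cfsg.Agent.H106.MOwnU
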