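import Cfsg.Agent.H106.InnerAb
import Cfsg.Agent.H106.MOwnPSU
import Cfsg.Agent.H201.T5Alt
import Cfsg.Agent.H194.MOwn.PslRow
import Cfsg.Agent.H957.T5RowPSL

/-!
# The middle rows: assembly

`RowFam p Fam` : the row for the simple groups of a family, given the rows of the smaller groups.
`mrow_all` : the rows of all simple groups from the rows of the families.
-/

set_option autoImplicit false

universe u

namespace Cfsg.Agent.H106.MAll

open Cfsg Cfsg.Agent.H533.T5 Cfsg.Agent.H957.T5M Cfsg.Agent.H106.MB Cfsg.Agent.H106.MT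

/-- The rows of the simple groups of order less than `n`. -/
def Below (p n : ℕ) : Prop :=
  ∀ (L : Type u) [Group L] [Finite L], IsSimpleGroup L → ¬ IsMulCommutative L →
    Nat.card L < n → MRow p L

/-- The row of a family, given the rows of the smaller groups. -/
def RowFam (p : ℕ) (Fam : ∀ (S : Type u) [Group S], Prop) : Prop :=
  ∀ (S : Type u) [Group S] [Finite S] [IsSimpleGroup S], ¬ IsMulCommutative S → Fam S →
    Below.{u} p (Nat.card S) → MRow p S

theorem RowFam.or {p : ℕ} {A B : ∀ (S : Type u) [Group S], Prop} (hA : RowFam.{u} p A)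
    (hB : RowFam.{u} p B) : RowFam.{u} p (fun S _ => A S ∨ B S) := by
  intro S _ _ _ hna h hlt
  rcases h with h | h
  · exact hA S hna h hlt
  · exact hB S hna h hlt

theorem rowFam_alt {p : ℕ} (hp : p.Prime) (h5 : 5 ≤ p) :
    RowFam.{u} p (fun S _ => IsAlternating S) := by
  rintro S _ _ _ - ⟨n, hn, ⟨e⟩⟩ -
  exact MRow.congr e (H201.T5Alt.mrow_alt hn hp h5)

theorem charP_of_dvd {p : ℕ} (hp : p.Prime) {F : Type} [Field F] [Fintype F]
    (h : p ∣ Fintype.card F) : CharP F p := by
  obtain ⟨n, hr, hn⟩ := FiniteField.card F (ringChar F)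
  rw [hn] at h
  have h1 := (Nat.prime_dvd_prime_iff_eq hp hr).1 (hp.dvd_of_dvd_pow h)
  rw [h1]
  infer_instance

theorem rowFam_psl {p : ℕ} (hp : p.Prime) (h5 : 5 ≤ p) :
    RowFam.{u} p (fun S _ => IsPSL S) := by
  rintro S _ _ _ - ⟨F, _, _, n, hn, -, ⟨e⟩⟩ -
  have := Fact.mk hp
  by_cases h : p ∣ Fintype.card F
  · have := charP_of_dvd hp h
    exact H194.MOwn.mrow_psl_own hn h5 e
  · exact H957.T5RowPSL.row_PSL_cross hn hp h5 h e

/-- **All rows.** -/
theorem mrow_all {p : ℕ} (hp : p.Prime) (h5 : 5 ≤ p)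
    (hK : ∀ (S : Type u) [Group S] [Finite S] [IsSimpleGroup S], IsKnownSimple' S)
    (psp : RowFam.{u} p (fun S _ => IsPSp S)) (psu : RowFam.{u} p (fun S _ => IsPSU S))
    (odd : RowFam.{u} p (fun S _ => IsPOmegaOdd S)) (plus : RowFam.{u} p (fun S _ => IsPOmegaPlus S))
    (minus : RowFam.{u} p (fun S _ => IsPOmegaMinus S))
    (exc : RowFam.{u} p (fun S _ => IsExceptionalLieType S))
    (spor : RowFam.{u} p (fun S _ => IsSporadicGroup S)) :
    ∀ (S : Type u) [Group S] [Finite S], IsSimpleGroup S → ¬ IsMulCommutative S → MRow p S := by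
  have key : ∀ (n : ℕ) (S : Type u) [Group S] [Finite S], IsSimpleGroup S →
      ¬ IsMulCommutative S → Nat.card S = n → MRow p S := by
    intro n
    induction n using Nat.strong_induction_on with
    | _ n ih =>
    intro S _ _ hs hna hn
    have hlt : Below.{u} p (Nat.card S) := by
      intro L _ _ hL hLna hLc
      exact ih _ (by rwa [← hn]) L hL hLna rfl
    rcases hK S with h | h | h | h | h | h | h | h | h | h
    · exfalso
      apply hna
      have := Fact.mk (show (Nat.card S).Prime from h)
      have : IsCyclic S := isCyclic_of_prime_card (p := Nat.card S) rfl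
      let _ := IsCyclic.commGroup (α := S)
      exact ⟨⟨fun a b => mul_comm a b⟩⟩
    · exact rowFam_alt hp h5 S hna h hlt
    · exact rowFam_psl hp h5 S hna h hlt
    · exact psp S hna h hlt
    · exact psu S hna h hlt
    · exact odd S hna h hlt
    · exact plus S hna h hlt
    · exact minus S hna h hlt
    · exact exc S hna h hlt
    · exact spor S hna h hlt
  intro S _ _ hs hna
  exact key _ S hs hna rfl

end Cfsg.Agent.H106.MAll
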