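import Cfsg.Agent.H106.MAll
import Cfsg.Agent.H957.T5RowPSU
import Cfsg.Agent.H194.MOwn.SpRow
import Cfsg.Agent.H194.MOwn.OmRow
import Cfsg.Agent.H862.T5.ORow

/-!
# The middle rows of the classical groups

`rowFam_psu`, `rowFam_psp`, `rowFam_odd`, `rowFam_plus`, `rowFam_minus`.
-/

set_option autoImplicit false

universe u

namespace Cfsg.Agent.H106.MClass

open Cfsg Cfsg.Agent.H533.T5 Cfsg.Agent.H957.T5M Cfsg.Agent.H106.MB Cfsg.Agent.H106.MT
open Cfsg.Agent.H106.MAll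

theorem rowFam_psu {p : ℕ} (hp : p.Prime) (h5 : 5 ≤ p) : RowFam.{u} p (fun S _ => IsPSU S) := by
  rintro S _ _ _ - ⟨F, _, _, n, q, hF, hn, h32, ⟨e⟩⟩ -
  have := Fact.mk hp
  by_cases h : p ∣ Fintype.card F
  · have := charP_of_dvd hp h
    exact MOwnU.mrow_psu_own hF hn h5 e
  · exact H957.T5RowPSU.row_PSU_cross hF hn h32 hp h5
      (fun h1 => h (by rw [hF]; exact dvd_pow h1 (by norm_num))) e

variable {p : ℕ} (hp : p.Prime) (h5 : 5 ≤ p)

include hp h5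

theorem rowFam_psp (C : ∀ (F : Type) [Field F] [Fintype F] (m : ℕ), 2 ≤ m →
    (m = 2 → 3 ≤ Fintype.card F) → ¬ p ∣ Fintype.card F → MRow p (PSp m F)) :
    RowFam.{u} p (fun S _ => IsPSp S) := by
  rintro S _ _ _ - ⟨F, _, _, m, hm, hm2, ⟨e⟩⟩ -
  have := Fact.mk hp
  by_cases h : p ∣ Fintype.card F
  · have := charP_of_dvd hp h
    exact H194.MOwn.Spo.mrow_psp hm h5 e
  · exact MRow.congr e (C F m hm hm2 h)

variable (hAA : AAHyp.{0} p)

include hAA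

theorem rowFam_odd : RowFam.{u} p (fun S _ => IsPOmegaOdd S) := by
  intro S _ _ _ _ h _
  by_cases hch : IsPOmegaOddChar p S
  · obtain ⟨F, _, _, hF, m, hm, -, ⟨e⟩⟩ := hch
    have := Fact.mk hp
    exact H194.MOwn.Om.mrow_odd hm h5 e
  · exact H862.T5.ORow.pomegaOdd_mrow h hp h5 hch hAA

theorem rowFam_plus : RowFam.{u} p (fun S _ => IsPOmegaPlus S) := by
  intro S _ _ _ _ h _
  by_cases hch : IsPOmegaPlusChar p S
  · obtain ⟨F, _, _, hF, m, hm, ⟨e⟩⟩ := hch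
    have := Fact.mk hp
    exact H194.MOwn.Om.mrow_plus hm h5 e
  · exact H862.T5.ORow.pomegaPlus_mrow h hp h5 hch hAA

theorem rowFam_minus : RowFam.{u} p (fun S _ => IsPOmegaMinus S) := by
  intro S _ _ _ _ h _
  by_cases hch : IsPOmegaMinusChar p S
  · obtain ⟨F, _, _, hF, m, a, b, hm, hab, ⟨e⟩⟩ := hch
    have := Fact.mk hp
    exact H194.MOwn.Om.mrow_minus (by omega) hab h5 e
  · exact H862.T5.ORow.pomegaMinus_mrow h hp h5 hch hAA

end Cfsg.Agent.H106.MClass
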