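import Cfsg.Agent.H106.MTrace
import Cfsg.Agent.H798.T5Bond
import Cfsg.Agent.Nodes.RGDTwD4

/-!
# `³D₄(q)` in its own characteristic: the special pairs

`mpair_only` : `c ∈ U`, `c ∉ V_0` (long node) and all `P_0`-conjugates of `d` in `U \ V_1`.
-/

set_option autoImplicit false
set_option linter.unusedSectionVars false

namespace Cfsg.Agent.H106.MTwD4

open CoxeterSystem Cfsg.Agent.ChevalleyStructure.CoxeterGeom Cfsg.Agent.Tits.Roots Cfsg.Agent.Tits.Core
  Cfsg.Agent.Nodes.BNOf Cfsg.Agent.Nodes.RGDTwGen Cfsg.Agent.Nodes.RGDChev Cfsg.Agent.Nodes.RGDFold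
open Cfsg.Agent.Nodes.Reps Cfsg.Agent.Nodes.StabComb Cfsg.Agent.Nodes.LeviDec
open Cfsg.Lie Cfsg.Agent.ChevalleyStructure
  Cfsg.Agent.ChevalleyStructure.TwistedU Cfsg.Agent.ChevalleyStructure.TwistedFix
open Cfsg.Agent.ChevalleyStructure.D4Comm Cfsg.Agent.ChevalleyStructure.D4CommTab
open Cfsg.Agent.ChevalleyStructure.D4Pos
open Cfsg.Agent.ChevalleyStructure.D4NConj (nR hR xG_inv)
open Cfsg.Agent.ChevalleyStructure.D4U Cfsg.Agent.ChevalleyStructure.D4Twisted
open Cfsg.Agent.ChevalleyStructure.D4Fixed (sig fix mem_fix)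
open Cfsg.Agent.H957.T5M Cfsg.Agent.H106.MTrace
open scoped commutatorElement

universe u

section GLevel

variable {K : Type*} [Field K] {φ : K →+* K}

/-- the positive roots except the long simple one -/
def l0 : List ℕ := [18, 13, 12, 19, 16, 15, 21, 17, 20, 22, 23]

/-- the positive roots except the short simple ones -/
def l1 : List ℕ := [14, 19, 16, 15, 21, 17, 20, 22, 23]

/-- the normal form of `l0` -/
theorem mem_l0 {g : GL chevD4.Idx K} (hg : g ∈ RS K l0) (hf : g ∈ fix φ) :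
    ∃ b c d e f : K, g = elt φ 0 b c d e f := by
  have hU : g ∈ chevD4.posUnipotent K := by
    rw [posUnipotent_eq_rspan ordA mem_ordA_iff]
    exact rspan_mono xG (by intro k hk; revert hk; unfold l0 ordA; simp; tauto) hg
  obtain ⟨a, b, c, d, e, f, rfl⟩ := exists_elt hU hf
  refine ⟨b, c, d, e, f, ?_⟩
  have h0 : a = 0 := by
    apply eq_zero_of_mem (l := l0) (r := 14) (by decide +kernel) (by norm_num) (by decide)
    have e1 : (xG 14 a : GL chevD4.Idx K) = elt φ a b c d e f * (lprod xG l0 (crd φ a b c d e f))⁻¹ := by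
      rw [eq_mul_inv_iff_mul_eq]
      rfl
    rw [e1]
    exact mul_mem hg (inv_mem (lprod_mem_rspan xG (fun _ h => h) _))
  rw [h0]

theorem elt_mem_l1 {b c d e f a : K} (hb : b = 0) : elt φ a b c d e f ∈ RS K l1 := by
  subst hb
  rw [elt_eq]
  have mem (r : ℕ) (t : K) (h : r ∈ l1) : xG r t ∈ RS K l1 := mem_rspan xG (S := {k | k ∈ l1}) h t
  rw [map_zero, map_zero, xG_zero, xG_zero, xG_zero, mul_one, mul_one, mul_one]
  exact mul_mem (mul_mem (mul_mem (mul_mem (mem _ _ (by decide))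
    (mul_mem (mul_mem (mem _ _ (by decide)) (mem _ _ (by decide))) (mem _ _ (by decide))))
    (mul_mem (mul_mem (mem _ _ (by decide)) (mem _ _ (by decide))) (mem _ _ (by decide))))
    (mem _ _ (by decide))) (mem _ _ (by decide))

/-- an element of `X_b` in `RS l1` is trivial -/
theorem outer_l1 {t : K} (h : D4Fixed.X φ t ∈ RS K l1) : t = 0 := by
  have h1 : elt φ 0 t 0 0 0 0 ∈ RS K l1 := by
    have e1 : elt φ 0 t 0 0 0 0 = D4Fixed.X φ t := by
      rw [elt_eq]
      unfold D4Fixed.X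
      simp only [map_zero, xG_zero, neg_zero, one_mul, mul_one, xU_eq]
    rwa [e1]
  obtain ⟨s, hs⟩ := exists_lprod xG_add (by decide) (good_of_goodB l1 (by decide +kernel)) h1
  have h2 : lprod (xG : ℕ → K → GL chevD4.Idx K) ordB (crd φ 0 t 0 0 0 0) =
      lprod xG ordB (fun r => if r ∈ l1 then s r else 0) := by
    have e2 : lprod (xG : ℕ → K → GL chevD4.Idx K) ordB (crd φ 0 t 0 0 0 0) = elt φ 0 t 0 0 0 0 := by
      unfold elt ordB ordA
      simp only [lprod_cons, lprod_nil, crd, xG_zero, one_mul, mul_one]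
    rw [e2, hs]
    unfold ordB l1
    simp [lprod_cons, lprod_nil, xG_zero]
  have h3 := lprod_inj ordB uniqB_ordB h2 18 (by decide)
  simpa [crd, l1] using h3

/-! ### conjugation by `X_{a+2b}` -/

/-- commuting check -/
def cmB (r s : ℕ) : Bool := decide (r = s) || (decide (12 ≤ r) && decide (r < 24) && decide (12 ≤ s) &&
  decide (s < 24) && decide (s ≠ r) && (cm r s).isNone)

theorem cmt {r s : ℕ} (h : cmB r s = true) (t u : K) :
    Commute (xG r t : GL chevD4.Idx K) (xG s u) := by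
  unfold cmB at h
  rw [Bool.or_eq_true] at h
  rcases h with h | h
  · have h1 : r = s := of_decide_eq_true h
    subst h1
    show xG r t * xG r u = xG r u * xG r t
    rw [← xG_add, ← xG_add, add_comm]
  · exact xG_commute h t u

/-- the commutator as conjugation -/
theorem cnj {r s k : ℕ} {c : ℤ} (hr : 12 ≤ r) (hr' : r < 24) (hs : 12 ≤ s) (hs' : s < 24) (hne : s ≠ r)
    (h : cm r s = some (k, c)) (t u : K) :
    (xG r t : GL chevD4.Idx K) * xG s u * (xG r t)⁻¹ = xG k ((c : K) * (t * u)) * xG s u := by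
  have h1 := xG_comm (F := K) hr hr' hs hs' hne t u
  unfold cval at h1
  rw [h] at h1
  simp only at h1
  rw [← h1, commutatorElement_def]
  group

theorem zx {G : Type*} [Group G] {z x z' x' : G} (h : Commute z' x) :
    (z * x) * (z' * x') = (z * z') * (x * x') := by
  rw [mul_assoc, ← mul_assoc x z' x', ← h.eq]
  group

/-- the elements of `X_{a+2b}` -/
noncomputable def yv (φ : K →+* K) (η : K) : GL chevD4.Idx K := xG 21 η * xG 17 (-φ η) * xG 20 (φ (φ η))

theorem yv_eq (η : K) : yv φ η = elt φ 0 0 0 η 0 0 := by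
  rw [elt_eq]
  unfold yv
  simp only [map_zero, xG_zero, neg_zero, one_mul, mul_one]

theorem conj3 {G : Type*} [Group G] (a b c x : G) :
    a * b * c * x * (a * b * c)⁻¹ = a * (b * (c * x * c⁻¹) * b⁻¹) * a⁻¹ := by group

theorem conj_self {G : Type*} [Group G] {a x : G} (h : Commute a x) : a * x * a⁻¹ = x := by
  rw [h.eq, mul_inv_cancel_right]

theorem conj_mul2 {G : Type*} [Group G] (a x y : G) : a * (x * y) * a⁻¹ = (a * x * a⁻¹) * (a * y * a⁻¹) := by
  group

/-- only the second factor contributes -/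
theorem y_of2 {s k : ℕ} {c : ℤ} (η u : K) (h1 : cmB 21 s = true) (h3 : cmB 20 s = true) (hs : 12 ≤ s)
    (hs' : s < 24) (hne : s ≠ 17) (h : cm 17 s = some (k, c)) (hk : cmB 21 k = true) :
    yv φ η * xG s u * (yv φ η)⁻¹ = xG k ((c : K) * (-φ η * u)) * xG s u := by
  unfold yv
  rw [conj3, conj_self (cmt h3 _ _), cnj (by norm_num) (by norm_num) hs hs' hne h, conj_mul2,
    conj_self (cmt hk _ _), conj_self (cmt h1 _ _)]

theorem y_of3 {s k : ℕ} {c : ℤ} (η u : K) (h1 : cmB 21 s = true) (h3 : cmB 17 s = true) (hs : 12 ≤ s)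
    (hs' : s < 24) (hne : s ≠ 20) (h : cm 20 s = some (k, c)) (hk : cmB 21 k = true) (hk' : cmB 17 k = true) :
    yv φ η * xG s u * (yv φ η)⁻¹ = xG k ((c : K) * (φ (φ η) * u)) * xG s u := by
  unfold yv
  rw [conj3, cnj (by norm_num) (by norm_num) hs hs' hne h, conj_mul2 (xG 17 _) (xG k _) (xG s _),
    conj_self (cmt hk' _ _), conj_self (cmt h3 _ _), conj_mul2, conj_self (cmt hk _ _), conj_self (cmt h1 _ _)]

theorem y_of1 {s k : ℕ} {c : ℤ} (η u : K) (h1 : cmB 17 s = true) (h3 : cmB 20 s = true) (hs : 12 ≤ s)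
    (hs' : s < 24) (hne : s ≠ 21) (h : cm 21 s = some (k, c)) :
    yv φ η * xG s u * (yv φ η)⁻¹ = xG k ((c : K) * (η * u)) * xG s u := by
  unfold yv
  rw [conj3, conj_self (cmt h3 _ _), conj_self (cmt h1 _ _), cnj (by norm_num) (by norm_num) hs hs' hne h]

theorem y_of0 {s : ℕ} (η u : K) (h1 : cmB 21 s = true) (h2 : cmB 17 s = true) (h3 : cmB 20 s = true) :
    yv φ η * xG s u * (yv φ η)⁻¹ = xG s u := by
  unfold yv
  rw [conj3, conj_self (cmt h3 _ _), conj_self (cmt h2 _ _), conj_self (cmt h1 _ _)]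

theorem y_conj (η b c d e f : K) : yv φ η * elt φ 0 b c d e f * (yv φ η)⁻¹ =
    xG 22 (-(η * φ (φ b) + φ η * b + φ (φ η) * φ b)) *
      xG 23 (-(η * φ (φ c) + φ η * c + φ (φ η) * φ c)) * elt φ 0 b c d e f := by
  rw [elt_eq, xG_zero, one_mul]
  simp only [conj_mul2]
  rw [y_of2 (k := 22) (c := 1) η b (by decide +kernel) (by decide +kernel) (by norm_num) (by norm_num)
      (by norm_num) (by decide +kernel) (by decide +kernel),
    y_of3 (k := 22) (c := -1) η (φ b) (by decide +kernel) (by decide +kernel) (by norm_num) (by norm_num)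
      (by norm_num) (by decide +kernel) (by decide +kernel) (by decide +kernel),
    y_of1 (k := 22) (c := -1) η (φ (φ b)) (by decide +kernel) (by decide +kernel) (by norm_num) (by norm_num)
      (by norm_num) (by decide +kernel),
    y_of2 (k := 23) (c := 1) η c (by decide +kernel) (by decide +kernel) (by norm_num) (by norm_num)
      (by norm_num) (by decide +kernel) (by decide +kernel),
    y_of3 (k := 23) (c := 1) η (-φ c) (by decide +kernel) (by decide +kernel) (by norm_num) (by norm_num)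
      (by norm_num) (by decide +kernel) (by decide +kernel) (by decide +kernel),
    y_of1 (k := 23) (c := 1) η (-φ (φ c)) (by decide +kernel) (by decide +kernel) (by norm_num) (by norm_num)
      (by norm_num) (by decide +kernel),
    y_of0 η d (by decide +kernel) (by decide +kernel) (by decide +kernel),
    y_of0 η (-φ d) (by decide +kernel) (by decide +kernel) (by decide +kernel),
    y_of0 η (φ (φ d)) (by decide +kernel) (by decide +kernel) (by decide +kernel),
    y_of0 η e (by decide +kernel) (by decide +kernel) (by decide +kernel),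
    y_of0 η f (by decide +kernel) (by decide +kernel) (by decide +kernel)]
  have c2 {s : ℕ} (h : cmB 22 s = true) (t u : K) : Commute (xG 22 t : GL chevD4.Idx K) (xG s u) := cmt h t u
  have c3 {s : ℕ} (h : cmB 23 s = true) (t u : K) : Commute (xG 23 t : GL chevD4.Idx K) (xG s u) := cmt h t u
  rw [zx (c2 (by decide +kernel) _ _), zx ((c2 (by decide +kernel) _ _).mul_right (c2 (by decide +kernel) _ _)),
    zx (c3 (by decide +kernel) _ _), zx ((c3 (by decide +kernel) _ _).mul_right (c3 (by decide +kernel) _ _))]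
  rw [← xG_add, ← xG_add, ← xG_add, ← xG_add]
  have c4 (t : K) : Commute (xG 23 t : GL chevD4.Idx K) (xG 18 b * xG 13 (φ b) * xG 12 (φ (φ b))) :=
    ((c3 (by decide +kernel) _ _).mul_right (c3 (by decide +kernel) _ _)).mul_right (c3 (by decide +kernel) _ _)
  rw [zx (c4 _)]
  simp only [mul_assoc]
  congr 2
  · push_cast
    ring
  · congr 1
    push_cast
    ring

/-! ### conjugation by `X_a` -/

/-- `X_r` normalizes `RS K l` -/
def nrB (r : ℕ) (l : List ℕ) : Bool := decide (12 ≤ r) && decide (r < 24) &&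
  l.all fun s => decide (12 ≤ s) && decide (s < 24) && decide (s ≠ r) &&
    match cm r s with
    | none => true
    | some kc => l.contains kc.1

theorem nrm {r : ℕ} {l : List ℕ} (h : nrB r l = true) (t : K) {g : GL chevD4.Idx K} (hg : g ∈ RS K l) :
    xG r t * g * (xG r t)⁻¹ ∈ RS K l := by
  have key : RS K l ≤ (RS K l).comap (MulAut.conj (xG r t)).toMonoidHom := by
    refine rspan_le xG fun s hs u => ?_
    show xG r t * xG s u * (xG r t)⁻¹ ∈ RS K l
    unfold nrB at h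
    rw [Bool.and_eq_true, Bool.and_eq_true, List.all_eq_true] at h
    obtain ⟨⟨h1, h2⟩, h3⟩ := h
    have h5 := h3 s hs
    rw [Bool.and_eq_true, Bool.and_eq_true, Bool.and_eq_true] at h5
    obtain ⟨⟨⟨h6, h7⟩, h8⟩, h9⟩ := h5
    have h10 : xG r t * xG s u * (xG r t)⁻¹ = ⁅(xG r t : GL chevD4.Idx K), xG s u⁆ * xG s u := by
      rw [commutatorElement_def]; group
    rw [h10, xG_comm (of_decide_eq_true h1) (of_decide_eq_true h2) (of_decide_eq_true h6)
      (of_decide_eq_true h7) (of_decide_eq_true h8)]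
    refine mul_mem ?_ (mem_rspan xG (S := {k | k ∈ l}) hs u)
    unfold cval
    rcases hc : cm r s with _ | kc
    · exact Subgroup.one_mem _
    · rw [hc] at h9
      have h10 : kc.1 ∈ l := by simpa using h9
      exact mem_rspan (xG : ℕ → K → GL chevD4.Idx K) (S := {k | k ∈ l}) h10 _
  exact key hg

/-- the list of `X_b X_{a+2b} X_{a+3b} X_{2a+3b}` -/
def lM : List ℕ := [18, 13, 12, 21, 17, 20, 22, 23]

theorem three_conj {G : Type*} [Group G] {s1 s2 s3 a1 a2 a3 : G} (h12 : Commute s1 s2)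
    (h13 : Commute s1 s3) (h23 : Commute s2 s3) :
    (s1 * a1) * (s2 * a2) * (s3 * a3) * (s1⁻¹ * s2⁻¹ * s3⁻¹) =
      (s1 * a1 * s1⁻¹) * (s1 * (s2 * a2 * s2⁻¹) * s1⁻¹) *
        (s1 * (s2 * (s3 * a3 * s3⁻¹) * s2⁻¹) * s1⁻¹) := by
  have e0 : s3 * s2 * s1 = s1 * s2 * s3 := by
    rw [← h23.eq, mul_assoc, ← h13.eq, ← mul_assoc, ← h12.eq]
  have e1 : s1⁻¹ * s2⁻¹ * s3⁻¹ = s3⁻¹ * s2⁻¹ * s1⁻¹ := by
    have h1 : s1⁻¹ * s2⁻¹ * s3⁻¹ = (s3 * s2 * s1)⁻¹ := by group
    have h2 : s3⁻¹ * s2⁻¹ * s1⁻¹ = (s1 * s2 * s3)⁻¹ := by group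
    rw [h1, h2, e0]
  rw [e1]
  group

theorem a_conj {u b c d e f : K} (hu : φ u = u) (hc : c = -(u * b)) :
    xG 14 u * elt φ 0 b c d e f * (xG 14 u)⁻¹ ∈ RS K lM := by
  have mem (r : ℕ) (t : K) (h : r ∈ lM) : (xG r t : GL chevD4.Idx K) ∈ RS K lM :=
    mem_rspan xG (S := {k | k ∈ lM}) h t
  rw [elt_eq, xG_zero, one_mul]
  simp only [conj_mul2]
  rw [cnj (k := 19) (c := 1) (by norm_num) (by norm_num) (by norm_num) (by norm_num) (by norm_num)
      (by decide +kernel) u b,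
    cnj (k := 16) (c := -1) (by norm_num) (by norm_num) (by norm_num) (by norm_num) (by norm_num)
      (by decide +kernel) u (φ b),
    cnj (k := 15) (c := -1) (by norm_num) (by norm_num) (by norm_num) (by norm_num) (by norm_num)
      (by decide +kernel) u (φ (φ b)),
    cnj (k := 23) (c := 1) (by norm_num) (by norm_num) (by norm_num) (by norm_num) (by norm_num)
      (by decide +kernel) u e]
  rw [conj_self (cmt (r := 14) (s := 19) (by decide +kernel) u c),
    conj_self (cmt (r := 14) (s := 16) (by decide +kernel) u (-φ c)),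
    conj_self (cmt (r := 14) (s := 15) (by decide +kernel) u (-φ (φ c))),
    conj_self (cmt (r := 14) (s := 21) (by decide +kernel) u d),
    conj_self (cmt (r := 14) (s := 17) (by decide +kernel) u (-φ d)),
    conj_self (cmt (r := 14) (s := 20) (by decide +kernel) u (φ (φ d))),
    conj_self (cmt (r := 14) (s := 23) (by decide +kernel) u f)]
  have e1 : (xG 19 c : GL chevD4.Idx K) = (xG 19 (((1 : ℤ) : K) * (u * b)))⁻¹ := by
    rw [← xG_neg, hc]; congr 1; push_cast; ring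
  have e2 : (xG 16 (-φ c) : GL chevD4.Idx K) = (xG 16 (((-1 : ℤ) : K) * (u * φ b)))⁻¹ := by
    rw [← xG_neg, hc, map_neg, map_mul, hu]; congr 1; push_cast; ring
  have e3 : (xG 15 (-φ (φ c)) : GL chevD4.Idx K) = (xG 15 (((-1 : ℤ) : K) * (u * φ (φ b))))⁻¹ := by
    rw [← xG_neg, hc, map_neg, map_neg, map_mul, map_mul, hu, hu]; congr 1; push_cast; ring
  rw [e1, e2, e3, three_conj (cmt (by decide +kernel) _ _) (cmt (by decide +kernel) _ _)
    (cmt (by decide +kernel) _ _)]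
  refine mul_mem (mul_mem (mul_mem (mul_mem (mul_mem ?_ ?_) ?_) ?_) (mul_mem ?_ ?_)) ?_
  · exact nrm (by decide +kernel) _ (mem _ _ (by decide))
  · exact nrm (by decide +kernel) _ (nrm (by decide +kernel) _ (mem _ _ (by decide)))
  · exact nrm (by decide +kernel) _ (nrm (by decide +kernel) _ (nrm (by decide +kernel) _ (mem _ _ (by decide))))
  · exact mul_mem (mul_mem (mem _ _ (by decide)) (mem _ _ (by decide))) (mem _ _ (by decide))
  · exact mem _ _ (by decide)
  · exact mem _ _ (by decide)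
  · exact mem _ _ (by decide)

theorem na_conj_l1 {g : GL chevD4.Idx K} (hg : g ∈ RS K lM) : na K * g * (na K)⁻¹ ∈ RS K l1 :=
  na_RS K (by decide +kernel) hg

/-! ### the trace form of `K` over the fixed field -/

theorem exists_eta (h3 : (3 : K) ≠ 0) (hK3 : ∀ t : K, φ (φ (φ t)) = t) {b c : K} (hb : b ≠ 0)
    (hc : ¬ ∃ u, φ u = u ∧ c = -(u * b)) :
    ∃ η : K, η * φ (φ b) + φ η * b + φ (φ η) * φ b = 0 ∧
      η * φ (φ c) + φ η * c + φ (φ η) * φ c ≠ 0 := by
  -- `κ = φ²(c / b)` is not fixed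
  set κ := φ (φ (c / b)) with hκ
  have hκ1 : φ κ ≠ κ := by
    intro h
    apply hc
    refine ⟨-(c / b), ?_, by field_simp⟩
    rw [map_neg]
    congr 1
    have h1 : φ κ = c / b := hK3 _
    rw [← h1, h, h]
  set y := φ (φ κ) - κ with hy
  have hy0 : y ≠ 0 := by
    intro h
    apply hκ1
    have h1 : φ (φ κ) = κ := sub_eq_zero.1 h
    have h2 := congrArg φ h1
    rw [hK3] at h2
    exact h2.symm
  set x := y⁻¹ with hx
  have hφb : φ (φ b) ≠ 0 := by
    intro h
    apply hb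
    rw [← hK3 b, h, map_zero]
  refine ⟨(φ x - x) / φ (φ b), ?_, ?_⟩
  · have e1 : φ ((φ x - x) / φ (φ b)) = (φ (φ x) - φ x) / b := by
      rw [map_div₀, map_sub, hK3]
    have e2 : φ (φ ((φ x - x) / φ (φ b))) = (x - φ (φ x)) / φ b := by
      rw [e1, map_div₀, map_sub, hK3]
    have hb' : φ b ≠ 0 := by
      intro h
      apply hφb
      rw [h, map_zero]
    rw [e2, e1]
    field_simp
    ring
  · have e1 : φ ((φ x - x) / φ (φ b)) = (φ (φ x) - φ x) / b := by
      rw [map_div₀, map_sub, hK3]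
    have e2 : φ (φ ((φ x - x) / φ (φ b))) = (x - φ (φ x)) / φ b := by
      rw [e1, map_div₀, map_sub, hK3]
    have hb' : φ b ≠ 0 := by
      intro h
      apply hφb
      rw [h, map_zero]
    have f1 : φ (φ c) = κ * φ (φ b) := by
      rw [hκ, map_div₀, map_div₀]; field_simp
    have f2 : c = φ κ * b := by
      have h1 : φ κ = c / b := hK3 _
      rw [h1]; field_simp
    have f3 : φ c = φ (φ κ) * φ b := by
      conv_lhs => rw [f2, map_mul]
    rw [e2, e1, f1, f3]
    have f4 : (φ x - x) / φ (φ b) * (κ * φ (φ b)) + (φ (φ x) - φ x) / b * c +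
        (x - φ (φ x)) / φ b * (φ (φ κ) * φ b) =
        (φ x - x) * κ + (φ (φ x) - φ x) * φ κ + (x - φ (φ x)) * φ (φ κ) := by
      rw [f2]
      field_simp
    rw [f4]
    have g0 : x * y = 1 := inv_mul_cancel₀ hy0
    have g1 : x * (φ (φ κ) - κ) = 1 := g0
    have g2 : φ x * (κ - φ κ) = 1 := by
      have := congrArg φ g1
      rwa [map_mul, map_sub, map_one, hK3] at this
    have g3 : φ (φ x) * (φ κ - φ (φ κ)) = 1 := by
      have := congrArg φ g2
      rwa [map_mul, map_sub, map_one] at this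
    have g4 : (φ x - x) * κ + (φ (φ x) - φ x) * φ κ + (x - φ (φ x)) * φ (φ κ) = 3 := by
      linear_combination g1 + g2 + g3
    rw [g4]
    exact h3

end GLevel

/-! ### the matrices -/

section Mat

open Cfsg.Agent.ChevalleyStructure.WordCheck (code colX colSum xMat_entry code_inj code_lt colSum_eq_zero
  colSum_cons colSum_nil)

variable {F : Type*} [Field F]

/-- the coefficient of `t ^ n` at `k` -/
def cf (n k : ℕ) : List (ℕ × ℤ × ℕ) → ℤ
  | [] => 0
  | e :: l => (if e.1 = k ∧ e.2.2 = n then e.2.1 else 0) + cf n k l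

theorem colSum_cf (t : F) (k : ℕ) : ∀ l : List (ℕ × ℤ × ℕ), (∀ e ∈ l, e.2.2 ≤ 2) →
    colSum t k l = (cf 0 k l : F) + t * (cf 1 k l : F) + t ^ 2 * (cf 2 k l : F)
  | [], _ => by simp [cf, colSum_nil]
  | e :: l, h => by
    obtain ⟨a, z, n⟩ := e
    have h1 : n ≤ 2 := h (a, z, n) (by simp)
    rw [colSum_cons, colSum_cf t k l (fun e he => h e (List.mem_cons_of_mem _ he))]
    by_cases ha : a = k
    · have h2 : n = 0 ∨ n = 1 ∨ n = 2 := by omega
      rcases h2 with rfl | rfl | rfl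
      · simp [cf, ha]; ring
      · simp [cf, ha]; ring
      · simp [cf, ha]; ring
    · simp [cf, ha]

theorem exp_le : ∀ j < 28, ∀ e ∈ colX chevD4 9 j, e.2.2 ≤ 2 := by decide +kernel

theorem cf0 : ∀ k < 28, ∀ j < 28, cf 0 k (colX chevD4 9 j) = if k = j then 1 else 0 := by decide +kernel

theorem cf2 : ∀ k < 28, ∀ j < 28, cf 2 k (colX chevD4 9 j) = if k = 13 ∧ j = 18 then -1 else 0 := by
  decide +kernel

/-- the linear part of `x_{-a}` -/
def A9 (F : Type*) [Field F] : Matrix chevD4.Idx chevD4.Idx F :=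
  Matrix.of fun i j => ((cf 1 (code chevD4 i) (colX chevD4 9 (code chevD4 j)) : ℤ) : F)

/-- the coordinate of `e_r` -/
abbrev ix (r : Fin 24) : chevD4.Idx := Sum.inr r

theorem x9_eq (t : F) : chevD4.x F 9 t = 1 + t • A9 F + t ^ 2 • Matrix.single (ix 9) (ix 14) (-1 : F) := by
  have hx : chevD4.x F 9 t = chevD4.xMat F ⟨9, by decide⟩ t := dif_pos (by decide)
  rw [hx]
  ext i j
  have hi : code chevD4 i < 28 := code_lt chevD4 i
  have hj : code chevD4 j < 28 := code_lt chevD4 j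
  rw [xMat_entry, colSum_cf t _ _ (exp_le _ hj), cf0 _ hi _ hj, cf2 _ hi _ hj]
  simp only [Matrix.add_apply, Matrix.smul_apply, smul_eq_mul, A9, Matrix.of_apply]
  have e1 : ((if code chevD4 i = code chevD4 j then (1 : ℤ) else 0 : ℤ) : F) =
      (1 : Matrix chevD4.Idx chevD4.Idx F) i j := by
    rw [Matrix.one_apply]
    by_cases h : i = j
    · rw [if_pos h, if_pos (congrArg _ h), Int.cast_one]
    · rw [if_neg h, if_neg (fun h' => h (code_inj chevD4 h')), Int.cast_zero]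
  have e2 : ((if code chevD4 i = 13 ∧ code chevD4 j = 18 then (-1 : ℤ) else 0 : ℤ) : F) =
      (Matrix.single (ix 9) (ix 14) (-1 : F)) i j := by
    rw [Matrix.single_apply]
    have h9 : code chevD4 (ix 9) = 13 := rfl
    have h14 : code chevD4 (ix 14) = 18 := rfl
    by_cases h : ix 9 = i ∧ ix 14 = j
    · rw [if_pos h, if_pos ⟨by rw [← h.1, h9], by rw [← h.2, h14]⟩, Int.cast_neg, Int.cast_one]
    · rw [if_neg h, if_neg, Int.cast_zero]
      rintro ⟨h1, h2⟩
      exact h ⟨code_inj chevD4 (by rw [h9, h1]), code_inj chevD4 (by rw [h14, h2])⟩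
  rw [e1, e2]

/-- the degree with respect to the short simple root -/
def dg (c : ℕ) : ℤ := if c < 4 then 0 else
  [-3, -3, -2, -2, -1, -1, -2, -1, -1, 0, -1, -1, 1, 1, 0, 1, 1, 2, 1, 1, 2, 2, 3, 3].getD (c - 4) 0

/-- strictly raising matrices -/
def Up (M : Matrix chevD4.Idx chevD4.Idx F) : Prop :=
  ∀ i j, dg (code chevD4 i) ≤ dg (code chevD4 j) → M i j = if i = j then 1 else 0

theorem Up.one : Up (1 : Matrix chevD4.Idx chevD4.Idx F) := fun _ _ _ => Matrix.one_apply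

theorem Up.mul {M N : Matrix chevD4.Idx chevD4.Idx F} (hM : Up M) (hN : Up N) : Up (M * N) := by
  intro i j hij
  rw [Matrix.mul_apply]
  have key : ∀ k, M i k * N k j = if k = i then (if i = j then 1 else 0) else 0 := by
    intro k
    by_cases hk : k = i
    · subst hk
      rw [if_pos rfl, hM k k le_rfl, if_pos rfl, one_mul, hN k j hij]
    · rw [if_neg hk]
      by_cases h1 : dg (code chevD4 i) ≤ dg (code chevD4 k)
      · rw [hM i k h1, if_neg (Ne.symm hk), zero_mul]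
      · have h2 : dg (code chevD4 k) ≤ dg (code chevD4 j) := by omega
        rw [hN k j h2]
        by_cases h3 : k = j
        · subst h3
          exact absurd hij h1
        · rw [if_neg h3, mul_zero]
  rw [Finset.sum_congr rfl (fun k _ => key k), Finset.sum_ite_eq' Finset.univ i, if_pos (Finset.mem_univ _)]

/-- the check that `x_r` raises the degree -/
def upB (r : ℕ) : Bool := (List.range 28).all fun c => match colX chevD4 r c with
  | [] => false
  | e :: rest => (decide (e.1 = c) && decide (e.2.1 = 1) && decide (e.2.2 = 0)) &&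
      rest.all fun e => decide (dg c < dg e.1)

theorem upB_all : ∀ r ∈ l0, upB r = true := by decide +kernel

theorem Up.x {r : ℕ} (hr : upB r = true) (h24 : r < 24) (t : F) : Up (chevD4.x F r t) := by
  intro i j hij
  have hx : chevD4.x F r t = chevD4.xMat F ⟨r, h24⟩ t := dif_pos h24
  rw [hx, xMat_entry]
  show colSum t (code chevD4 i) (colX chevD4 r (code chevD4 j)) = _
  unfold upB at hr
  rw [List.all_eq_true] at hr
  have h2 := hr (code chevD4 j) (List.mem_range.2 (code_lt chevD4 j))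
  generalize colX chevD4 r (code chevD4 j) = L at h2
  rcases L with _ | ⟨⟨a, z, n⟩, rest⟩
  · exact absurd h2 (by simp)
  · simp only [Bool.and_eq_true, decide_eq_true_eq, List.all_eq_true] at h2
    obtain ⟨⟨⟨rfl, rfl⟩, rfl⟩, h3⟩ := h2
    rw [colSum_cons, colSum_eq_zero t (code chevD4 i) rest (by
      intro e he h
      have := h3 e he
      rw [h] at this
      omega), add_zero]
    by_cases hij : i = j
    · subst hij
      simp
    · rw [if_neg hij, if_neg]
      intro h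
      exact hij (code_inj chevD4 h.symm)

theorem Up.of_mem {g : GL chevD4.Idx F} (hg : g ∈ RS F l0) : Up (g : Matrix chevD4.Idx chevD4.Idx F) := by
  have lt24 : ∀ r ∈ l0, r < 24 := by decide
  have key : Up (g : Matrix chevD4.Idx chevD4.Idx F) ∧
      Up ((g⁻¹ : GL chevD4.Idx F) : Matrix chevD4.Idx chevD4.Idx F) := by
    refine Subgroup.closure_induction (p := fun (g : GL chevD4.Idx F) _ =>
      Up (g : Matrix chevD4.Idx chevD4.Idx F) ∧
      Up ((g⁻¹ : GL chevD4.Idx F) : Matrix chevD4.Idx chevD4.Idx F)) ?_ ?_ ?_ ?_ hg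
    · rintro _ ⟨s, hs, t, rfl⟩
      refine ⟨Up.x (upB_all s hs) (lt24 s hs) t, ?_⟩
      rw [← xG_neg]
      exact Up.x (upB_all s hs) (lt24 s hs) (-t)
    · rw [inv_one]
      exact ⟨Up.one, Up.one⟩
    · rintro a b _ _ ⟨ha, ha'⟩ ⟨hb, hb'⟩
      rw [mul_inv_rev]
      exact ⟨ha.mul hb, hb'.mul ha'⟩
    · rintro a _ ⟨ha, ha'⟩
      rw [inv_inv]
      exact ⟨ha', ha⟩
  exact key.1

/-- row `e_a` of `x_a(t)` : nothing outside degree `0` and `-t²` at `e_{-a}` -/
def rowB : Bool := (List.range 28).all fun c => decide (dg c = 0) || (colX chevD4 14 c).all fun e => decide (e.1 ≠ 18)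

theorem rowB_eq : rowB = true := by decide +kernel

theorem x14_row (t : F) {j : chevD4.Idx} (hj : dg (code chevD4 j) ≠ 0) : chevD4.x F 14 t (ix 14) j = 0 := by
  have hx : chevD4.x F 14 t = chevD4.xMat F ⟨14, by decide⟩ t := dif_pos (by decide)
  rw [hx, xMat_entry]
  have h1 := rowB_eq
  unfold rowB at h1
  rw [List.all_eq_true] at h1
  have h2 := h1 (code chevD4 j) (List.mem_range.2 (code_lt chevD4 j))
  rw [Bool.or_eq_true, decide_eq_true_eq, List.all_eq_true] at h2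
  have h3 := h2.resolve_left hj
  refine colSum_eq_zero t _ _ fun e he => ?_
  have h4 : e.1 ≠ 18 := by simpa using h3 e he
  exact h4

theorem x14_entry (t : F) : chevD4.x F 14 t (ix 14) (ix 9) = -t ^ 2 := by
  have hx : chevD4.x F 14 t = chevD4.xMat F ⟨14, by decide⟩ t := dif_pos (by decide)
  rw [hx, xMat_entry]
  show colSum t 18 (colX chevD4 14 13) = _
  have h1 : ∀ e ∈ colX chevD4 14 13, e.2.2 ≤ 2 := by decide +kernel
  have h2 : cf 0 18 (colX chevD4 14 13) = 0 := by decide +kernel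
  have h3 : cf 1 18 (colX chevD4 14 13) = 0 := by decide +kernel
  have h4 : cf 2 18 (colX chevD4 14 13) = -1 := by decide +kernel
  rw [colSum_cf t _ _ h1, h2, h3, h4]
  push_cast
  ring

/-- the entry `(e_a, e_{-a})` of `x_a(r) v` -/
theorem entry {r : F} {v : GL chevD4.Idx F} (hv : v ∈ RS F l0) :
    ((xG 14 r * v : GL chevD4.Idx F) : Matrix chevD4.Idx chevD4.Idx F) (ix 14) (ix 9) = -r ^ 2 := by
  have hU := Up.of_mem hv
  rw [Units.val_mul, coe_xG, Matrix.mul_apply]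
  have key : ∀ k, chevD4.x F 14 r (ix 14) k * (v : Matrix chevD4.Idx chevD4.Idx F) k (ix 9) =
      if k = ix 9 then -r ^ 2 else 0 := by
    intro k
    by_cases hk : dg (code chevD4 k) = 0
    · rw [hU k (ix 9) (by rw [hk]; decide)]
      by_cases h1 : k = ix 9
      · subst h1
        rw [if_pos rfl, if_pos rfl, mul_one, x14_entry]
      · rw [if_neg h1, if_neg h1, mul_zero]
    · rw [x14_row r hk, zero_mul, if_neg]
      rintro rfl
      exact hk (by decide)
  rw [Finset.sum_congr rfl (fun k _ => key k), Finset.sum_ite_eq' Finset.univ, if_pos (Finset.mem_univ _)]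

end Mat

/-! ### the root group datum -/

section Main

variable {K : Type u} [Field K] [Fintype K] {q : ℕ} {φ : K →+* K} (hK : Fintype.card K = q ^ 3)
  (hφ : ∀ x, φ x = x ^ q) {W : Type*} [Group W] [Finite W] (cs : CoxeterSystem CoxeterMatrix.G₂ W)

open Cfsg.Agent.Nodes.RGDTwD4 (isCartan X T n R0 cls0)

/-- roots outside the long node -/
theorem V_l0 : ∀ k < chevD4.nroots, 0 < V chevD4 Nodes.RGDTwD4.J k 1 → k ∈ l0 := by
  decide +kernel

theorem V_l1 : ∀ k < chevD4.nroots, 0 < V chevD4 Nodes.RGDTwD4.J k 0 → k ∈ l1 := by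
  decide +kernel

theorem coe_V0 {g : ↥(twistedD4 K q)} (hg : g ∈ VJ cs isCartan (X φ q) {0}) :
    (g : GL chevD4.Idx K) ∈ RS K l0 := by
  have key : VJ cs isCartan (X φ q) {0} ≤ (RS K l0).subgroupOf (twistedD4 K q) := by
    refine RGD.Sup_le fun z hz => ?_
    obtain ⟨-, h0, k, hk, hk0⟩ := hz
    have hk1 : k = 1 := by
      fin_cases k
      · exact absurd rfl hk
      · rfl
    subst hk1
    intro g hg
    obtain ⟨h1, -⟩ := hg
    refine rspan_mono _ ?_ (by rwa [Nodes.RGDTwD4.xG_eq] at h1)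
    rintro r ⟨hr, hrz⟩
    exact V_l0 r hr (by rw [hrz]; exact hk0)
  exact key hg

theorem coe_V1 {g : ↥(twistedD4 K q)} (hg : g ∈ VJ cs isCartan (X φ q) {1}) :
    (g : GL chevD4.Idx K) ∈ RS K l1 := by
  have key : VJ cs isCartan (X φ q) {1} ≤ (RS K l1).subgroupOf (twistedD4 K q) := by
    refine RGD.Sup_le fun z hz => ?_
    obtain ⟨-, h0, k, hk, hk0⟩ := hz
    have hk1 : k = 0 := by
      fin_cases k
      · rfl
      · exact absurd rfl hk
    subst hk1
    intro g hg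
    obtain ⟨h1, -⟩ := hg
    refine rspan_mono _ ?_ (by rwa [Nodes.RGDTwD4.xG_eq] at h1)
    rintro r ⟨hr, hrz⟩
    exact V_l1 r hr (by rw [hrz]; exact hk0)
  exact key hg

include hK hφ

/-- splitting of `U` -/
theorem U_split (i : Fin 2) {g : ↥(twistedD4 K q)} (hg : g ∈ RGD.Sup (X φ q) (RGD.Pos cs isCartan)) :
    ∃ s ∈ X φ q (sr i), ∃ v ∈ VJ cs isCartan (X φ q) {i}, g = s * v := by
  obtain ⟨p, hp'⟩ := CharP.exists K
  have : Fact p.Prime := ⟨CharP.char_is_prime K p⟩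
  have R := Nodes.RGDTwD4.rgd cs hK hφ p
  refine H798.T5Root.XV_split R (J := {i}) ⟨isRoot_sr cs isCartan i, fun k hk => ?_⟩ ?_
  · exact sr_ne (fun h => hk h)
  · rwa [H798.T5Root.V_eq, ← R.Upos_eq i]

theorem mem_V1_of_coe {g : ↥(twistedD4 K q)} (hg : g ∈ RGD.Sup (X φ q) (RGD.Pos cs isCartan))
    (h : (g : GL chevD4.Idx K) ∈ RS K l1) : g ∈ VJ cs isCartan (X φ q) {1} := by
  obtain ⟨s, hs, v, hv, rfl⟩ := U_split hK hφ cs 1 hg
  have h1 : (s : GL chevD4.Idx K) ∈ RS K l1 := by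
    have h2 := mul_mem h (inv_mem (coe_V1 cs hv))
    rwa [Subgroup.coe_mul, mul_inv_cancel_right] at h2
  have h3 : (s : GL chevD4.Idx K) ∈ RS K [18, 13, 12] ⊓ fix φ := by
    rw [← Nodes.RGDTwD4.R1 φ]
    exact hs
  obtain ⟨t, ht⟩ := RS_outer_fix h3.1 h3.2
  rw [ht] at h1
  have h4 := outer_l1 h1
  have h5 : s = 1 := by
    apply Subtype.ext
    rw [ht, h4]
    unfold D4Fixed.X
    simp only [map_zero, xU_eq, xG_zero, mul_one]
    rfl
  rw [h5, one_mul]
  exact hv

omit [Fintype K] hK hφ in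
/-- `X_{2a+3b}` centralizes `V_0` -/
theorem comm23 {g : GL chevD4.Idx K} (hg : g ∈ RS K l0) (t : K) : xG 23 t * g = g * xG 23 t := by
  have key : RS K l0 ≤ Subgroup.centralizer {(xG 23 t : GL chevD4.Idx K)} := by
    refine rspan_le xG fun s hs u => ?_
    rw [Subgroup.mem_centralizer_singleton_iff]
    have h1 : ∀ s ∈ l0, cmB 23 s = true := by decide +kernel
    exact ((cmt (h1 s hs) t u).eq).symm
  exact ((Subgroup.mem_centralizer_singleton_iff).1 (key hg)).symm

/-- **The special pairs of `³D₄(q)`, own characteristic `p ≥ 5`, product form.** -/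
theorem prod_only {p : ℕ} [Fact p.Prime] [CharP K p] (hp5 : 5 ≤ p) {c d : ↥(twistedD4 K q)}
    (hc : c ∈ RGD.Sup (X φ q) (RGD.Pos cs isCartan)) (hc' : c ∉ VJ cs isCartan (X φ q) {0})
    (hd : ∀ g ∈ PJ cs isCartan (T K q) (X φ q) {0}, g * d * g⁻¹ ∈ RGD.Sup (X φ q) (RGD.Pos cs isCartan) ∧
      g * d * g⁻¹ ∉ VJ cs isCartan (X φ q) {1}) :
    ∃ g : ↥(twistedD4 K q), ∀ k : ℕ, (c * (g * d * g⁻¹)) ^ p ^ k ≠ 1 := by
  have R := Nodes.RGDTwD4.rgd cs hK hφ p
  have hle := D4Fixed.twisted_le_fix (q := q) hK hφ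
  have hK3 : ∀ t : K, φ (φ (φ t)) = t := phi3 hK hφ
  have h3 : (3 : K) ≠ 0 := by
    intro h
    have h7 : ((3 : ℕ) : K) = 0 := by exact_mod_cast h
    rw [CharP.cast_eq_zero_iff K p] at h7
    have := Nat.le_of_dvd (by norm_num) h7
    omega
  have h2 : (2 : K) ≠ 0 := by
    intro h
    have h7 : ((2 : ℕ) : K) = 0 := by exact_mod_cast h
    rw [CharP.cast_eq_zero_iff K p] at h7
    have := Nat.le_of_dvd (by norm_num) h7
    omega
  -- `c = x_a(r) v`
  obtain ⟨s, hs, v, hv, hcs⟩ := U_split hK hφ cs 0 hc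
  have hs1 : (s : GL chevD4.Idx K) ∈ RS K [14] ⊓ fix φ := by
    rw [← R0 φ]
    exact hs
  obtain ⟨r, hr, hsr⟩ := RS_14_fix hs1.1 hs1.2
  have hr0 : r ≠ 0 := by
    rintro rfl
    apply hc'
    have h1 : s = 1 := Subtype.ext (by rw [hsr, xG_zero]; rfl)
    rw [hcs, h1, one_mul]
    exact hv
  have hvl := coe_V0 cs hv
  -- `d ∈ V_0`
  have hd1 := hd 1 (one_mem _)
  rw [one_mul, inv_one, mul_one] at hd1
  have hn0 : n hφ 0 ∈ PJ cs isCartan (T K q) (X φ q) {0} := LJ_le_PJ (Nodes.Bruhat.n_mem_LJ R rfl)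
  have hd0 : d ∈ VJ cs isCartan (X φ q) {0} := by
    refine H798.T5Geo.mem_V_of_conj R (rp_simple cs R.nsys 0) ?_ hd1.1 (RGD.U_le_B (hd _ hn0).1)
    rw [rep_simple_sr]
    exact neg_nonpos.2 (sr_nonneg 0)
  have hdl := coe_V0 cs hd0
  obtain ⟨b, c1, d1, e1, f1, hdE⟩ := mem_l0 hdl (hle d.2)
  have hb : b ≠ 0 := by
    intro hb
    exact hd1.2 (mem_V1_of_coe hK hφ cs hd1.1 (by rw [hdE]; exact elt_mem_l1 hb))
  have hκ : ¬ ∃ u, φ u = u ∧ c1 = -(u * b) := by
    rintro ⟨u, hu, hcu⟩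
    have hx : (⟨xG 14 u, xG14_mem hφ hu⟩ : ↥(twistedD4 K q)) ∈ X φ q (sr 0) := by
      show xG 14 u ∈ Nodes.RGDFold.R chevD4 Nodes.RGDTwD4.hp K Nodes.RGDTwD4.J (sig φ) (sr 0)
      rw [R0 φ]
      exact ⟨mem_rspan xG (S := {k | k ∈ [14]}) (by simp) _, hle (xG14_mem hφ hu)⟩
    have hxP : (⟨xG 14 u, xG14_mem hφ hu⟩ : ↥(twistedD4 K q)) ∈ PJ cs isCartan (T K q) (X φ q) {0} :=
      B_le_PJ (RGD.U_le_B (RGD.le_Sup (S := RGD.Pos cs isCartan) ⟨isRoot_sr cs isCartan 0, sr_nonneg 0⟩ hx))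
    obtain ⟨g1, g2⟩ := hd _ (mul_mem hn0 hxP)
    apply g2
    refine mem_V1_of_coe hK hφ cs g1 ?_
    have h1 := na_conj_l1 (a_conj (φ := φ) (u := u) (b := b) (c := c1) (d := d1) (e := e1) (f := f1) hu hcu)
    have h4 : ((n hφ 0 : ↥(twistedD4 K q)) : GL chevD4.Idx K) = na K := Nodes.RGDTwD4.nI_zero
    rw [Subgroup.coe_mul, Subgroup.coe_mul, Subgroup.coe_inv, Subgroup.coe_mul, h4, hdE]
    have h5 : na K * xG 14 u * elt φ 0 b c1 d1 e1 f1 * (na K * xG 14 u)⁻¹ =
        na K * (xG 14 u * elt φ 0 b c1 d1 e1 f1 * (xG 14 u)⁻¹) * (na K)⁻¹ := by group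
    rw [h5]
    exact h1
  obtain ⟨η, hη1, hη2⟩ := exists_eta h3 hK3 hb hκ
  set t0 : K := -(η * φ (φ c1) + φ η * c1 + φ (φ η) * φ c1) with ht0
  have ht00 : t0 ≠ 0 := neg_ne_zero.2 hη2
  have hymem : yv φ η ∈ twistedD4 K q := by
    rw [yv_eq]
    exact elt_mem hK3 hφ hle (map_zero _) (map_zero _) (map_zero _)
  set y : ↥(twistedD4 K q) := ⟨yv φ η, hymem⟩ with hy
  have hyl : yv φ η ∈ RS K l0 := by
    unfold yv
    exact mul_mem (mul_mem (mem_rspan xG (S := {k | k ∈ l0}) (by decide) _)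
      (mem_rspan xG (S := {k | k ∈ l0}) (by decide) _)) (mem_rspan xG (S := {k | k ∈ l0}) (by decide) _)
  obtain ⟨z, hz⟩ : ∃ z : ↥(twistedD4 K q), z = y * d * y⁻¹ * d⁻¹ := ⟨_, rfl⟩
  have hzc : (z : GL chevD4.Idx K) = xG 23 t0 := by
    rw [hz, Subgroup.coe_mul, Subgroup.coe_mul, Subgroup.coe_mul, Subgroup.coe_inv, Subgroup.coe_inv, hdE]
    show yv φ η * elt φ 0 b c1 d1 e1 f1 * (yv φ η)⁻¹ * (elt φ 0 b c1 d1 e1 f1)⁻¹ = _
    rw [y_conj, hη1, neg_zero, xG_zero, one_mul, mul_inv_cancel_right]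
  have hzd : z * d = d * z := by
    apply Subtype.ext
    rw [Subgroup.coe_mul, Subgroup.coe_mul, hzc]
    exact comm23 hdl t0
  have hzy : z * y = y * z := by
    apply Subtype.ext
    rw [Subgroup.coe_mul, Subgroup.coe_mul, hzc]
    exact comm23 hyl t0
  have hyd : y * d * y⁻¹ = d * z := by
    rw [← hzd, hz]; group
  have hyd2 : (y * y) * d * (y * y)⁻¹ = d * z ^ 2 := by
    have h1 : (y * y) * d * (y * y)⁻¹ = y * (y * d * y⁻¹) * y⁻¹ := by group
    rw [h1, hyd]
    have h4 : y * (d * z) * y⁻¹ = (y * d * y⁻¹) * (y * z * y⁻¹) := by group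
    rw [h4, hyd, ← hzy, mul_inv_cancel_right, pow_two, mul_assoc]
  -- conjugation by `w`
  obtain ⟨w, hw⟩ : ∃ w : ↥(twistedD4 K q), w = n hφ 0 * n hφ 1 * n hφ 0 := ⟨_, rfl⟩
  have hwz : ∃ s, s ≠ 0 ∧ ((w * z * w⁻¹ : ↥(twistedD4 K q)) : GL chevD4.Idx K) = xG 9 s := by
    obtain ⟨u1, hu1⟩ := na_conj (K := K) (s := 23) (by norm_num) t0
    obtain ⟨u2, hu2⟩ := nb_conj (K := K) (s := 22) (by norm_num) u1
    obtain ⟨u3, hu3⟩ := na_conj (K := K) (s := 14) (by norm_num) u2
    have k1 : D4NCheck.rfl' 1 23 = 22 := by decide +kernel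
    have k2 : rb 22 = 14 := by decide +kernel
    have k3 : D4NCheck.rfl' 1 14 = 9 := by decide +kernel
    rw [k1] at hu1
    rw [k2] at hu2
    rw [k3] at hu3
    have h5 : ((w * z * w⁻¹ : ↥(twistedD4 K q)) : GL chevD4.Idx K) = xG 9 u3 := by
      have h4 : ((n hφ 0 : ↥(twistedD4 K q)) : GL chevD4.Idx K) = na K := Nodes.RGDTwD4.nI_zero
      have h4' : ((n hφ 1 : ↥(twistedD4 K q)) : GL chevD4.Idx K) = nb K := Nodes.RGDTwD4.nI_one
      rw [Subgroup.coe_mul, Subgroup.coe_mul, Subgroup.coe_inv, hw, Subgroup.coe_mul, Subgroup.coe_mul, h4, h4',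
        hzc, ← hu3, ← hu2, ← hu1]
      group
    refine ⟨u3, ?_, h5⟩
    rintro rfl
    rw [xG_zero] at h5
    have h6 : w * z * w⁻¹ = 1 := Subtype.ext h5
    have h7 : z = 1 := by
      rw [mul_inv_eq_one] at h6
      exact mul_eq_left.1 h6
    rw [h7] at hzc
    exact ht00 ((D4RGD.xG_eq_one_iff (by norm_num) _).1 hzc.symm)
  obtain ⟨s9, hs9, hwz⟩ := hwz
  let ρ : ↥(twistedD4 K q) →* Matrix chevD4.Idx chevD4.Idx K :=
    (Units.coeHom (Matrix chevD4.Idx chevD4.Idx K)).comp (twistedD4 K q).subtype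
  have hρ : ∀ g : ↥(twistedD4 K q), ρ g = ((g : GL chevD4.Idx K) : Matrix chevD4.Idx chevD4.Idx K) := fun _ => rfl
  obtain ⟨z', hz'⟩ : ∃ z', z' = w * z * w⁻¹ := ⟨_, rfl⟩
  obtain ⟨d', hd'⟩ : ∃ d', d' = w * d * w⁻¹ := ⟨_, rfl⟩
  rw [← hz'] at hwz
  set E : Matrix chevD4.Idx chevD4.Idx K := Matrix.single (ix 9) (ix 14) (-1 : K) with hE
  have r1 : ρ z' = 1 + s9 • A9 K + s9 ^ 2 • E := by
    rw [hρ, hwz, coe_xG, x9_eq]
  have r2 : ρ (z' ^ 2) = 1 + (2 : K) • (s9 • A9 K) + (4 : K) • (s9 ^ 2 • E) := by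
    rw [hρ, Subgroup.coe_pow, hwz, pow_two, ← xG_add, coe_xG, x9_eq, smul_smul, smul_smul]
    congr 2
    · rw [← two_mul]
    · ring
  have hcomm : d' * z' = z' * d' := by
    rw [hd', hz']
    have h1 : w * d * w⁻¹ * (w * z * w⁻¹) = w * (d * z) * w⁻¹ := by group
    have h4 : w * z * w⁻¹ * (w * d * w⁻¹) = w * (z * d) * w⁻¹ := by group
    rw [h1, h4, hzd]
  have hcomm2 : d' * z' ^ 2 = z' ^ 2 * d' := by
    rw [pow_two, ← mul_assoc, hcomm, mul_assoc, hcomm, ← mul_assoc]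
  have hDE : ρ d' * E = E * ρ d' := by
    have g1 := congrArg ρ hcomm
    have g2 := congrArg ρ hcomm2
    rw [map_mul, map_mul, r1] at g1
    rw [map_mul, map_mul, r2] at g2
    have g3 : (2 * s9 ^ 2) • (ρ d' * E - E * ρ d') = 0 := by
      have e1 : ρ d' * (1 + s9 • A9 K + s9 ^ 2 • E) - (1 + s9 • A9 K + s9 ^ 2 • E) * ρ d' = 0 :=
        sub_eq_zero.2 g1
      have e2 : ρ d' * (1 + (2 : K) • (s9 • A9 K) + (4 : K) • (s9 ^ 2 • E)) -
          (1 + (2 : K) • (s9 • A9 K) + (4 : K) • (s9 ^ 2 • E)) * ρ d' = 0 := sub_eq_zero.2 g2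
      have e3 : (2 * s9 ^ 2) • (ρ d' * E - E * ρ d') =
          (ρ d' * (1 + (2 : K) • (s9 • A9 K) + (4 : K) • (s9 ^ 2 • E)) -
          (1 + (2 : K) • (s9 • A9 K) + (4 : K) • (s9 ^ 2 • E)) * ρ d') -
          (2 : K) • (ρ d' * (1 + s9 • A9 K + s9 ^ 2 • E) - (1 + s9 • A9 K + s9 ^ 2 • E) * ρ d') := by
        simp only [mul_add, add_mul, mul_one, one_mul, Matrix.mul_smul, Matrix.smul_mul, smul_sub, smul_add,
          smul_smul]
        module
      rw [e3, e1, e2, smul_zero, sub_zero]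
    have g4 : (2 * s9 ^ 2 : K) ≠ 0 := mul_ne_zero h2 (pow_ne_zero 2 hs9)
    exact sub_eq_zero.1 ((smul_eq_zero.1 g3).resolve_left g4)
  obtain ⟨μ, hμ, hμE⟩ := mul_single_of_comm (neg_ne_zero.2 (one_ne_zero (α := K)))
    (show IsUnit (ρ d') from Units.isUnit _) hDE
  have htr : Matrix.trace (ρ c * (ρ d' * (s9 ^ 2 • E))) ≠ 0 := by
    rw [Matrix.mul_smul, hμE, Matrix.mul_smul, Matrix.mul_smul, Matrix.trace_smul, Matrix.trace_smul,
      Matrix.trace_mul_single, smul_eq_mul, smul_eq_mul]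
    have h4 : ρ c (ix 14) (ix 9) = -r ^ 2 := by
      rw [hρ, hcs, Subgroup.coe_mul, hsr]
      exact entry hvl
    rw [h4]
    exact mul_ne_zero (pow_ne_zero 2 hs9) (mul_ne_zero hμ (by
      simpa using pow_ne_zero 2 hr0))
  have hcj : ∀ g m : ↥(twistedD4 K q), w * g * w⁻¹ * (w * m * w⁻¹) * (w * g * w⁻¹)⁻¹ = w * (g * m * g⁻¹) * w⁻¹ := by
    intro g m; group
  obtain ⟨g, -, hg⟩ := prod_of_trace' (S := ⊤) (c := c) (d := d') ρ (by omega) r1 r2 htr
    ⟨w * y * w⁻¹, Subgroup.mem_top _, by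
      rw [hd', hcj, hyd, hz']; group⟩
    ⟨w * (y * y) * w⁻¹, Subgroup.mem_top _, by
      rw [hd', hcj, hyd2, hz', conj_pow]; group⟩
  refine ⟨g * w, fun k hk => hg k ?_⟩
  rw [← hk, hd']
  congr 2
  group

/-- **The special pairs of `³D₄(q)`, own characteristic `p ≥ 5`.** -/
theorem mpair_only {p : ℕ} [Fact p.Prime] [CharP K p] (hp5 : 5 ≤ p) {c d : ↥(twistedD4 K q)}
    (hc : c ∈ RGD.Sup (X φ q) (RGD.Pos cs isCartan)) (hc' : c ∉ VJ cs isCartan (X φ q) {0})
    (hd : ∀ g ∈ PJ cs isCartan (T K q) (X φ q) {0}, g * d * g⁻¹ ∈ RGD.Sup (X φ q) (RGD.Pos cs isCartan) ∧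
      g * d * g⁻¹ ∉ VJ cs isCartan (X φ q) {1}) :
    MPair p (⊤ : Subgroup ↥(twistedD4 K q)) c d := by
  obtain ⟨g, hg⟩ := prod_only hK hφ cs hp5 hc hc' hd
  exact ⟨g, Subgroup.mem_top _, 1, 1, fun k => by simpa using hg k⟩

end Main

end Cfsg.Agent.H106.MTwD4
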