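import Cfsg.Agent.H798.T5Tw
import Cfsg.Agent.H106.MTwD4
import Cfsg.Agent.H106.MAll
import Cfsg.Agent.H862.T5.E6Pair

/-!
# `²E₆(q)`, `³D₄(q)` in their own characteristic: the middle rows

`ownT` : the family row for `IsTwistedE6D4Char p`, `p ≥ 5`.
-/

set_option autoImplicit false
set_option linter.unusedSectionVars false
set_option maxHeartbeats 400000

universe u

namespace Cfsg.Agent.H106.MOwnTw

open CoxeterSystem Cfsg.Agent.ChevalleyStructure.CoxeterGeom Cfsg.Agent.Tits.Roots Cfsg.Agent.Tits.Core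
  Cfsg.Agent.Nodes.Reps Cfsg.Agent.Nodes.BNOf Cfsg.Agent.Nodes.StabComb Cfsg.Agent.Nodes.LeviDec
open Cfsg.Lie Cfsg.Agent.ChevalleyStructure
open Cfsg.Agent.H533.T5 Cfsg.Agent.H957.T5M Cfsg.Agent.H798.T5Geo Cfsg.Agent.H106.MAll

section D4

open Cfsg.Agent.Nodes.RGDTwD4

variable {K : Type} [Field K] [Fintype K] {p : ℕ} [Fact p.Prime] [CharP K p] {q : ℕ} {φ : K →+* K}
  (hφ : ∀ x, φ x = x ^ q) (hK : Fintype.card K = q ^ 3)

local notation "cG" => CoxeterMatrix.toCoxeterSystem CoxeterMatrix.G₂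

include hφ hK in
/-- the special pairs of `³D₄(q)` -/
theorem mpair_D4 (h5 : 5 ≤ p) {x y : ↥(twistedD4 K q)}
    (hx : NT cG Nodes.RGDTwD4.isCartan (X φ q) x 0)
    (hy : NT cG Nodes.RGDTwD4.isCartan (X φ q) y 1) (hy0 : ¬ NT cG Nodes.RGDTwD4.isCartan (X φ q) y 0) :
    MPair p (⊤ : Subgroup ↥(twistedD4 K q)) x y := by
  have hW : Finite (CoxeterMatrix.G₂).Group := H798.T5Tw.finW_D4
  have R := Cfsg.Agent.Nodes.RGDTwD4.rgd cG hK hφ p
  obtain ⟨g0, hd1, hd2⟩ := hy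
  obtain ⟨g1, hc1, hc2⟩ := hx
  have hV := fun g => mem_V_of_not_NT hy0 g
  have hd3 := hV g0 hd1
  by_cases hex : ∃ g ∈ PJ cG Nodes.RGDTwD4.isCartan (T K q) (X φ q) {0},
      g * (g0 * y * g0⁻¹) * g⁻¹ ∈ VJ cG Nodes.RGDTwD4.isCartan (X φ q) {1}
  · exfalso
    obtain ⟨y', hy1, hy2⟩ := H798.T5Bond.exists_ball_of_mem R hd2 hy0 hex
    refine H798.T5GFour.ball_false_of_G2 R (i := 0) (j := 1)
      ⟨by decide, by decide, by decide, H798.T5Tw.intComm_D4 p hφ hK⟩ (by decide) h5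
      (e := y' * y * y'⁻¹) (fun h1 => hy1 (by rw [h1]; exact one_mem _)) hy2 ?_
    exact fun h1 => hy0 (h1.of_conj y')
  · push Not at hex
    refine MPair.conj_right (s := g0) (Subgroup.mem_top _) (MPair.conj_left (s := g1) (Subgroup.mem_top _) ?_)
    refine MTwD4.mpair_only hK hφ cG h5 hc1 hc2 fun g hg => ⟨?_, hex g hg⟩
    exact VJ_le_U _ ((P_conj_V R hg).2 hd3)

end D4

section Rows

variable (p : ℕ) [Fact p.Prime] (h5 : 5 ≤ p) (K : Type) [Field K] [Fintype K] [CharP K p] {q : ℕ}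

include h5

/-- **`³D₄(q)`, own characteristic.** -/
theorem mrow_3D4 (hq : IsPrimePow q) (hK : Fintype.card K = q ^ 3) : MRow p ↥(twistedD4 K q) := by
  obtain ⟨hs, hna⟩ := Cfsg.Agent.S1071.result hq hK
  obtain ⟨φ, hφ⟩ := D4Fixed.exists_frob hq hK
  exact H798.T5Tw.mrow_D4_of p hφ hK h5 hq hna fun x y _ _ _ _ h1 _ h3 h4 => mpair_D4 hφ hK h5 h1 h3 h4

/-- **`²E₆(q)`, own characteristic.** -/
theorem mrow_2E6 (hq : IsPrimePow q) (hK : Fintype.card K = q ^ 2)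
    (hlt : Below.{u} p (Nat.card ↥(twistedE6 K q))) : MRow p ↥(twistedE6 K q) := by
  obtain ⟨hs, hna⟩ := Cfsg.Agent.S1070.result hq hK
  obtain ⟨φ, hφ, hqq⟩ := TwE6Basic.exists_frob hq hK
  exact H798.T5Tw.mrow_E6_of p hφ hqq h5 hq hK hna fun x y _ _ _ _ h1 _ h3 _ =>
    H862.T5.E6Pair.mpair_of_NT hφ hK CoxeterMatrix.F₄.toCoxeterSystem h5 hlt (i := 0) (j := 1) h1 h3

end Rows

/-- **The own characteristic rows of `²E₆`, `³D₄`.** -/
theorem ownT {p : ℕ} (hp : p.Prime) (h5 : 5 ≤ p) : RowFam.{u} p (fun S _ => IsTwistedE6D4Char p S) := by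
  have hpf : Fact p.Prime := ⟨hp⟩
  intro S _ _ _ hna h hlt
  obtain ⟨K, _, _, _, q, hq, ⟨hK, ⟨e⟩⟩ | ⟨hK, ⟨e⟩⟩⟩ := h
  · refine H897.T5Sub.MRow.congr e.symm (mrow_2E6 p h5 K hq hK ?_)
    rw [← Nat.card_congr e.toEquiv]
    exact hlt
  · exact H897.T5Sub.MRow.congr e.symm (mrow_3D4 p h5 K hq hK)

end Cfsg.Agent.H106.MOwnTw
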