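import Cfsg.Agent.H143.T5SporM
import Cfsg.Agent.H164.FiveMRow
import Cfsg.Agent.H536.T5.MRow
import Cfsg.Agent.H536.T5.SpB
import Cfsg.Agent.H797.T5.HeM
import Cfsg.Agent.H609.T5.MMidFive
import Cfsg.Agent.H609.T5.MMidSeven
import Cfsg.Agent.H131.M11J4
import Cfsg.Agent.H752.MFiveCo
import Cfsg.Agent.H461.T5M.SpA
import Cfsg.Agent.H798.T5Untw

/-!
# The middle rows of the sporadic groups: all of them (only `(M, 13)` as a hypothesis)
-/

set_option autoImplicit false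

universe u

namespace Cfsg.Agent.H106.MSporAll

open Cfsg Cfsg.Agent.H533.T5 Cfsg.Agent.H957.T5M Cfsg.Agent.H106.MB Cfsg.Agent.H106.MT
open Cfsg.Agent.H106.MAll Cfsg.Agent.H143.T5SporM

/-- The rows of the sporadic groups with `p ^ 3 ∣ |S|`. -/
theorem sporBig (hAA : AAHyp.{u} 5) (m13 : R.{u} 13 (fun K _ => Spor.IsoM K)) : SporBigM.{u} where
  hs := fun K _ _ _ _ h _ => H461.T5.MRows.hs K h
  mcl := fun K _ _ _ _ h _ => H461.T5.MRows.mcl K h
  ru := fun K _ _ _ _ h _ => H461.T5.MRows.ru K h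
  co3 := fun K _ _ _ _ h _ => H752.MFiveCo.mrow_co3 K h
  co2 := fun K _ _ _ _ h _ => H752.MFiveCo.mrow_co2 K h
  co1 := fun K _ _ _ _ h _ => H752.MFiveCo.mrow_co1 K h
  ly := fun K _ _ _ _ h _ => by
    have : Fact (Nat.Prime 5) := ⟨by norm_num⟩
    exact H164.FiveMRow.mrow_Ly (H798.T5Untw.mrow_G2 5 le_rfl (ZMod 5)) h
  th := fun K _ _ _ _ h _ => H164.FiveMRow.mrow_Th hAA h
  hn := fun K _ _ _ _ h _ => H536.T5.mrow_hn h
  b := fun K _ _ _ _ h _ => H536.T5.mrow_b h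
  m5 := fun K _ _ _ _ h _ => H609.T5.mrow_m_five h
  m7 := fun K _ _ _ _ h _ => H609.T5.mrow_m_seven h
  m13 := m13
  on := fun K _ _ _ _ h _ => H797.T5.HeM.mrow_on h
  he := fun K _ _ _ _ h _ => H797.T5.HeM.mrow_he h
  fi24 := fun K _ _ _ _ h _ => H797.T5.HeM.mrow_fi24 h
  j4 := fun K _ _ _ hna h _ => H131.M11J4.mrow_j4 K hna h

end Cfsg.Agent.H106.MSporAll
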