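import Cfsg.Agent.H106.LocTransfer
import Cfsg.Agent.H106.InvSub

set_option autoImplicit false

/-!
# Any two non-trivial `p`-elements of `Sym(n)`, `n ≥ 5`, `p` odd, have conjugates forming a good pair
-/

namespace Cfsg.Agent.H106.LocPair

open Equiv Equiv.Perm Cfsg.Agent.H106.CycPrim

theorem exists_cycle_embedding {Ω : Type*} {p : ℕ} (hp : p.Prime) (w : Perm Ω) (m : ℕ)
    (h1 : w ^ (p ^ (m + 1)) = 1) (h2 : w ^ (p ^ m) ≠ 1) :
    ∃ j : ZMod (p ^ (m + 1)) → Ω, Function.Injective j ∧ ∀ k, w (j k) = j (cyc _ k) := by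
  classical
  have hN0 : NeZero (p ^ (m + 1)) := ⟨(pow_pos hp.pos _).ne'⟩
  obtain ⟨y0, hy0⟩ : ∃ y, (w ^ (p ^ m)) y ≠ y := by
    by_contra h
    push Not at h
    exact h2 (Equiv.ext h)
  have hper : Function.minimalPeriod w y0 = p ^ (m + 1) := by
    have h3 : Function.minimalPeriod w y0 ∣ p ^ (m + 1) := by
      apply Function.IsPeriodicPt.minimalPeriod_dvd
      change w^[p ^ (m + 1)] y0 = y0
      rw [iterate_eq_pow, h1]
      rfl
    obtain ⟨k, hk, hk'⟩ := (Nat.dvd_prime_pow hp).1 h3
    rcases Nat.lt_or_ge k (m + 1) with h4 | h4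
    · exfalso
      apply hy0
      apply InvSub.pow_fix_of_le w (Nat.lt_succ_iff.1 h4)
      rw [← hk', ← iterate_eq_pow]
      exact Function.isPeriodicPt_minimalPeriod w y0
    · rw [hk', le_antisymm hk h4]
  refine ⟨fun k => (w ^ k.val) y0, ?_, ?_⟩
  · intro a b hab
    have h3 := Function.iterate_injOn_Iio_minimalPeriod (f := w) (x := y0)
    rw [hper] at h3
    apply ZMod.val_injective
    apply h3
    · exact ZMod.val_lt a
    · exact ZMod.val_lt b
    · simp only [iterate_eq_pow]
      exact hab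
  · intro k
    change w ((w ^ k.val) y0) = (w ^ (cyc _ k).val) y0
    rw [← mul_apply, ← pow_succ', cyc_apply]
    have h3 := Function.iterate_mod_minimalPeriod_eq (f := w) (x := y0) (n := k.val + 1)
    rw [hper, iterate_eq_pow, iterate_eq_pow] at h3
    rw [← h3]
    congr 2
    rw [ZMod.val_add, ZMod.val_one_eq_one_mod, Nat.add_mod_mod]

/-- one 3-cycle and two fixed points -/
theorem embA {Ω : Type*} (u : Perm Ω) (hu3 : ∀ x, u (u (u x)) = x) (x y z : Ω) (hx : u x ≠ x) (hy : u y = y)
    (hz : u z = z) (hyz : y ≠ z) : ∃ i : Fin 5 → Ω, Function.Injective i ∧ ∀ k, u (i k) = i (uA k) := by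
  have h1 : u x ≠ y := fun h => hx (u.injective (by rw [h, hy]))
  have h2 : u x ≠ z := fun h => hx (u.injective (by rw [h, hz]))
  have h3 : x ≠ y := fun h => hx (by rw [h, hy])
  have h4 : x ≠ z := fun h => hx (by rw [h, hz])
  have h5 : u (u x) ≠ y := fun h => h1 (u.injective (by rw [h, hy]))
  have h6 : u (u x) ≠ z := fun h => h2 (u.injective (by rw [h, hz]))
  have h7 : x ≠ u (u x) := fun h => hx (by conv_lhs => rw [h, hu3])
  have h8 : u x ≠ u (u x) := fun h => hx (u.injective h.symm)
  refine ⟨![x, u x, u (u x), y, z], ?_, ?_⟩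
  · intro a b hab
    fin_cases a <;> fin_cases b <;> simp at hab ⊢ <;>
      first
        | exact hx hab | exact h1 hab | exact h2 hab | exact h3 hab | exact h4 hab | exact h5 hab
        | exact h6 hab | exact h7 hab | exact h8 hab | exact hyz hab
        | exact hx hab.symm | exact h1 hab.symm | exact h2 hab.symm | exact h3 hab.symm | exact h4 hab.symm
        | exact h5 hab.symm | exact h6 hab.symm | exact h7 hab.symm | exact h8 hab.symm
        | exact hyz hab.symm
  · intro k
    fin_cases k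
    · rfl
    · rfl
    · exact hu3 x
    · exact hy
    · exact hz

/-- two 3-cycles -/
theorem embB {Ω : Type*} (u : Perm Ω) (hu3 : ∀ x, u (u (u x)) = x) (x y : Ω) (hx : u x ≠ x) (hy : u y ≠ y)
    (h1 : y ≠ x) (h2 : y ≠ u x) (h3 : y ≠ u (u x)) :
    ∃ i : Fin 6 → Ω, Function.Injective i ∧ ∀ k, u (i k) = i (uB k) := by
  have h7 : x ≠ u (u x) := fun h => hx (by conv_lhs => rw [h, hu3])
  have h8 : u x ≠ u (u x) := fun h => hx (u.injective h.symm)
  have h7' : y ≠ u (u y) := fun h => hy (by conv_lhs => rw [h, hu3])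
  have h8' : u y ≠ u (u y) := fun h => hy (u.injective h.symm)
  have h9 : u y ≠ x := fun h => h3 (u.injective (by rw [h, hu3]))
  have h10 : u y ≠ u x := fun h => h1 (u.injective h)
  have h11 : u y ≠ u (u x) := fun h => h2 (u.injective h)
  have h12 : u (u y) ≠ x := fun h => h11 (u.injective (by rw [h, hu3]))
  have h13 : u (u y) ≠ u x := fun h => h9 (u.injective h)
  have h14 : u (u y) ≠ u (u x) := fun h => h10 (u.injective h)
  refine ⟨![x, u x, u (u x), y, u y, u (u y)], ?_, ?_⟩
  · intro a b hab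
    fin_cases a <;> fin_cases b <;> simp at hab ⊢ <;>
      first
        | exact hx hab | exact hy hab | exact h1 hab | exact h2 hab | exact h3 hab
        | exact h7 hab | exact h8 hab | exact h7' hab | exact h8' hab | exact h9 hab | exact h10 hab
        | exact h11 hab | exact h12 hab | exact h13 hab | exact h14 hab
        | exact hx hab.symm | exact hy hab.symm | exact h1 hab.symm | exact h2 hab.symm | exact h3 hab.symm
        | exact h7 hab.symm | exact h8 hab.symm | exact h7' hab.symm | exact h8' hab.symm | exact h9 hab.symm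
        | exact h10 hab.symm | exact h11 hab.symm | exact h12 hab.symm | exact h13 hab.symm
        | exact h14 hab.symm
  · intro k
    fin_cases k
    · rfl
    · rfl
    · exact hu3 x
    · rfl
    · rfl
    · exact hu3 y

/-- one 3-cycle and three fixed points -/
theorem embC {Ω : Type*} (u : Perm Ω) (hu3 : ∀ x, u (u (u x)) = x) (x y z t : Ω) (hx : u x ≠ x) (hy : u y = y)
    (hz : u z = z) (ht : u t = t) (hyz : y ≠ z) (hyt : y ≠ t) (hzt : z ≠ t) :
    ∃ i : Fin 6 → Ω, Function.Injective i ∧ ∀ k, u (i k) = i (wC k) := by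
  have h1 : u x ≠ y := fun h => hx (u.injective (by rw [h, hy]))
  have h2 : u x ≠ z := fun h => hx (u.injective (by rw [h, hz]))
  have h2' : u x ≠ t := fun h => hx (u.injective (by rw [h, ht]))
  have h3 : x ≠ y := fun h => hx (by rw [h, hy])
  have h4 : x ≠ z := fun h => hx (by rw [h, hz])
  have h4' : x ≠ t := fun h => hx (by rw [h, ht])
  have h5 : u (u x) ≠ y := fun h => h1 (u.injective (by rw [h, hy]))
  have h6 : u (u x) ≠ z := fun h => h2 (u.injective (by rw [h, hz]))
  have h6' : u (u x) ≠ t := fun h => h2' (u.injective (by rw [h, ht]))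
  have h7 : x ≠ u (u x) := fun h => hx (by conv_lhs => rw [h, hu3])
  have h8 : u x ≠ u (u x) := fun h => hx (u.injective h.symm)
  refine ⟨![x, u x, u (u x), y, z, t], ?_, ?_⟩
  · intro a b hab
    fin_cases a <;> fin_cases b <;> simp at hab ⊢ <;>
      first
        | exact hx hab | exact h1 hab | exact h2 hab | exact h2' hab | exact h3 hab | exact h4 hab
        | exact h4' hab | exact h5 hab | exact h6' hab
        | exact h6 hab | exact h7 hab | exact h8 hab | exact hyz hab | exact hyt hab | exact hzt hab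
        | exact hx hab.symm | exact h1 hab.symm | exact h2 hab.symm | exact h2' hab.symm | exact h3 hab.symm
        | exact h4 hab.symm | exact h4' hab.symm | exact h6' hab.symm
        | exact h5 hab.symm | exact h6 hab.symm | exact h7 hab.symm | exact h8 hab.symm
        | exact hyz hab.symm | exact hyt hab.symm | exact hzt hab.symm
  · intro k
    fin_cases k
    · rfl
    · rfl
    · exact hu3 x
    · exact hy
    · exact hz
    · exact ht

/-- the symmetric reduction -/
theorem exists_good_symm {Ω : Type*} [Fintype Ω] [DecidableEq Ω] {p : ℕ} {u w : Perm Ω}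
    (h : ∃ g : Perm Ω, sign g = 1 ∧ Good p w (g * u * g⁻¹)) :
    ∃ g : Perm Ω, sign g = 1 ∧ Good p u (g * w * g⁻¹) := by
  obtain ⟨g, hg, h1⟩ := h
  refine ⟨g⁻¹, by rw [Perm.sign_inv, hg], ?_⟩
  have h2 := h1.symm.conj g⁻¹
  have h3 : g⁻¹ * (g * u * g⁻¹) * (g⁻¹)⁻¹ = u := by group
  rwa [h3] at h2

theorem main_three {Ω : Type*} [Fintype Ω] [DecidableEq Ω] (hΩ : 5 ≤ Fintype.card Ω) (u w : Perm Ω)
    (hu1 : u ≠ 1) (hw1 : w ≠ 1) (hu : u ^ 3 = 1) (hw : w ^ 3 = 1) :
    ∃ g : Perm Ω, sign g = 1 ∧ Good 3 u (g * w * g⁻¹) := by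
  classical
  -- reduce to `fix w ≥ 2` or `fix u ≤ 1`
  have key : ∀ u w : Perm Ω, u ≠ 1 → w ≠ 1 → u ^ 3 = 1 → w ^ 3 = 1 →
      ((Finset.univ.filter (fun x => w x = x)).card ≤ 1 → (Finset.univ.filter (fun x => u x = x)).card ≤ 1) →
      ∃ g : Perm Ω, sign g = 1 ∧ Good 3 u (g * w * g⁻¹) := by
    intro u w hu1 hw1 hu hw hcard
    have hu3 : ∀ x, u (u (u x)) = x := by
      intro x
      have := congrFun (congrArg DFunLike.coe hu) x
      rwa [pow_succ, pow_succ, pow_one, mul_apply, mul_apply, one_apply] at this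
    have hw3 : ∀ x, w (w (w x)) = x := by
      intro x
      have := congrFun (congrArg DFunLike.coe hw) x
      rwa [pow_succ, pow_succ, pow_one, mul_apply, mul_apply, one_apply] at this
    obtain ⟨x, hx⟩ : ∃ x, u x ≠ x := by
      by_contra h
      push Not at h
      exact hu1 (Equiv.ext h)
    obtain ⟨x', hx'⟩ : ∃ x, w x ≠ x := by
      by_contra h
      push Not at h
      exact hw1 (Equiv.ext h)
    by_cases hfu : (Finset.univ.filter (fun x => u x = x)).card ≤ 1
    · -- two 3-cycles of `u`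
      obtain ⟨y, hy⟩ : ∃ y, y ∉ (Finset.univ.filter (fun x => u x = x)) ∪ {x, u x, u (u x)} := by
        by_contra h
        push Not at h
        have h1 := Finset.card_le_card (fun z _ => h z : (Finset.univ : Finset Ω) ⊆ _)
        have h2 := Finset.card_union_le (Finset.univ.filter (fun x => u x = x)) {x, u x, u (u x)}
        have h3 : ({x, u x, u (u x)} : Finset Ω).card ≤ 3 := Finset.card_le_three
        rw [Finset.card_univ] at h1
        omega
      simp only [Finset.mem_union, Finset.mem_filter, Finset.mem_univ, true_and, Finset.mem_insert,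
        Finset.mem_singleton, not_or] at hy
      obtain ⟨hy0, hy1, hy2, hy3⟩ := hy
      obtain ⟨i, hi, hui⟩ := embB u hu3 x y hx hy0 hy1 hy2 hy3
      have h6 : 6 ≤ Fintype.card Ω := by
        have := Fintype.card_le_of_injective i hi
        rwa [Fintype.card_fin] at this
      by_cases hB : ∃ y', y' ∉ (Finset.univ.filter (fun x => w x = x)) ∪ {x', w x', w (w x')}
      · obtain ⟨y', hy'⟩ := hB
        simp only [Finset.mem_union, Finset.mem_filter, Finset.mem_univ, true_and, Finset.mem_insert,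
          Finset.mem_singleton, not_or] at hy'
        obtain ⟨hy0', hy1', hy2', hy3'⟩ := hy'
        obtain ⟨j, hj, hwj⟩ := embB w hw3 x' y' hx' hy0' hy1' hy2' hy3'
        exact transfer Nat.prime_three u w i j hi hj uB wB hui hwj tB1 tB2 (by decide) goodB1 goodB2
      · push Not at hB
        have h1 := Finset.card_le_card (fun z _ => hB z : (Finset.univ : Finset Ω) ⊆ _)
        have h2 := Finset.card_union_le (Finset.univ.filter (fun x => w x = x)) {x', w x', w (w x')}
        have h3 : ({x', w x', w (w x')} : Finset Ω).card ≤ 3 := Finset.card_le_three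
        rw [Finset.card_univ] at h1
        have h4 : 2 < (Finset.univ.filter (fun x => w x = x)).card := by omega
        obtain ⟨a, b, c, ha, hb, hc, hab, hac, hbc⟩ := Finset.two_lt_card_iff.1 h4
        simp only [Finset.mem_filter, Finset.mem_univ, true_and] at ha hb hc
        obtain ⟨j, hj, hwj⟩ := embC w hw3 x' a b c hx' ha hb hc hab hac hbc
        exact transfer Nat.prime_three u w i j hi hj uC wC hui hwj tC1 tC2 (by decide) goodC1 goodC2
    · have hfw : ¬ (Finset.univ.filter (fun x => w x = x)).card ≤ 1 := fun h => hfu (hcard h)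
      obtain ⟨a, ha, b, hb, hab⟩ := Finset.one_lt_card.1 (not_le.1 hfu)
      obtain ⟨a', ha', b', hb', hab'⟩ := Finset.one_lt_card.1 (not_le.1 hfw)
      simp only [Finset.mem_filter, Finset.mem_univ, true_and] at ha hb ha' hb'
      obtain ⟨i, hi, hui⟩ := embA u hu3 x a b hx ha hb hab
      obtain ⟨j, hj, hwj⟩ := embA w hw3 x' a' b' hx' ha' hb' hab'
      exact transfer Nat.prime_three u w i j hi hj uA wA hui hwj tA1 tA2 (by decide) goodA1 goodA2
  by_cases h : (Finset.univ.filter (fun x => u x = x)).card ≤ 1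
  · exact key u w hu1 hw1 hu hw (fun _ => h)
  · exact exists_good_symm (key w u hw1 hu1 hw hu (fun h' => absurd h' h))

theorem main_aux {Ω : Type*} [Fintype Ω] [DecidableEq Ω] (hΩ : 5 ≤ Fintype.card Ω) {p : ℕ} (hp : p.Prime)
    (hp3 : 3 ≤ p) (u w : Perm Ω) (hu1 : u ≠ 1) (m : ℕ) (hu : u ^ (p ^ (m + 1)) = 1)
    (hw : w ^ (p ^ (m + 1)) = 1) (hw' : w ^ (p ^ m) ≠ 1) :
    ∃ g : Perm Ω, sign g = 1 ∧ Good p u (g * w * g⁻¹) := by
  have hF : Fact p.Prime := ⟨hp⟩
  have hp2 : p ≠ 2 := by omega
  have hN0 : NeZero (p ^ (m + 1)) := ⟨(pow_pos hp.pos _).ne'⟩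
  obtain ⟨j, hj, hwj⟩ := exists_cycle_embedding hp w m hw hw'
  rcases Nat.eq_zero_or_pos m with rfl | hm
  · rw [pow_zero, pow_one] at hw'
    rcases eq_or_lt_of_le hp3 with h3 | h3
    · subst h3
      rw [zero_add, pow_one] at hu hw
      exact main_three hΩ u w hu1 hw' hu hw
    · have hp5 : 5 ≤ p := by
        rcases Nat.lt_or_ge p 5 with h | h
        · have : p = 4 := by omega
          subst this
          exact absurd hp (by norm_num)
        · exact h
      obtain ⟨i, hi, hui⟩ := exists_cycle_embedding hp u 0 hu (by rwa [pow_zero, pow_one])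
      obtain ⟨t1, t2, hs, h1, h2⟩ := loc_one (p := p) hp5
      exact transfer hp u w i j hi hj _ _ hui hwj t1 t2 hs h1 h2
  · have hcard : p ^ (m + 1) ≤ Fintype.card Ω := by
      have := Fintype.card_le_of_injective j hj
      rwa [ZMod.card] at this
    obtain ⟨i, u0, hi, hui, hu01, hu0⟩ := InvSub.exists_injection hp u hu1 (m + 1) hu hcard
      (ZMod (p ^ (m + 1))) (ZMod.card _)
    obtain ⟨t1, t2, hs, h1, h2⟩ := loc_ge_two (p := p) (b := m + 1) hp2 (by omega) u0 ⟨m + 1, hu0⟩ hu01
    exact transfer hp u w i j hi hj _ _ hui hwj t1 t2 hs h1 h2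

theorem main {Ω : Type*} [Fintype Ω] [DecidableEq Ω] (hΩ : 5 ≤ Fintype.card Ω) {p : ℕ} (hp : p.Prime)
    (hp3 : 3 ≤ p) (u w : Perm Ω) (hu1 : u ≠ 1) (hw1 : w ≠ 1) (hu : ∃ k : ℕ, orderOf u = p ^ k)
    (hw : ∃ k : ℕ, orderOf w = p ^ k) : ∃ g : Perm Ω, sign g = 1 ∧ Good p u (g * w * g⁻¹) := by
  obtain ⟨a, ha⟩ := hu
  obtain ⟨b, hb⟩ := hw
  -- the ordered case
  have key : ∀ (u w : Perm Ω) (a b : ℕ), u ≠ 1 → w ≠ 1 → orderOf u = p ^ a → orderOf w = p ^ b → a ≤ b →
      ∃ g : Perm Ω, sign g = 1 ∧ Good p u (g * w * g⁻¹) := by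
    intro u w a b hu1 hw1 ha hb hab
    obtain ⟨m, rfl⟩ : ∃ m, b = m + 1 := by
      cases b with
      | zero =>
        rw [pow_zero, orderOf_eq_one_iff] at hb
        exact absurd hb hw1
      | succ m => exact ⟨m, rfl⟩
    refine main_aux hΩ hp hp3 u w hu1 m ?_ ?_ ?_
    · rw [← orderOf_dvd_iff_pow_eq_one, ha]
      exact pow_dvd_pow p hab
    · rw [← orderOf_dvd_iff_pow_eq_one, hb]
    · rw [Ne, ← orderOf_dvd_iff_pow_eq_one, hb, Nat.pow_dvd_pow_iff_le_right hp.one_lt]
      omega
  rcases le_total a b with hab | hab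
  · exact key u w a b hu1 hw1 ha hb hab
  · exact exists_good_symm (key w u b a hw1 hu1 hb ha hab)

end Cfsg.Agent.H106.LocPair
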