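import Cfsg.Agent.H106.MBase
import Cfsg.Agent.H313.AltTrans
import Cfsg.Agent.S2276

/-!
# The middle row for the alternating groups
-/

set_option autoImplicit false

namespace Cfsg.Agent.H106.MRowAlt

open Cfsg.Agent.H533.T5 Cfsg.Agent.H957.T5M Cfsg.Agent.H106.MB

theorem inner_of_odd {n : ℕ} (hn : 6 ≤ n) {p : ℕ} (hp : p.Prime) (h3 : p ≠ 2)
    (a : MulAut (alternatingGroup (Fin n))) (ha : orderOf a = p) :
    a ∈ (MulAut.conj : alternatingGroup (Fin n) →* MulAut (alternatingGroup (Fin n))).range := by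
  obtain ⟨k, hk⟩ := Cfsg.Agent.H313.AltTrans.out_alt hn a
  have hcop : Nat.Coprime p (2 ^ k) :=
    Nat.Coprime.pow_right _ ((Nat.coprime_primes hp Nat.prime_two).2 h3)
  have h1 : (Int.gcd (p : ℤ) ((2 ^ k : ℕ) : ℤ) : ℤ) = 1 := by
    have : Int.gcd (p : ℤ) ((2 ^ k : ℕ) : ℤ) = Nat.gcd p (2 ^ k) := Int.gcd_natCast_natCast _ _
    rw [this, hcop]
    rfl
  have h2 := Int.gcd_eq_gcd_ab (p : ℤ) ((2 ^ k : ℕ) : ℤ)
  rw [h1] at h2
  have h4 : a = (a ^ p) ^ (Int.gcdA (p : ℤ) ((2 ^ k : ℕ) : ℤ)) *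
      (a ^ 2 ^ k) ^ (Int.gcdB (p : ℤ) ((2 ^ k : ℕ) : ℤ)) := by
    rw [← zpow_natCast, ← zpow_natCast, ← zpow_mul, ← zpow_mul, ← zpow_add, ← h2, zpow_one]
  have h5 : a ^ p = 1 := by rw [← ha]; exact pow_orderOf_eq_one a
  rw [h5, one_zpow, one_mul] at h4
  rw [h4]
  exact Subgroup.zpow_mem _ hk _

/-- Alternating groups of degree at least six. -/
theorem mrow_alt {n : ℕ} (hn : 6 ≤ n) {p : ℕ} (hp : p.Prime) (h5 : 5 ≤ p)
    {S : Type*} [Group S] (e : S ≃* alternatingGroup (Fin n)) : MRow p S := by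
  refine MRow.congr e ?_
  have hcard : 5 ≤ Nat.card (Fin n) := by simp; omega
  have : IsSimpleGroup (alternatingGroup (Fin n)) := alternatingGroup.isSimpleGroup hcard
  have hna : ¬ IsMulCommutative (alternatingGroup (Fin n)) := by
    intro h
    have h1 : Subgroup.center (alternatingGroup (Fin n)) = ⊤ := by
      rw [eq_top_iff]
      intro x _
      rw [Subgroup.mem_center_iff]
      intro y
      exact mul_comm' y x
    have h2 : Subgroup.center (alternatingGroup (Fin n)) = ⊥ :=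
      alternatingGroup.center_eq_bot (by simp; omega)
    rw [h1] at h2
    have : Nontrivial (alternatingGroup (Fin n)) := inferInstance
    exact top_ne_bot h2
  refine MRow.of_inner hna (inner_of_odd hn hp (by omega)) ?_
  intro x y hx hy
  have hx1 : x ≠ 1 := by
    rintro rfl
    rw [orderOf_one] at hx
    omega
  have hy1 : y ≠ 1 := by
    rintro rfl
    rw [orderOf_one] at hy
    omega
  obtain ⟨g, hg, -⟩ := Cfsg.Agent.S2276.result n (by omega) p hp (by omega) x y hx1 hy1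
    ⟨1, by rw [hx, pow_one]⟩ ⟨1, by rw [hy, pow_one]⟩
  refine ⟨g, Subgroup.mem_top _, 1, 1, fun k hk => hg ?_⟩
  rw [pow_one, pow_one] at hk
  obtain ⟨i, -, hi⟩ := (Nat.dvd_prime_pow hp).1 (orderOf_dvd_of_pow_eq_one hk)
  exact ⟨i, hi⟩

end Cfsg.Agent.H106.MRowAlt
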