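import Mathlib
import Cfsg.Agent.H957.T5M

/-!
# The trace argument for the middle pairs

`prod_of_trace` : if `z ^ j = 1 + j A + j² B`, `tr (c d B) ≠ 0` and all `d z ^ j` are
conjugate to `d`, then some `c * d ^ g` is not a `p`-element.
-/

set_option autoImplicit false

namespace Cfsg.Agent.H106.MTrace

open Cfsg.Agent.H957.T5M

variable {ι : Type*} [Fintype ι] [DecidableEq ι] {K : Type*} [Field K] {p : ℕ} [hp : Fact p.Prime]
  [CharP K p]

/-- The trace of a `p`-element in characteristic `p`. -/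
theorem trace_of_pow {M : Matrix ι ι K} {k : ℕ} (h : M ^ p ^ k = 1) :
    Matrix.trace M = Fintype.card ι := by
  have h1 : (M - 1) ^ p ^ k = 0 := by
    by_cases hι : Nonempty ι
    · have : CharP (Matrix ι ι K) p := Matrix.charP p
      have h2 := sub_pow_char_pow_of_commute (R := Matrix ι ι K) (p := p) (n := k)
        (Commute.one_right M)
      rw [h2, h, one_pow, sub_self]
    · have : IsEmpty ι := not_nonempty_iff.1 hι
      exact Subsingleton.elim _ _
  have h2 : IsNilpotent (M - 1) := ⟨_, h1⟩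
  have h3 := (Matrix.isNilpotent_trace_of_isNilpotent h2).eq_zero
  rw [Matrix.trace_sub, Matrix.trace_one, sub_eq_zero] at h3
  exact h3

/-- **The trace argument.** -/
theorem prod_of_trace' {G : Type*} [Group G] (ρ : G →* Matrix ι ι K) (hp3 : 3 ≤ p) {S : Subgroup G}
    {c d z : G} {A B : Matrix ι ι K} (h1 : ρ z = 1 + A + B)
    (h2 : ρ (z ^ 2) = 1 + (2 : K) • A + (4 : K) • B)
    (hcB : Matrix.trace (ρ c * (ρ d * B)) ≠ 0) (hc1 : ∃ g ∈ S, g * d * g⁻¹ = d * z)
    (hc2 : ∃ g ∈ S, g * d * g⁻¹ = d * z ^ 2) :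
    ∃ g ∈ S, ∀ k : ℕ, (c * (g * d * g⁻¹)) ^ p ^ k ≠ 1 := by
  by_contra hcon
  push Not at hcon
  have key : ∀ g ∈ S, Matrix.trace (ρ c * ρ (g * d * g⁻¹)) = Fintype.card ι := by
    intro g hg
    obtain ⟨k, hk⟩ := hcon g hg
    have h3 := congrArg ρ hk
    rw [map_pow, map_one, map_mul] at h3
    exact trace_of_pow h3
  have k0 := key 1 (one_mem _)
  rw [one_mul, inv_one, mul_one] at k0
  obtain ⟨g1, hg1, e1⟩ := hc1
  have k1 := key g1 hg1
  obtain ⟨g2, hg2, e2⟩ := hc2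
  have k2 := key g2 hg2
  rw [e1, map_mul, h1, mul_add, mul_add, mul_add, mul_add, mul_one, Matrix.trace_add,
    Matrix.trace_add, k0] at k1
  rw [e2, map_mul, h2, mul_add, mul_add, mul_add, mul_add, mul_one, Matrix.mul_smul (ρ d),
    Matrix.mul_smul (ρ d), Matrix.mul_smul, Matrix.mul_smul, Matrix.trace_add,
    Matrix.trace_add, Matrix.trace_smul, Matrix.trace_smul, k0, smul_eq_mul, smul_eq_mul] at k2
  apply hcB
  have h5 : (2 : K) ≠ 0 := by
    intro h6
    have h7 : ((2 : ℕ) : K) = 0 := by exact_mod_cast h6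
    rw [CharP.cast_eq_zero_iff K p] at h7
    have := Nat.le_of_dvd (by norm_num) h7
    omega
  have h6 : (2 : K) * Matrix.trace (ρ c * (ρ d * B)) = 0 := by linear_combination k2 - 2 * k1
  exact (mul_eq_zero.1 h6).resolve_left h5

theorem prod_of_trace {G : Type*} [Group G] (ρ : G →* Matrix ι ι K) (hp3 : 3 ≤ p) {S : Subgroup G}
    {c d z : G} {A B : Matrix ι ι K} (h1 : ρ z = 1 + A + B)
    (h2 : ρ (z ^ 2) = 1 + (2 : K) • A + (4 : K) • B) (hdB : ρ d * B = B)
    (hcB : Matrix.trace (ρ c * B) ≠ 0) (hc1 : ∃ g ∈ S, g * d * g⁻¹ = d * z)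
    (hc2 : ∃ g ∈ S, g * d * g⁻¹ = d * z ^ 2) :
    ∃ g ∈ S, ∀ k : ℕ, (c * (g * d * g⁻¹)) ^ p ^ k ≠ 1 :=
  prod_of_trace' ρ hp3 h1 h2 (by rwa [hdB]) hc1 hc2

theorem mpair_of_trace {G : Type*} [Group G] (ρ : G →* Matrix ι ι K) (hp3 : 3 ≤ p) {S : Subgroup G}
    {c d z : G} {A B : Matrix ι ι K} (h1 : ρ z = 1 + A + B)
    (h2 : ρ (z ^ 2) = 1 + (2 : K) • A + (4 : K) • B) (hdB : ρ d * B = B)
    (hcB : Matrix.trace (ρ c * B) ≠ 0) (hc1 : ∃ g ∈ S, g * d * g⁻¹ = d * z)
    (hc2 : ∃ g ∈ S, g * d * g⁻¹ = d * z ^ 2) : MPair p S c d := by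
  obtain ⟨g, hg, h⟩ := prod_of_trace ρ hp3 h1 h2 hdB hcB hc1 hc2
  exact ⟨g, hg, 1, 1, fun k => by simpa using h k⟩

/-- A matrix commuting with a matrix unit. -/
theorem mul_single_of_comm {D : Matrix ι ι K} {i j : ι} {a : K} (ha : a ≠ 0) (hD : IsUnit D)
    (h : D * Matrix.single i j a = Matrix.single i j a * D) :
    ∃ μ : K, μ ≠ 0 ∧ D * Matrix.single i j a = μ • Matrix.single i j a := by
  have h0 : ∀ k, k ≠ i → D k i = 0 := by
    intro k hk
    have h1 := congrFun (congrFun h k) j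
    rw [Matrix.mul_single_apply_same, Matrix.single_mul_apply_of_ne _ _ _ _ _ (Ne.symm hk.symm)] at h1
    exact (mul_eq_zero.1 h1).resolve_right ha
  refine ⟨D i i, ?_, ?_⟩
  · intro h1
    rw [Matrix.isUnit_iff_isUnit_det, isUnit_iff_ne_zero] at hD
    apply hD
    apply Matrix.det_eq_zero_of_column_eq_zero i
    intro k
    by_cases hk : k = i
    · rw [hk, h1]
    · exact h0 k hk
  · ext k l
    rw [Matrix.smul_apply, smul_eq_mul]
    by_cases hl : l = j
    · subst hl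
      rw [Matrix.mul_single_apply_same]
      by_cases hk : k = i
      · subst hk
        rw [Matrix.single_apply_same]
      · rw [h0 k hk, zero_mul, Matrix.single_apply_of_row_ne (Ne.symm hk), mul_zero]
    · rw [Matrix.mul_single_apply_of_ne _ _ _ _ _ hl, Matrix.single_apply_of_col_ne _ _ (Ne.symm hl),
        mul_zero]

end Cfsg.Agent.H106.MTrace
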