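import Mathlib
import Cfsg.Agent.S0547
import Cfsg.Agent.S0548
import Cfsg.Agent.Lib.SubnormalJoin

set_option autoImplicit false

/-!
# Solvable primitive groups of degree `p ^ b` (`p` odd, `b ≥ 2`) contain no full cycle
-/

namespace Cfsg.Agent.H106.RegPrim

open Polynomial

/-- geometric sums in characteristic `p` -/
theorem geom_char {p : ℕ} [hp : Fact p.Prime] (s : ℕ) :
    ∑ i ∈ Finset.range (p ^ s), (X : (ZMod p)[X]) ^ i = (X - 1) ^ (p ^ s - 1) := by
  have h1 : ((X : (ZMod p)[X]) - 1) * ∑ i ∈ Finset.range (p ^ s), (X : (ZMod p)[X]) ^ i = X ^ (p ^ s) - 1 :=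
    mul_geom_sum X (p ^ s)
  have h2 : ((X : (ZMod p)[X]) - 1) ^ (p ^ s) = X ^ (p ^ s) - 1 := by
    rw [sub_pow_char_pow, one_pow]
  have hpos : 0 < p ^ s := pow_pos hp.out.pos s
  have h3 : ((X : (ZMod p)[X]) - 1) ^ (p ^ s) = (X - 1) * (X - 1) ^ (p ^ s - 1) := by
    rw [← pow_succ', Nat.sub_add_cancel hpos]
  have hne : ((X : (ZMod p)[X]) - 1) ≠ 0 := X_sub_C_ne_zero (1 : ZMod p)
  apply mul_left_cancel₀ hne
  rw [h1, ← h2, h3]

/-- A linear map of order a power of `p` in dimension `b` over `ZMod p`. -/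
theorem unipotent {p : ℕ} [hp : Fact p.Prime] {A : Type*} [AddCommGroup A] [Module (ZMod p) A]
    [Module.Finite (ZMod p) A] (T : Module.End (ZMod p) A) {s : ℕ} (hT : T ^ (p ^ s) = 1) {m : ℕ}
    (hm : Module.finrank (ZMod p) A ≤ m) : (T - 1) ^ m = 0 := by
  have h1 : (T - 1) ^ (p ^ s) = 0 := by
    have h2 : (aeval T) (((X : (ZMod p)[X]) - 1) ^ (p ^ s)) = (aeval T) ((X : (ZMod p)[X]) ^ (p ^ s) - 1) := by
      rw [sub_pow_char_pow, one_pow]
    simpa [hT] using h2
  have h3 : IsNilpotent (T - 1) := ⟨_, h1⟩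
  have h4 := LinearMap.aeval_self_charpoly (T - 1)
  rw [_root_.IsNilpotent.charpoly_eq_X_pow_finrank h3, map_pow, aeval_X] at h4
  exact pow_eq_zero_of_le hm h4

theorem le_pow {p b : ℕ} (hp : 3 ≤ p) (hb : 2 ≤ b) : b + 1 ≤ p ^ (b - 1) := by
  have h3 : ∀ n : ℕ, n + 3 ≤ 3 ^ (n + 1) := by
    intro n
    induction n with
    | zero => norm_num
    | succ n ih => rw [pow_succ]; omega
  have h4 := h3 (b - 2)
  have h5 : 3 ^ (b - 2 + 1) ≤ p ^ (b - 2 + 1) := Nat.pow_le_pow_left hp _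
  have h6 : b - 2 + 1 = b - 1 := by omega
  rw [h6] at h4 h5
  omega

theorem end_form {p b : ℕ} [hp : Fact p.Prime] (hp2 : p ≠ 2) (hb : 2 ≤ b)
    {A : Type*} [AddCommGroup A] [Module (ZMod p) A]
    [Module.Finite (ZMod p) A] (hr : Module.finrank (ZMod p) A = b) (T : Module.End (ZMod p) A)
    (hT : T ^ (p ^ b) = 1) :
    T ^ (p ^ (b - 1)) = 1 ∧ ∑ i ∈ Finset.range (p ^ (b - 1)), T ^ i = 0 := by
  have hp3 : 3 ≤ p := by
    have := hp.out.two_le
    omega
  have hle := le_pow hp3 hb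
  constructor
  · have h2 : (aeval T) (((X : (ZMod p)[X]) - 1) ^ (p ^ (b - 1))) =
        (aeval T) ((X : (ZMod p)[X]) ^ (p ^ (b - 1)) - 1) := by
      rw [sub_pow_char_pow, one_pow]
    have h3 := unipotent T hT (m := p ^ (b - 1)) (by rw [hr]; omega)
    rw [map_pow, map_sub, aeval_X, map_one, h3, map_sub, map_pow, aeval_X, map_one] at h2
    exact (sub_eq_zero.1 h2.symm)
  · have h1 := congrArg (aeval T) (geom_char (p := p) (b - 1))
    rw [map_sum, map_pow, map_sub, aeval_X, map_one,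
      unipotent T hT (m := p ^ (b - 1) - 1) (by rw [hr]; omega)] at h1
    rw [← h1]
    refine Finset.sum_congr rfl fun i _ => ?_
    rw [map_pow, aeval_X]

theorem addAut_form' {p b : ℕ} [hp : Fact p.Prime] (hp2 : p ≠ 2) (hb : 2 ≤ b)
    {A : Type*} [AddCommGroup A] [iM : Module (ZMod p) A] [Finite A] (hcard : Nat.card A = p ^ b)
    (f : ℕ → A →+ A) (hf0 : f 0 = AddMonoidHom.id A) (hfs : ∀ n, f (n + 1) = (f n).comp (f 1))
    (hf : f (p ^ b) = AddMonoidHom.id A) :
    f (p ^ (b - 1)) = AddMonoidHom.id A ∧ ∀ v : A, ∑ i ∈ Finset.range (p ^ (b - 1)), f i v = 0 := by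
  have hfr : Module.finrank (ZMod p) A = b := by
    have h1 := Module.natCard_eq_pow_finrank (K := ZMod p) (V := A)
    rw [Nat.card_zmod, hcard] at h1
    exact (Nat.pow_right_injective hp.out.two_le h1).symm
  let T : Module.End (ZMod p) A := (f 1).toZModLinearMap p
  have hT : ∀ n x, (T ^ n) x = f n x := by
    intro n
    induction n with
    | zero =>
      intro x
      rw [pow_zero, hf0]
      rfl
    | succ n ih =>
      intro x
      rw [pow_succ, Module.End.mul_apply, ih, hfs]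
      rfl
  obtain ⟨h1, h2⟩ := end_form hp2 hb hfr T (LinearMap.ext fun x => by rw [hT, hf]; rfl)
  constructor
  · ext x
    rw [← hT, h1]
    rfl
  · intro v
    have h3 := congrArg (fun g : Module.End (ZMod p) A => g v) h2
    simp only [LinearMap.sum_apply, hT] at h3
    exact h3

theorem addAut_form {p b : ℕ} [hp : Fact p.Prime] (hp2 : p ≠ 2) (hb : 2 ≤ b)
    {A : Type*} [AddCommGroup A] [Finite A] (hcard : Nat.card A = p ^ b) (hV : ∀ v : A, p • v = 0)
    (f : ℕ → A →+ A) (hf0 : f 0 = AddMonoidHom.id A) (hfs : ∀ n, f (n + 1) = (f n).comp (f 1))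
    (hf : f (p ^ b) = AddMonoidHom.id A) :
    f (p ^ (b - 1)) = AddMonoidHom.id A ∧ ∀ v : A, ∑ i ∈ Finset.range (p ^ (b - 1)), f i v = 0 :=
  addAut_form' (iM := AddCommGroup.zmodModule hV) hp2 hb hcard f hf0 hfs hf

theorem mulAut_form {p b : ℕ} [hp : Fact p.Prime] (hp2 : p ≠ 2) (hb : 2 ≤ b)
    {V : Type*} [CommGroup V] [Finite V] (hcard : Nat.card V = p ^ b) (hV : ∀ v : V, v ^ p = 1)
    (f : MulAut V) (hf : f ^ (p ^ b) = 1) :
    f ^ (p ^ (b - 1)) = 1 ∧ ∀ v : V, ∏ i ∈ Finset.range (p ^ (b - 1)), (f ^ i) v = 1 := by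
  have h := addAut_form (A := Additive V) hp2 hb hcard (fun v => hV v.toMul)
    (fun n => MonoidHom.toAdditive (f ^ n).toMonoidHom) rfl (fun n => by
      refine AddMonoidHom.ext fun x => ?_
      change Additive.ofMul ((f ^ (n + 1)) x.toMul) = Additive.ofMul ((f ^ n) ((f ^ 1) x.toMul))
      rw [pow_succ, pow_one]
      rfl) (by
      refine AddMonoidHom.ext fun x => ?_
      change Additive.ofMul ((f ^ (p ^ b)) x.toMul) = x
      rw [hf]
      rfl)
  constructor
  · ext v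
    exact congrArg (fun g : Additive V →+ Additive V => (g (Additive.ofMul v)).toMul) h.1
  · intro v
    exact h.2 (Additive.ofMul v)

/-- the group form -/
theorem pow_eq_one {G : Type*} [Group G] [Finite G] {p b : ℕ} [hp : Fact p.Prime] (hp2 : p ≠ 2)
    (hb : 2 ≤ b) (M : Subgroup G) [M.Normal] (hMc : ∀ x ∈ M, ∀ y ∈ M, x * y = y * x)
    (hMp : ∀ x ∈ M, x ^ p = 1) (hcard : Nat.card M = p ^ b) (w m h : G) (hm : m ∈ M)
    (hw : w = m * h) (hwp : w ^ (p ^ b) = 1)
    (hf : ∀ k : ℕ, (∀ x ∈ M, h ^ k * x = x * h ^ k) → h ^ k = 1) : w ^ (p ^ (b - 1)) = 1 := by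
  classical
  let iC : CommGroup M :=
    { (inferInstance : Group M) with
      mul_comm := fun x y => Subtype.ext (hMc x x.2 y y.2) }
  let c : G →* MulAut M := MulAut.conjNormal
  have hcm : c m = 1 := by
    ext x
    change m * (x : G) * m⁻¹ = x
    rw [hMc m hm _ x.2, mul_inv_cancel_right]
  have hcw : c w = c h := by rw [hw, map_mul, hcm, one_mul]
  obtain ⟨h1, h2⟩ := mulAut_form hp2 hb hcard (fun v => Subtype.ext (by simpa using hMp v v.2)) (c h)
    (by rw [← hcw, ← map_pow, hwp, map_one])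
  have hhk : h ^ (p ^ (b - 1)) = 1 := by
    apply hf
    intro x hx
    have h3 : c (h ^ (p ^ (b - 1))) ⟨x, hx⟩ = ⟨x, hx⟩ := by
      rw [map_pow, h1]
      rfl
    have h4 : h ^ (p ^ (b - 1)) * x * (h ^ (p ^ (b - 1)))⁻¹ = x := congrArg Subtype.val h3
    exact mul_inv_eq_iff_eq_mul.1 h4
  have hpow : ∀ k : ℕ, w ^ k = ((∏ i ∈ Finset.range k, ((c h) ^ i) ⟨m, hm⟩ : M) : G) * h ^ k := by
    intro k
    induction k with
    | zero => simp
    | succ k ih =>
      have h3 : (((c h ^ k) ⟨m, hm⟩ : M) : G) = h ^ k * m * (h ^ k)⁻¹ := by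
        rw [← map_pow]
        rfl
      rw [pow_succ, ih, Finset.prod_range_succ]
      change _ = ((∏ i ∈ Finset.range k, ((c h) ^ i) ⟨m, hm⟩ : M) : G) * (((c h ^ k) ⟨m, hm⟩ : M) : G) * _
      rw [h3, hw, pow_succ]
      group
  rw [hpow, hhk, mul_one, h2]
  rfl

/-- A solvable primitive group of degree `p ^ b`, `p` odd and `b ≥ 2`, contains no element which is
transitive. -/
theorem false_of_solvable {G : Type*} [Group G] [Finite G] [Group.IsSolvable G] {Ω : Type*}
    [MulAction G Ω] [FaithfulSMul G Ω] (hprim : MulAction.IsPreprimitive G Ω) {p b : ℕ}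
    [hp : Fact p.Prime] (hp2 : p ≠ 2) (hb : 2 ≤ b) (hcard : Nat.card Ω = p ^ b) (w : G)
    (hw : ∀ x y : Ω, ∃ k : ℕ, w ^ k • x = y) : False := by
  classical
  have hpos : 0 < p ^ b := pow_pos hp.out.pos b
  have hfinΩ : Finite Ω := Nat.finite_of_card_ne_zero (by omega)
  have hne : Nonempty Ω := by
    rw [← not_isEmpty_iff]
    intro h
    rw [Nat.card_of_isEmpty] at hcard
    omega
  obtain ⟨ω⟩ := hne
  have hle := le_pow (p := p) (by have := hp.out.two_le; omega) hb
  have hlt : p ^ (b - 1) < p ^ b := Nat.pow_lt_pow_right hp.out.one_lt (by omega)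
  have hnt : Nontrivial Ω := by
    rw [← Finite.one_lt_card_iff_nontrivial, hcard]
    omega
  have hntG : Nontrivial G := by
    by_contra h
    rw [not_nontrivial_iff_subsingleton] at h
    obtain ⟨x, y, hxy⟩ := hnt
    obtain ⟨k, hk⟩ := hw x y
    apply hxy
    rw [← hk, Subsingleton.elim (w ^ k) 1, one_smul]
  obtain ⟨M, hMn, hM, hmin⟩ := Cfsg.Agent.Lib.SubnormalJoin.exists_minimal_normal G
  have hcomm := Cfsg.Agent.SolvableStructure.MinimalNormal.comm_of_minimal_normal M hM hmin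
  obtain ⟨r, d, hr, hd, hMcard, hMr⟩ :=
    Cfsg.Agent.SolvableStructure.MinimalNormal.exists_prime_of_minimal_normal M hM hmin
  obtain ⟨htr, hst, -⟩ := Cfsg.Agent.S0547.result hprim M hM hmin
  obtain ⟨hcompl, hcent, -⟩ := Cfsg.Agent.S0548.result hprim M hM hmin ω
  have hcΩ : Nat.card Ω = Nat.card M := by
    have hinj : Function.Bijective (fun m : M => m • ω) := by
      constructor
      · intro x y hxy
        have h1 : x⁻¹ * y ∈ MulAction.stabilizer M ω := by
          rw [MulAction.mem_stabilizer_iff, mul_smul]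
          exact inv_smul_eq_iff.2 hxy.symm
        rw [hst ω, Subgroup.mem_bot] at h1
        exact eq_of_inv_mul_eq_one h1
      · intro y
        exact MulAction.exists_smul_eq M ω y
    exact (Nat.card_congr (Equiv.ofBijective _ hinj)).symm
  rw [hcΩ, hMcard] at hcard
  have hrp : r = p := by
    have h1 : r ∣ p ^ b := by
      rw [← hcard]
      exact dvd_pow_self r hd.ne'
    exact (Nat.prime_dvd_prime_iff_eq hr hp.out).1 (hr.dvd_of_dvd_pow h1)
  subst hrp
  -- the decomposition of `w`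
  obtain ⟨⟨m, h⟩, hmh⟩ := hcompl.2 w
  have hmh' : w = (m : G) * (h : G) := hmh.symm
  -- the order of `w`
  have hper : Function.minimalPeriod (w • ·) ω = r ^ b := by
    have hfin : Fintype (MulAction.orbit (Subgroup.zpowers w) ω) := Fintype.ofFinite _
    rw [MulAction.minimalPeriod_eq_card, ← Nat.card_eq_fintype_card]
    have h1 : MulAction.orbit (Subgroup.zpowers w) ω = Set.univ := by
      rw [Set.eq_univ_iff_forall]
      intro y
      obtain ⟨k, hk⟩ := hw ω y
      exact ⟨⟨w ^ k, k, by simp⟩, hk⟩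
    rw [h1, Nat.card_congr (Equiv.Set.univ Ω), hcΩ, hMcard, hcard]
  have hwk : ∀ k : ℕ, w ^ k • ω = ω ↔ r ^ b ∣ k := by
    intro k
    rw [← hper]
    have h1 : (w ^ k • ω = ω) ↔ Function.IsPeriodicPt (w • ·) k ω := by
      rw [Function.IsPeriodicPt, Function.IsFixedPt, smul_iterate]
    rw [h1]
    exact Function.isPeriodicPt_iff_minimalPeriod_dvd
  have hwp : w ^ (r ^ b) = 1 := by
    apply FaithfulSMul.eq_of_smul_eq_smul (α := Ω)
    intro y
    obtain ⟨k, hk⟩ := hw ω y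
    rw [← hk, ← mul_smul, ← pow_add, add_comm, pow_add, mul_smul, (hwk _).2 dvd_rfl, one_smul]
  have h1 := pow_eq_one hp2 hb M hcomm hMr (hMcard.trans hcard) w m h m.2 hmh' hwp (by
    intro k hk
    have h2 : (h : G) ^ k ∈ MulAction.stabilizer G ω ⊓ Subgroup.centralizer (M : Set G) := by
      refine ⟨pow_mem h.2 k, ?_⟩
      intro x hx
      exact (hk x hx).symm
    rwa [hcent, Subgroup.mem_bot] at h2)
  have h2 := (hwk (r ^ (b - 1))).1 (by rw [h1, one_smul])
  have h3 := Nat.le_of_dvd (pow_pos hr.pos _) h2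
  omega

end Cfsg.Agent.H106.RegPrim
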